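import Cfsg.Agent.RegUnip.Quad

/-!
The involution of a quadratic element commuting with a regular unipotent element.
-/

set_option autoImplicit false

namespace Cfsg.Agent.RegUnip

open Finset Matrix

universe u

variable {p : ℕ} [hp : Fact p.Prime] {d : ℕ}

theorem finrank_tail (a : ℕ) :
    Module.finrank (ZMod p) (Tail (ZMod p) d a) = d - a := by
  rcases Nat.lt_or_ge d a with h | h
  · have : Tail (ZMod p) d a = ⊥ := by
      rw [eq_bot_iff]
      intro v hv
      exact (Submodule.mem_bot _).2 (funext fun i => hv i (lt_trans i.2 h))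
    rw [this, finrank_bot]
    omega
  · let f : Tail (ZMod p) d a →ₗ[ZMod p] (Fin (d - a) → ZMod p) :=
      { toFun := fun v i => v.1 ⟨a + (i : ℕ), by omega⟩
        map_add' := fun v w => rfl
        map_smul' := fun c v => rfl }
    have hf : Function.Bijective f := by
      refine ⟨fun v w he => Subtype.ext (funext fun i => ?_), fun w => ?_⟩
      · rcases Nat.lt_or_ge (i : ℕ) a with hi | hi
        · rw [v.2 i hi, w.2 i hi]
        · have := congrFun he ⟨(i : ℕ) - a, by omega⟩
          have e : (⟨a + ((i : ℕ) - a), by omega⟩ : Fin d) = i := Fin.ext (by simp; omega)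
          simpa [f, e] using this
      · refine ⟨⟨fun i => if hi : a ≤ (i : ℕ) then w ⟨(i : ℕ) - a, by omega⟩ else 0,
          fun i hi => dif_neg (by omega)⟩, funext fun i => ?_⟩
        simp [f]
    rw [(LinearEquiv.ofBijective f hf).finrank_eq, Module.finrank_fin_fun]

/-- A matrix carrying the shift to a matrix of positive degree is lower triangular. -/
theorem low_of_conj {T N' : Matrix (Fin d) (Fin d) (ZMod p)} (hT : T * shift (ZMod p) d = N' * T)
    (hN : Low (fdeg d) 1 N') : Low (fdeg d) 0 T := fun i l hne => by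
  have hd : 0 < d := lt_of_le_of_lt (Nat.zero_le _) i.2
  have hTpow : ∀ a : ℕ, T * shift (ZMod p) d ^ a = N' ^ a * T := fun a => by
    induction a with
    | zero => simp
    | succ a ih => rw [pow_succ, pow_succ, ← mul_assoc, ih, mul_assoc, hT, ← mul_assoc]
  have hcol : T i l = (N' ^ (l : ℕ) * T) i ⟨0, hd⟩ := by
    rw [← hTpow, Matrix.mul_apply, Finset.sum_eq_single l]
    · rw [shift_pow_apply, if_pos (by show (l : ℕ) = 0 + l; omega), mul_one]
    · intro r _ hr
      rw [shift_pow_apply, if_neg (fun h => hr (Fin.ext (by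
        have : (r : ℕ) = 0 + l := h; omega))), mul_zero]
    · simp
  rw [hcol, Matrix.mul_apply] at hne
  obtain ⟨r, -, hr⟩ := exists_ne_zero_of_sum_ne_zero hne
  have h1 := (hN.pow (l : ℕ)) i r (left_ne_zero_of_mul hr)
  simp only [fdeg] at h1 ⊢
  omega

variable {G : Type u} [Group G] [Finite G] {ρ : G →* Matrix (Fin d) (Fin d) (ZMod p)}
  {P : Sylow p G} {H : Subgroup G} {z : G} {j : ℕ} {c₀ : ZMod p}

theorem quad_sq (hjd : 2 * j ≥ d) (hlow : Low (fdeg d) j (ρ z - 1)) :
    (ρ z - 1) * (ρ z - 1) = 0 := low_eq_zero (by omega) (hlow.mul hlow)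

omit [Finite G] in
theorem quad_ne (hjd : j < d) (hc₀ : c₀ ≠ 0)
    (hlead : Cong (fdeg d) (j + 1) (ρ z - 1) (c₀ • shift (ZMod p) d ^ j)) : z ≠ 1 := fun e => by
  have h1 := hlead.apply_eq (i := (⟨j, hjd⟩ : Fin d)) (l := ⟨0, by omega⟩)
    (by simp only [fdeg]; omega)
  rw [show ρ z - 1 = 0 by rw [e, map_one, sub_self], Matrix.smul_apply, shift_pow_apply,
    if_pos (show j = 0 + j by omega), smul_eq_mul, mul_one] at h1
  exact hc₀ h1.symm

omit [Finite G] in
/-- Image and kernel of a matrix with leading term `c₀ N ^ j` commuting with the shift. -/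
theorem quad_range_ker (hjd : j < d) (hc₀ : c₀ ≠ 0) (hlow : Low (fdeg d) j (ρ z - 1))
    (hlead : Cong (fdeg d) (j + 1) (ρ z - 1) (c₀ • shift (ZMod p) d ^ j))
    (hcomm : Commute (ρ z) (shift (ZMod p) d)) :
    LinearMap.range (ρ z - 1).mulVecLin = Tail (ZMod p) d j ∧
      LinearMap.ker (ρ z - 1).mulVecLin = Tail (ZMod p) d (d - j) := by
  set Y := ρ z - 1
  have hNY : Commute (shift (ZMod p) d) Y := (hcomm.sub_left (Commute.one_left _)).symm
  have hentry : ∀ i l : Fin d, (i : ℕ) = (l : ℕ) + j → Y i l = c₀ := fun i l hil => by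
    rw [hlead.apply_eq (by simp only [fdeg]; omega), Matrix.smul_apply, shift_pow_apply, if_pos hil,
      smul_eq_mul, mul_one]
  refine ⟨le_antisymm ?_ ?_, le_antisymm ?_ ?_⟩
  · rintro _ ⟨w, rfl⟩ i hi
    show (Y *ᵥ w) i = 0
    rw [Matrix.mulVec, dotProduct]
    exact Finset.sum_eq_zero fun l _ => by
      rw [hlow.apply_eq_zero (by simp only [fdeg]; omega), zero_mul]
  · refine mem_of_lead low_shift shift_lead (W := LinearMap.range Y.mulVecLin) ?_ (d - j) j (by omega)
      (Y *ᵥ Pi.single ⟨0, by omega⟩ 1) ⟨_, rfl⟩ ?_ fun i hi => ?_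
    · rintro _ ⟨w, rfl⟩
      refine ⟨shift (ZMod p) d *ᵥ w, ?_⟩
      show Y *ᵥ _ = shift (ZMod p) d *ᵥ (Y *ᵥ w)
      rw [Matrix.mulVec_mulVec, Matrix.mulVec_mulVec, hNY.eq]
    · intro i hi
      rw [Matrix.mulVec_single_one]
      exact hlow.apply_eq_zero (by simp only [fdeg]; omega)
    · rw [Matrix.mulVec_single_one]
      show Y i _ ≠ 0
      rw [hentry i _ (by show (i : ℕ) = 0 + j; omega)]
      exact hc₀
  · have hinv : ∀ v ∈ LinearMap.ker Y.mulVecLin,
        shift (ZMod p) d *ᵥ v ∈ LinearMap.ker Y.mulVecLin := fun v hv => by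
      have hv' : Y *ᵥ v = 0 := hv
      show Y *ᵥ _ = 0
      rw [Matrix.mulVec_mulVec, ← hNY.eq, ← Matrix.mulVec_mulVec, hv', Matrix.mulVec_zero]
    obtain ⟨a, had, ha⟩ := eq_tail low_shift shift_lead hinv
    rw [ha]
    intro v hv i hi
    refine hv i ?_
    by_contra hge
    have hmem : (Pi.single ⟨d - j - 1, by omega⟩ 1 : Fin d → ZMod p) ∈ LinearMap.ker Y.mulVecLin := by
      rw [ha]
      intro r hr
      refine Pi.single_eq_of_ne (fun e => ?_) 1
      have : (r : ℕ) = d - j - 1 := congrArg Fin.val e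
      omega
    have h0 : Y *ᵥ _ = 0 := hmem
    rw [Matrix.mulVec_single_one] at h0
    have h1 := congrFun h0 ⟨d - 1, by omega⟩
    rw [Matrix.col_apply, hentry _ _ (by show d - 1 = d - j - 1 + j; omega)] at h1
    exact hc₀ h1
  · intro v hv
    show Y *ᵥ v = 0
    funext i
    rw [Matrix.mulVec, dotProduct]
    refine Finset.sum_eq_zero fun l _ => ?_
    rcases Nat.lt_or_ge (l : ℕ) (d - j) with hl | hl
    · rw [hv l hl, mul_zero]
    · rw [hlow.apply_eq_zero (by simp only [fdeg]; omega), zero_mul]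

theorem two_ne_zero' (hp5 : 5 ≤ p) : (2 : ZMod p) ≠ 0 := by
  intro h
  have h' : ((2 : ℕ) : ZMod p) = 0 := by exact_mod_cast h
  rw [ZMod.natCast_eq_zero_iff] at h'
  have := Nat.le_of_dvd (by omega) h'
  omega

/-- When the image is the kernel, the involution is `-1`. -/
theorem quad_scalar (hp5 : 5 ≤ p) (hρ : Function.Injective ρ) (h : SEH P H) (hd : d = 2 * j)
    (hj : 0 < j) (hc₀ : c₀ ≠ 0) (hz : z ∈ P) (hlow : Low (fdeg d) j (ρ z - 1))
    (hlead : Cong (fdeg d) (j + 1) (ρ z - 1) (c₀ • shift (ZMod p) d ^ j))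
    (hcomm : Commute (ρ z) (shift (ZMod p) d)) :
    ∃ g u : G, u ∈ Subgroup.closure ({z, g * z * g⁻¹} : Set G) ∧ ρ u = -1 := by
  obtain ⟨g, u, hu, hu2, huz, -, hk, -⟩ := exists_invol hp5 hρ h hz (quad_ne (by omega) hc₀ hlead)
    (quad_sq (by omega) hlow)
  obtain ⟨hR, hW⟩ := quad_range_ker (by omega) hc₀ hlow hlead hcomm
  rw [show d - j = j by omega, ← hR] at hW
  refine ⟨g, u, hu, ?_⟩
  set T := ρ u
  have hYT : Commute (ρ z - 1) (T + 1) := by
    have h1 : Commute (ρ z) T := huz.symm.map ρ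
    exact ((h1.add_right (Commute.one_right _)).sub_left (Commute.one_left _))
  have hT2 : T * T = 1 := by rw [← map_mul, hu2, map_one]
  have h2 : (T + 1) * (T + 1) = 0 := Matrix.ext_of_mulVec_single fun i => by
    rw [Matrix.zero_mulVec, ← Matrix.mulVec_mulVec]
    have hmem : (T + 1) *ᵥ Pi.single i 1 ∈ LinearMap.ker (ρ z - 1).mulVecLin := by
      show (ρ z - 1) *ᵥ _ = 0
      rw [Matrix.mulVec_mulVec, hk, Matrix.zero_mulVec]
    rw [hW] at hmem
    obtain ⟨v, hv⟩ := hmem
    have hv' : (ρ z - 1) *ᵥ v = (T + 1) *ᵥ Pi.single i 1 := hv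
    rw [← hv', Matrix.mulVec_mulVec, ← hYT.eq, hk, Matrix.zero_mulVec]
  have h3 : (2 : ZMod p) • (T + 1) = 0 := by
    rw [← h2, show (T + 1) * (T + 1) = T * T + T + T + 1 by noncomm_ring, hT2, two_smul]
    abel
  exact eq_neg_of_add_eq_zero_left ((smul_eq_zero.1 h3).resolve_left (two_ne_zero' hp5))

/-- The case `d / 2 < j`. -/
theorem quad_false (hp5 : 5 ≤ p) (hρ : Function.Injective ρ) (h : SEH P H) (hd4 : 4 ≤ d)
    (hdp : d ≤ p) {x : G} (hx : x ∈ P) (hρx : ρ x = 1 + shift (ZMod p) d)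
    (hprop : ∀ q ∈ P, Low (fdeg d) 1 (ρ q - 1) ∧
      ∃ α : ZMod p, ∀ i l : Fin d, (i : ℕ) = (l : ℕ) + 1 → (l : ℕ) + 3 ≤ d → (ρ q - 1) i l = α)
    (hz : z ∈ P) (hjd : j < d) (hdj : d < 2 * j) (hc₀ : c₀ ≠ 0) (hlow : Low (fdeg d) j (ρ z - 1))
    (hlead : Cong (fdeg d) (j + 1) (ρ z - 1) (c₀ • shift (ZMod p) d ^ j))
    (hcomm : Commute (ρ z) (shift (ZMod p) d)) : False := by
  classical
  obtain ⟨g, u, hu, hu2, huz, huy, hk, hk'⟩ := exists_invol hp5 hρ h hz (quad_ne hjd hc₀ hlead)
    (quad_sq (by omega) hlow)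
  obtain ⟨hR, hW⟩ := quad_range_ker hjd hc₀ hlow hlead hcomm
  set Y := ρ z - 1 with hY
  set y := g * z * g⁻¹ with hy
  set Y' := ρ y - 1 with hY'
  set T := ρ u with hT
  set c := d - j with hc
  have hc1 : 1 ≤ c := by omega
  have hcj : c < j := by omega
  have h2 := two_ne_zero' (p := p) hp5
  have hT2 : T * T = 1 := by rw [hT, ← map_mul, hu2, map_one]
  have hYT : Commute Y T := (huz.symm.map ρ).sub_left (Commute.one_left _)
  have hsq : (T + 1) * (T + 1) = (2 : ZMod p) • (T + 1) := by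
    rw [show (T + 1) * (T + 1) = T * T + T + T + 1 by noncomm_ring, hT2, two_smul]
    abel
  set U := LinearMap.range (T + 1).mulVecLin with hU
  set M := LinearMap.ker (T + 1).mulVecLin with hM
  set W := LinearMap.ker Y.mulVecLin with hWd
  set W' := LinearMap.ker Y'.mulVecLin with hW'd
  have memM : ∀ v, v ∈ M ↔ (T + 1) *ᵥ v = 0 := fun v => Iff.rfl
  have hUW : U ≤ W := by
    rintro _ ⟨v, rfl⟩
    show Y *ᵥ ((T + 1) *ᵥ v) = 0
    rw [Matrix.mulVec_mulVec, hk, Matrix.zero_mulVec]
  have hUW' : U ≤ W' := by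
    rintro _ ⟨v, rfl⟩
    show Y' *ᵥ ((T + 1) *ᵥ v) = 0
    rw [Matrix.mulVec_mulVec, hk', Matrix.zero_mulVec]
  -- the two eigenspaces
  have hUM : U ⊓ M = ⊥ := by
    rw [eq_bot_iff]
    rintro _ ⟨⟨v, rfl⟩, hv⟩
    have hv' : (T + 1) *ᵥ ((T + 1) *ᵥ v) = 0 := hv
    rw [Matrix.mulVec_mulVec, hsq, Matrix.smul_mulVec] at hv'
    exact (Submodule.mem_bot _).2 ((smul_eq_zero.1 hv').resolve_left h2)
  have hsum : ∀ X : Submodule (ZMod p) (Fin d → ZMod p), U ≤ X →
      Module.finrank (ZMod p) U + Module.finrank (ZMod p) (X ⊓ M : Submodule _ _) =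
        Module.finrank (ZMod p) X := by
    intro X hUX
    have h1 := Submodule.finrank_sup_add_finrank_inf_eq U (X ⊓ M)
    have hbot : U ⊓ (X ⊓ M) = ⊥ := eq_bot_iff.2 ((inf_le_inf le_rfl inf_le_right).trans hUM.le)
    have hsup : U ⊔ (X ⊓ M) = X := by
      refine le_antisymm (sup_le hUX inf_le_left) fun v hv => ?_
      rw [Submodule.mem_sup]
      refine ⟨(2 : ZMod p)⁻¹ • ((T + 1) *ᵥ v), U.smul_mem _ ⟨v, rfl⟩,
        v - (2 : ZMod p)⁻¹ • ((T + 1) *ᵥ v),
        ⟨X.sub_mem hv (X.smul_mem _ (hUX ⟨v, rfl⟩)), ?_⟩, add_sub_cancel _ _⟩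
      rw [SetLike.mem_coe, memM, Matrix.mulVec_sub, Matrix.mulVec_smul, Matrix.mulVec_mulVec, hsq,
        Matrix.smul_mulVec, smul_smul, inv_mul_cancel₀ h2, one_smul, sub_self]
    rw [hbot, hsup, finrank_bot, add_zero] at h1
    exact h1.symm
  have hdis : (W ⊓ M) ⊓ (W' ⊓ M) = ⊥ := by
    rw [eq_bot_iff]
    rintro v ⟨⟨hv1, hv2⟩, ⟨hv3, -⟩⟩
    have hA : ∀ a ∈ Subgroup.closure ({z, y} : Set G), ρ a *ᵥ v = v := by
      intro a ha
      induction ha using Subgroup.closure_induction with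
      | mem s hs =>
        rcases hs with rfl | hs
        · have : Y *ᵥ v = 0 := hv1
          rwa [hY, Matrix.sub_mulVec, Matrix.one_mulVec, sub_eq_zero] at this
        · rw [Set.mem_singleton_iff] at hs
          subst hs
          have : Y' *ᵥ v = 0 := hv3
          rwa [hY', Matrix.sub_mulVec, Matrix.one_mulVec, sub_eq_zero] at this
      | one => rw [map_one, Matrix.one_mulVec]
      | mul a b _ _ ha hb => rw [map_mul, ← Matrix.mulVec_mulVec, hb, ha]
      | inv a _ ha =>
        conv_lhs => rw [← ha]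
        rw [Matrix.mulVec_mulVec, ← map_mul, inv_mul_cancel, map_one, Matrix.one_mulVec]
    have h4 : (T + 1) *ᵥ v = 0 := hv2
    rw [Matrix.add_mulVec, Matrix.one_mulVec, hT, hA u hu, ← two_smul (ZMod p)] at h4
    exact (Submodule.mem_bot _).2 ((smul_eq_zero.1 h4).resolve_left h2)
  have hWW' : Module.finrank (ZMod p) W ≤ Module.finrank (ZMod p) W' := by
    let f := (ρ g).mulVecLin
    have hf : Function.Injective f := fun a b he => by
      have := congrArg (fun v => ρ g⁻¹ *ᵥ v) he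
      simpa [f, Matrix.mulVec_mulVec, ← map_mul] using this
    refine (Submodule.equivMapOfInjective f hf W).finrank_eq.le.trans (Submodule.finrank_mono ?_)
    rintro _ ⟨v, hv, rfl⟩
    have hv' : Y *ᵥ v = 0 := hv
    show Y' *ᵥ (ρ g *ᵥ v) = 0
    have e : Y' * ρ g = ρ g * Y := by
      rw [hY', hy, hY, sub_mul, mul_sub, one_mul, mul_one, ← map_mul, ← map_mul, inv_mul_cancel_right]
    rw [Matrix.mulVec_mulVec, e, ← Matrix.mulVec_mulVec, hv', Matrix.mulVec_zero]
  have hdimW : Module.finrank (ZMod p) W = j := by rw [hW, finrank_tail]; omega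
  have hX := hsum W hUW
  have hX' := hsum W' hUW'
  have htop := hsum ⊤ le_top
  rw [top_inf_eq, finrank_top, Module.finrank_fin_fun] at htop
  have hXX : Module.finrank (ZMod p) (W ⊓ M : Submodule _ _) +
      Module.finrank (ZMod p) (W' ⊓ M : Submodule _ _) ≤ Module.finrank (ZMod p) M := by
    have h1 := Submodule.finrank_sup_add_finrank_inf_eq (W ⊓ M) (W' ⊓ M)
    rw [hdis, finrank_bot, add_zero] at h1
    rw [← h1]
    exact Submodule.finrank_mono (sup_le inf_le_right inf_le_right)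
  have hRX : Tail (ZMod p) d j ≤ W ⊓ M := by
    rw [← hR]
    rintro _ ⟨v, rfl⟩
    refine ⟨?_, ?_⟩
    · show Y *ᵥ (Y *ᵥ v) = 0
      rw [Matrix.mulVec_mulVec, hY, quad_sq (by omega) hlow, Matrix.zero_mulVec]
    · show (T + 1) *ᵥ (Y *ᵥ v) = 0
      rw [Matrix.mulVec_mulVec, ← (hYT.add_right (Commute.one_right Y)).eq, hk, Matrix.zero_mulVec]
  have hXR : W ⊓ M = Tail (ZMod p) d j :=
    (Submodule.eq_of_le_of_finrank_le hRX (by rw [finrank_tail]; omega)).symm
  -- the layers
  let η : Fin d → ZMod p := fun i => if c ≤ (i : ℕ) ∧ (i : ℕ) < j then 1 else -1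
  let D : Fin d → ℤ := fun i => (if c ≤ (i : ℕ) then 1 else 0) + if j ≤ (i : ℕ) then 1 else 0
  have hrow : ∀ i l : Fin d, (i : ℕ) < c → (T + 1) i l = 0 := fun i l hi => by
    have h1 : (T + 1) *ᵥ Pi.single l 1 ∈ W := hUW ⟨_, rfl⟩
    rw [hW, Matrix.mulVec_single_one] at h1
    exact h1 i hi
  have hcol : ∀ i l : Fin d, j ≤ (l : ℕ) → (T + 1) i l = 0 := fun i l hl => by
    have h0 : (Pi.single l 1 : Fin d → ZMod p) ∈ Tail (ZMod p) d j := fun r hr =>
      Pi.single_eq_of_ne (fun e => by subst e; omega) 1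
    have h1 : (Pi.single l 1 : Fin d → ZMod p) ∈ M := (hRX h0).2
    rw [memM, Matrix.mulVec_single_one] at h1
    exact congrFun h1 i
  have hmid : ∀ i l : Fin d, (i : ℕ) < j → c ≤ (l : ℕ) → (T - 1) i l = 0 := fun i l hi hl => by
    have he : (Pi.single l 1 : Fin d → ZMod p) ∈ W := by
      rw [hW]
      exact fun r hr => Pi.single_eq_of_ne (fun e => by subst e; omega) 1
    have h1 : (T - 1) *ᵥ Pi.single l 1 ∈ W ⊓ M := by
      refine ⟨?_, ?_⟩
      · show Y *ᵥ _ = 0
        have he' : Y *ᵥ Pi.single l 1 = 0 := he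
        rw [Matrix.mulVec_mulVec, (hYT.sub_right (Commute.one_right Y)).eq, ← Matrix.mulVec_mulVec, he',
          Matrix.mulVec_zero]
      · show (T + 1) *ᵥ _ = 0
        rw [Matrix.mulVec_mulVec, show (T + 1) * (T - 1) = T * T - 1 by noncomm_ring, hT2, sub_self,
          Matrix.zero_mulVec]
    rw [hXR, Matrix.mulVec_single_one] at h1
    exact h1 i hi
  have hTη : Low D 1 (T - Matrix.diagonal η) := fun i l hne => by
    by_contra hlt
    refine hne ?_
    simp only [D] at hlt
    rcases Nat.lt_or_ge (i : ℕ) c with hic | hic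
    · have h1 := hrow i l hic
      rcases eq_or_ne i l with rfl | hil
      · rw [Matrix.sub_apply, Matrix.diagonal_apply_eq, show η i = -1 from if_neg (by omega), sub_neg_eq_add]
        rw [Matrix.add_apply, Matrix.one_apply_eq] at h1
        exact h1
      · rw [Matrix.sub_apply, Matrix.diagonal_apply_ne _ hil, sub_zero]
        rwa [Matrix.add_apply, Matrix.one_apply_ne hil, add_zero] at h1
    rcases Nat.lt_or_ge (l : ℕ) j with hlj | hlj
    · have hlc : c ≤ (l : ℕ) := by
        by_contra hlc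
        rw [if_pos hic, if_neg hlc, if_neg (show ¬ j ≤ (l : ℕ) by omega)] at hlt
        split_ifs at hlt <;> omega
      have hij : (i : ℕ) < j := by
        by_contra hij
        rw [if_pos hic, if_pos (show j ≤ (i : ℕ) by omega), if_pos hlc, if_neg (show ¬ j ≤ (l : ℕ) by omega)] at hlt
        omega
      have h1 := hmid i l hij hlc
      rcases eq_or_ne i l with rfl | hil
      · rw [Matrix.sub_apply, Matrix.diagonal_apply_eq, show η i = 1 from if_pos ⟨hic, hij⟩]
        rwa [Matrix.sub_apply, Matrix.one_apply_eq] at h1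
      · rw [Matrix.sub_apply, Matrix.diagonal_apply_ne _ hil, sub_zero]
        rwa [Matrix.sub_apply, Matrix.one_apply_ne hil, sub_zero] at h1
    · have h1 := hcol i l hlj
      rcases eq_or_ne i l with rfl | hil
      · rw [Matrix.sub_apply, Matrix.diagonal_apply_eq, show η i = -1 from if_neg (by omega), sub_neg_eq_add]
        rw [Matrix.add_apply, Matrix.one_apply_eq] at h1
        exact h1
      · rw [Matrix.sub_apply, Matrix.diagonal_apply_ne _ hil, sub_zero]
        rwa [Matrix.add_apply, Matrix.one_apply_ne hil, add_zero] at h1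
  have hDmono : ∀ i l : Fin d, (l : ℕ) ≤ (i : ℕ) → D l ≤ D i := fun i l hil => by
    simp only [D]
    split_ifs <;> omega
  have hPD : ∀ q ∈ P, Low D 0 (ρ q) := fun q hq i l hne => by
    rw [add_zero]
    refine hDmono i l ?_
    rcases eq_or_ne i l with rfl | hil
    · exact le_rfl
    · have := (hprop q hq).1 i l (by rwa [Matrix.sub_apply, Matrix.one_apply_ne hil, sub_zero])
      simp only [fdeg] at this
      omega
  let O : Subgroup G :=
    { carrier := {a | Low D 1 (ρ a - 1)}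
      one_mem' := by
        show Low D 1 (ρ 1 - 1)
        rw [map_one, sub_self]; exact Low.zero
      mul_mem' := fun {a b} ha hb => by
        show Low D 1 (ρ (a * b) - 1)
        rw [map_mul, show ρ a * ρ b - 1 = (ρ a - 1) + (ρ a - 1) * (ρ b - 1) + (ρ b - 1) by noncomm_ring]
        exact (Low.add ha ((Low.mul ha hb).mono (by omega))).add hb
      inv_mem' := fun {a} ha => by
        show Low D 1 (ρ a⁻¹ - 1)
        have hpow : ∀ r : ℕ, Low D 1 (ρ (a ^ r) - 1) := fun r => by
          induction r with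
          | zero => rw [pow_zero, map_one, sub_self]; exact Low.zero
          | succ r ih =>
            rw [pow_succ, map_mul, show ρ (a ^ r) * ρ a - 1 =
              (ρ (a ^ r) - 1) + (ρ (a ^ r) - 1) * (ρ a - 1) + (ρ a - 1) by noncomm_ring]
            exact (Low.add ih ((Low.mul ih ha).mono (by omega))).add ha
        have e : a⁻¹ = a ^ (orderOf a - 1) := by
          refine inv_eq_of_mul_eq_one_right ?_
          rw [← pow_succ', Nat.sub_add_cancel (orderOf_pos a), pow_orderOf_eq_one]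
        rw [e]; exact hpow _ }
  have hOp : IsPGroup p O := by
    intro a
    refine ⟨1, Subtype.ext (hρ ?_)⟩
    rw [pow_one, Subgroup.coe_pow, map_pow, Subgroup.coe_one, map_one]
    have h0 : (ρ (a : G) - 1) ^ p = 0 := by
      ext i l
      refine (Low.pow a.2 p).apply_eq_zero ?_
      simp only [D]
      split_ifs <;> omega
    obtain ⟨r, hr⟩ := Commute.exists_add_pow_prime_eq hp.out (Commute.one_left (ρ (a : G) - 1))
    rw [add_sub_cancel, one_pow, h0] at hr
    have hp0 : ((p : Matrix (Fin d) (Fin d) (ZMod p))) = 0 := by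
      rw [← Matrix.diagonal_natCast, ZMod.natCast_self]
      exact Matrix.diagonal_zero
    rw [hr, hp0]
    simp
  have hOconj : ∀ q ∈ P, ∀ a ∈ O, q * a * q⁻¹ ∈ O := by
    intro q hq a ha
    show Low D 1 (ρ (q * a * q⁻¹) - 1)
    rw [show ρ (q * a * q⁻¹) - 1 = ρ q * (ρ a - 1) * ρ q⁻¹ by
      rw [map_mul, map_mul, mul_sub, sub_mul, mul_one, ← map_mul ρ q q⁻¹, mul_inv_cancel, map_one]]
    exact (((hPD q hq).mul ha).mul (hPD q⁻¹ (P.inv_mem hq))).mono (by omega)
  have hsupP : O ≤ P := by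
    have hn : (P : Subgroup G) ≤ Subgroup.normalizer (O : Set G) := fun q hq => by
      refine Subgroup.mem_normalizer_iff.2 fun a => ⟨hOconj q hq a, fun ha => ?_⟩
      have := hOconj q⁻¹ (P.inv_mem hq) _ ha
      simpa [mul_assoc] using this
    have h1 := P.3 (IsPGroup.to_sup_of_normal_right' P.2 hOp hn) le_sup_left
    exact le_sup_right.trans_eq h1
  have hDdiag : Low D 0 (Matrix.diagonal η) := fun i l hne => by
    rcases eq_or_ne i l with rfl | hil
    · simp
    · exact absurd (Matrix.diagonal_apply_ne _ hil) hne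
  have hcomO : x * u * x⁻¹ * u⁻¹ ∈ O := by
    show Low D 1 (ρ (x * u * x⁻¹ * u⁻¹) - 1)
    have hui : u⁻¹ = u := inv_eq_of_mul_eq_one_right hu2
    rw [hui, show ρ (x * u * x⁻¹ * u) - 1 = (ρ x * T - T * ρ x) * (ρ x⁻¹ * T) by
      rw [sub_mul, ← mul_assoc, ← mul_assoc, mul_assoc T, hT, ← map_mul, ← map_mul, ← map_mul,
        ← map_mul, mul_inv_cancel, map_one, mul_one, ← map_mul, hu2, map_one]]
    have hXT : Low D 1 (ρ x * T - T * ρ x) := by
      rw [hρx, show (1 + shift (ZMod p) d) * T - T * (1 + shift (ZMod p) d) =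
        (shift (ZMod p) d * Matrix.diagonal η - Matrix.diagonal η * shift (ZMod p) d) +
          (shift (ZMod p) d * (T - Matrix.diagonal η) - (T - Matrix.diagonal η) * shift (ZMod p) d) by
          noncomm_ring]
      have hN : Low D 0 (shift (ZMod p) d) := fun i l hne => by
        rw [shift_apply] at hne
        split_ifs at hne with hil
        · rw [add_zero]; exact hDmono i l (by omega)
        · exact absurd rfl hne
      refine Low.add (fun i l hne => ?_) (((hN.mul hTη).mono (by omega)).sub ((hTη.mul hN).mono (by omega)))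
      by_contra hlt
      refine hne ?_
      rw [Matrix.sub_apply, Matrix.mul_diagonal, Matrix.diagonal_mul, shift_apply]
      split_ifs with hil
      · have : η i = η l := by
          simp only [D] at hlt
          simp only [η]
          split_ifs at hlt ⊢ <;> first | rfl | omega
        rw [this, one_mul, mul_one, sub_self]
      · simp
    have hT0 : Low D 0 T := by
      rw [show T = (T - Matrix.diagonal η) + Matrix.diagonal η by abel]
      exact (hTη.mono (by omega)).add hDdiag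
    exact (hXT.mul ((hPD x⁻¹ (P.inv_mem hx)).mul hT0)).mono (by omega)
  have hx' : u * x * u⁻¹ ∈ P := by
    have h1 : x⁻¹ * (x * u * x⁻¹ * u⁻¹) ∈ P := P.mul_mem (P.inv_mem hx) (hsupP hcomO)
    have h2 := P.inv_mem h1
    show u * x * u⁻¹ ∈ (P : Subgroup G)
    simpa [mul_assoc] using h2
  obtain ⟨hx'low, α, hα⟩ := hprop _ hx'
  have hTN : T * shift (ZMod p) d = (ρ (u * x * u⁻¹) - 1) * T := by
    rw [sub_mul, one_mul, hT, ← map_mul, inv_mul_cancel_right, map_mul, hρx, mul_add, mul_one,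
      add_sub_cancel_left]
  have hT0 := low_of_conj hTN hx'low
  have hadj : ∀ (a : ℕ) (ha : a + 3 ≤ d), η ⟨a + 1, by omega⟩ = α * η ⟨a, by omega⟩ := by
    intro a ha
    set i : Fin d := ⟨a + 1, by omega⟩
    set l : Fin d := ⟨a, by omega⟩
    have hdiag : ∀ r : Fin d, T r r = η r := fun r => by
      have h1 := hTη.apply_eq_zero (i := r) (l := r) (by omega)
      rwa [Matrix.sub_apply, Matrix.diagonal_apply_eq, sub_eq_zero] at h1
    have e := congrFun (congrFun hTN i) l
    rw [Matrix.mul_apply, Matrix.mul_apply, Finset.sum_eq_single i, Finset.sum_eq_single l] at e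
    · rw [shift_apply, if_pos (show (i : ℕ) = (l : ℕ) + 1 from rfl), mul_one, hdiag, hdiag,
        hα i l rfl ha] at e
      exact e
    · intro r _ hr
      have hne : (r : ℕ) ≠ a := fun e' => hr (Fin.ext e')
      rcases Nat.lt_or_ge (r : ℕ) a with hlt | hge
      · rw [hT0.apply_eq_zero (by simp only [fdeg, l]; omega), mul_zero]
      · rw [hx'low.apply_eq_zero (by simp only [fdeg, i]; omega), zero_mul]
    · simp
    · intro r _ hr
      rw [shift_apply, if_neg (fun e' => hr (Fin.ext e')), mul_zero]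
    · simp
  have e0 := hadj 0 (by omega)
  simp only [η, if_neg (show ¬ (c ≤ 0 ∧ 0 < j) by omega)] at e0
  rcases Nat.lt_or_ge 1 c with hc2 | hc2
  · rw [if_neg (by omega), mul_neg, mul_one, neg_inj] at e0
    have e1 := hadj (c - 1) (by omega)
    simp only [η, if_neg (show ¬ (c ≤ c - 1 ∧ c - 1 < j) by omega),
      if_pos (show c ≤ c - 1 + 1 ∧ c - 1 + 1 < j by omega)] at e1
    rw [← e0, one_mul] at e1
    exact h2 (by linear_combination e1)
  · rw [if_pos (by omega), mul_neg, mul_one] at e0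
    have e1 := hadj 1 (by omega)
    simp only [η, if_pos (show c ≤ 1 + 1 ∧ 1 + 1 < j by omega),
      if_pos (show c ≤ 1 ∧ 1 < j by omega), mul_one] at e1
    rw [← e1] at e0
    exact h2 (by linear_combination e0)

end Cfsg.Agent.RegUnip
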