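import Cfsg.Agent.RegUnip.AbelianFalse
import Cfsg.Agent.RegUnip.QuadFalse
import Cfsg.Agent.RankThreeEss.Sylow

/-!
A group with a strongly embedded subgroup has no large Sylow subgroup containing a regular
unipotent element in rank below `p`, under a condition on the adjacent entries.
-/

set_option autoImplicit false

namespace Cfsg.Agent.RegUnip

open Finset Matrix
open scoped commutatorElement

universe u

variable {p : ℕ} [hp : Fact p.Prime] {d : ℕ}

/-- An element of the commutant of the shift is the polynomial given by its first column. -/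
theorem eq_poly {A : Matrix (Fin d) (Fin d) (ZMod p)} (hA : Commute A (shift (ZMod p) d)) (hd : 0 < d) :
    A = ∑ a : Fin d, A a ⟨0, hd⟩ • shift (ZMod p) d ^ (a : ℕ) := by
  refine sub_eq_zero.1 (eq_zero_of_commute low_shift shift_lead (hA.sub_left ?_) fun i l hl => ?_)
  · exact Commute.sum_left _ _ _ fun a _ => ((Commute.refl _).pow_left _).smul_left _
  · have el : l = ⟨0, hd⟩ := Fin.ext hl
    subst el
    rw [Matrix.sub_apply, Matrix.sum_apply, Finset.sum_eq_single i]
    · rw [Matrix.smul_apply, shift_pow_apply, if_pos (by simp), smul_eq_mul, mul_one, sub_self]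
    · intro a _ ha
      rw [Matrix.smul_apply, shift_pow_apply, if_neg (fun e => ha (Fin.ext (by simpa using e.symm))),
        smul_zero]
    · simp

variable {G : Type u} [Group G] [Finite G] {ρ : G →* Matrix (Fin d) (Fin d) (ZMod p)}
  {P : Sylow p G} {H : Subgroup G}

theorem commute_shift_of_commute {x q : G} (hρx : ρ x = 1 + shift (ZMod p) d) (hc : Commute q x) :
    Commute (ρ q) (shift (ZMod p) d) := by
  have h1 := (hc.map ρ).sub_right (Commute.one_right (ρ q))
  rwa [hρx, add_sub_cancel_left] at h1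

/-- The degree of a central commutator. -/
theorem degree_of_comm {z x w : G} (hρx : ρ x = 1 + shift (ZMod p) d)
    (hlw : Low (fdeg d) 1 (ρ w - 1)) (hzx : Commute z x) (hzw : Commute z w) (hzeq : z * (w * x) = x * w)
    {j : ℕ} {c : ZMod p} (hjd : j < d) (hj1 : 1 ≤ j) (hjp : j < p) (hc : c ≠ 0)
    (hlow : Low (fdeg d) j (ρ z - 1))
    (hlead : Cong (fdeg d) (j + 1) (ρ z - 1) (c • shift (ZMod p) d ^ j)) : d < 2 * j := by
  by_contra hle
  have hd : 0 < d := by omega
  set N := shift (ZMod p) d with hN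
  set Z := ρ z - 1 with hZ
  set M := ρ w - 1 with hM
  have hZN : Commute Z N := (commute_shift_of_commute hρx hzx).sub_left (Commute.one_left _)
  have hZM : Z * M = M * Z := ((hzw.map ρ).sub_right (Commute.one_right _)).sub_left (Commute.one_left _)
  have hD : N * M - M * N = Z * (ρ w * ρ x) := by
    have h1 : ρ z * (ρ w * ρ x) = ρ x * ρ w := by rw [← map_mul, ← map_mul, hzeq, map_mul]
    rw [hZ, sub_mul (ρ z), one_mul, h1, hρx, hM]
    noncomm_ring
  have hDc : Cong (fdeg d) ((j : ℤ) + 1) (N * M - M * N) (c • N ^ j) := by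
    rw [hD]
    refine Cong.trans ?_ hlead
    rw [Cong, show Z * (ρ w * ρ x) - Z = Z * ((ρ w - 1) + ρ w * (ρ x - 1)) by noncomm_ring, hρx,
      add_sub_cancel_left]
    refine hlow.mul (hlw.add ?_)
    rw [show ρ w * shift (ZMod p) d = (ρ w - 1) * shift (ZMod p) d + shift (ZMod p) d by noncomm_ring]
    exact ((hlw.mul low_shift).mono (by omega)).add low_shift
  have hDl : Low (fdeg d) j (N * M - M * N) :=
    hDc.low (((low_shift.pow j).mono (by simp)).smul c) (by omega)
  have hbr : ∀ a : ℕ, 1 ≤ a → Low (fdeg d) ((a + j - 1 : ℕ) : ℤ) (N ^ a * M - M * N ^ a) ∧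
      Cong (fdeg d) ((a + j : ℕ) : ℤ) (N ^ a * M - M * N ^ a) (((a : ℕ) : ZMod p) • (c • N ^ (a + j - 1))) := by
    intro a ha
    induction a, ha using Nat.le_induction with
    | base =>
      simp only [pow_one, Nat.cast_one, one_smul, Nat.add_sub_cancel_left]
      exact ⟨hDl, hDc.mono (by omega)⟩
    | succ a ha ih =>
      have e : N ^ (a + 1) * M - M * N ^ (a + 1) = N * (N ^ a * M - M * N ^ a) + (N * M - M * N) * N ^ a := by
        rw [pow_succ']; noncomm_ring
      have e2 : ((a + 1 : ℕ) : ZMod p) • (c • N ^ (a + 1 + j - 1)) =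
          N * (((a : ℕ) : ZMod p) • (c • N ^ (a + j - 1))) + (c • N ^ j) * N ^ a := by
        rw [mul_smul_comm, mul_smul_comm, smul_mul_assoc, ← pow_succ', ← pow_add, Nat.cast_succ, add_smul,
          one_smul, show a + j - 1 + 1 = j + a by omega, show a + 1 + j - 1 = j + a by omega]
      refine ⟨?_, ?_⟩
      · rw [e]
        exact ((low_shift.mul ih.1).mono (by omega)).add ((hDl.mul (low_shift.pow a)).mono (by omega))
      · rw [Cong, e, e2, show N * (N ^ a * M - M * N ^ a) + (N * M - M * N) * N ^ a -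
            (N * (((a : ℕ) : ZMod p) • (c • N ^ (a + j - 1))) + (c • N ^ j) * N ^ a) =
          N * ((N ^ a * M - M * N ^ a) - ((a : ℕ) : ZMod p) • (c • N ^ (a + j - 1))) +
            ((N * M - M * N) - c • N ^ j) * N ^ a by noncomm_ring]
        exact ((low_shift.mul ih.2).mono (by omega)).add ((Low.mul hDc (low_shift.pow a)).mono (by omega))
  set O : Fin d := ⟨0, hd⟩
  set I : Fin d := ⟨2 * j - 1, by omega⟩
  have h0 : (∑ a : Fin d, Z a O • (N ^ (a : ℕ) * M - M * N ^ (a : ℕ))) = 0 := by
    have e : Z = ∑ a : Fin d, Z a O • N ^ (a : ℕ) := eq_poly hZN hd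
    rw [show (∑ a : Fin d, Z a O • (N ^ (a : ℕ) * M - M * N ^ (a : ℕ))) =
      (∑ a : Fin d, Z a O • N ^ (a : ℕ)) * M - M * ∑ a : Fin d, Z a O • N ^ (a : ℕ) by
        rw [Finset.sum_mul, Finset.mul_sum, ← Finset.sum_sub_distrib]
        exact Finset.sum_congr rfl fun a _ => by rw [smul_sub, smul_mul_assoc, mul_smul_comm],
      ← e, hZM, sub_self]
  have h1 := congrFun (congrFun h0 I) O
  rw [Matrix.sum_apply, Finset.sum_eq_single (⟨j, hjd⟩ : Fin d), Matrix.smul_apply, Matrix.zero_apply,
    (hbr j hj1).2.apply_eq (by simp only [fdeg, I, O]; omega), Matrix.smul_apply, Matrix.smul_apply,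
    shift_pow_apply, if_pos (by show 2 * j - 1 = 0 + (j + j - 1); omega),
    hlead.apply_eq (by simp only [fdeg, O]; omega), Matrix.smul_apply, shift_pow_apply,
    if_pos (by show j = 0 + j; omega)] at h1
  · simp only [smul_eq_mul, mul_one] at h1
    have hj0 : ((j : ℕ) : ZMod p) ≠ 0 := fun h => by
      rw [ZMod.natCast_eq_zero_iff] at h
      have := Nat.le_of_dvd (by omega) h
      omega
    exact mul_ne_zero hc (mul_ne_zero hj0 hc) h1
  · intro a _ ha
    have hne : (a : ℕ) ≠ j := fun e => ha (Fin.ext e)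
    rw [Matrix.smul_apply]
    rcases Nat.lt_or_ge (a : ℕ) j with hlt | hge
    · rw [show Z a O = 0 from hlow.apply_eq_zero (by simp only [fdeg, O]; omega), zero_smul]
    · rw [(hbr (a : ℕ) (by omega)).1.apply_eq_zero (by simp only [fdeg, I, O]; omega), smul_zero]
  · simp

/-- The image of a pair on a block. -/
theorem Pair.map {x z : G} {j : ℕ} {c : ZMod p} (h : Pair ρ P x z j c) {a m : ℕ} (hab : a + m ≤ d)
    (ha : InvTail ρ a) (hb : InvTail ρ (a + m)) (hno : ∀ b, a < b → b < a + m → ¬ InvTail ρ b)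
    (hjm : j < m) :
    ∃ (G' : Type) (_ : Group G') (_ : Finite G') (ρ' : G' →* Matrix (Fin m) (Fin m) (ZMod p))
      (P' : Sylow p G') (x' z' : G'), Pair ρ' P' x' z' j c ∧ Irr ρ' := by
  classical
  set σ := blockHom ρ hab ha hb with hσ
  set f := σ.toHomUnits with hf
  set Q := P.mapSurjective f.rangeRestrict_surjective with hQ
  haveI : Finite f.range := Finite.of_surjective _ f.rangeRestrict_surjective
  have hQm : ∀ q' : f.range, q' ∈ Q ↔ ∃ q ∈ P, f.rangeRestrict q = q' := fun q' => by
    rw [hQ]; exact Subgroup.mem_map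
  have hcoe : ∀ q, (((f.rangeRestrict q : f.range) : (Matrix (Fin m) (Fin m) (ZMod p))ˣ) :
      Matrix (Fin m) (Fin m) (ZMod p)) = σ q := fun q => rfl
  have hblk : ∀ q, blockHom ρ hab ha hb q - 1 = blk hab (ρ q - 1) := fun q => by
    rw [blockHom_apply, blk_sub, blk_one]
  have hlead' : Cong (fdeg m) (j + 1) (σ z - 1) (c • shift (ZMod p) m ^ j) := by
    have h1 := blk_cong hab h.lead
    rwa [blk_smul, blk_shift_pow, ← hblk] at h1
  have hinjP : ∀ q ∈ P, σ q = 1 → q = 1 := by
    intro q hq he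
    obtain ⟨α, β, hα, hβ, rfl⟩ := h.gen hq
    have hd1 : 1 < m := by have := h.two; omega
    have e1 := (blk_cong hab (h.cong_mul α β)).apply_eq (i := (⟨1, hd1⟩ : Fin m)) (l := ⟨0, by omega⟩)
      (by show (1 : ℤ) < 0 + 2; omega)
    rw [← hblk, ← hσ, he, sub_self, Matrix.zero_apply, blk_smul, Matrix.smul_apply,
      show blk hab (shift (ZMod p) d) = shift (ZMod p) m by
        simpa using blk_shift_pow (k := ZMod p) hab 1,
      shift_apply, if_pos (show (1 : ℕ) = 0 + 1 from rfl), smul_eq_mul, mul_one] at e1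
    have hα0 : α = 0 := Nat.eq_zero_of_dvd_of_lt ((ZMod.natCast_eq_zero_iff _ _).1 e1.symm) hα
    subst hα0
    rw [pow_zero, one_mul] at he ⊢
    rw [map_pow] at he
    have hlow' : Low (fdeg m) j (σ z - 1) := hblk z ▸ blk_low hab h.low
    have e2 := (pow_sub_one (e := j) (by have := h.two; omega) hlow' β).2.apply_eq
      (i := (⟨j, hjm⟩ : Fin m)) (l := ⟨0, by omega⟩) (by simp only [fdeg]; omega)
    rw [he, sub_self, Matrix.zero_apply, Matrix.smul_apply, hlead'.apply_eq (by simp only [fdeg]; omega),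
      Matrix.smul_apply, shift_pow_apply, if_pos (show j = 0 + j by omega), smul_eq_mul, smul_eq_mul,
      mul_one] at e2
    have hβ0 : β = 0 := Nat.eq_zero_of_dvd_of_lt ((ZMod.natCast_eq_zero_iff _ _).1
      ((mul_eq_zero.1 e2.symm).resolve_right h.hc)) hβ
    rw [hβ0, pow_zero]
  refine ⟨f.range, inferInstance, inferInstance, (Units.coeHom _).comp f.range.subtype, Q,
    f.rangeRestrict x, f.rangeRestrict z, ⟨fun q q' he => Subtype.ext (Units.ext he), ?_, hjm, h.two, h.hc,
      ?_, (hQm _).2 ⟨x, h.xP, rfl⟩, (hQm _).2 ⟨z, h.zP, rfl⟩, ?_, ?_, hlead', ?_⟩, ?_⟩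
  · have := h.hd; omega
  · show σ x = _
    rw [hσ, blockHom_apply, h.hx]
    ext i l
    rw [blk_apply, Matrix.add_apply, Matrix.add_apply, Matrix.one_apply, Matrix.one_apply,
      shift_apply, shift_apply]
    simp [emb, Fin.ext_iff, Nat.add_assoc]
  · rw [← h.card]
    refine (Nat.card_eq_of_bijective (fun q : P => (⟨f.rangeRestrict q, (hQm _).2 ⟨q, q.2, rfl⟩⟩ : Q))
      ⟨fun q q' he => ?_, fun q' => ?_⟩).symm
    · have h1 : f.rangeRestrict ((q : G)⁻¹ * q') = 1 := by
        rw [map_mul, map_inv, show f.rangeRestrict (q : G) = f.rangeRestrict (q' : G) from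
          congrArg Subtype.val he, inv_mul_cancel]
      have h2 := hinjP _ (P.mul_mem (P.inv_mem q.2) q'.2) ((hcoe _).symm.trans (by rw [h1]; rfl))
      exact Subtype.ext (inv_mul_eq_one.1 h2)
    · obtain ⟨q, hq, he⟩ := (hQm _).1 q'.2
      exact ⟨⟨q, hq⟩, Subtype.ext he⟩
  · show Low (fdeg m) j (σ z - 1)
    exact hblk z ▸ blk_low hab h.low
  · intro q' hq'
    obtain ⟨q, hq, rfl⟩ := (hQm _).1 hq'
    exact blk_commute_shift hab (h.pres_mem hq) (h.comm q hq)
  · intro e he
    exact blockHom_irr ρ hab ha hb hno e fun g => he (f.rangeRestrict g)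

/-- The main statement. -/
theorem core_false (hp5 : 5 ≤ p) (hρ : Function.Injective ρ) (h : SEH P H) (hd2 : 2 ≤ d)
    (hdp : d ≤ p - 1) {x : G} (hx : x ∈ P) (hρx : ρ x = 1 + shift (ZMod p) d)
    (hcard : p ^ 2 ≤ Nat.card P) (hlow : ∀ q ∈ P, Low (fdeg d) 1 (ρ q - 1))
    (hadj : ∀ q ∈ P, ∃ α : ZMod p, ∀ i l : Fin d,
      (i : ℕ) = (l : ℕ) + 1 → (l : ℕ) + 3 ≤ d → (ρ q - 1) i l = α)
    (hshape : Nat.card P = p ^ 2 ∨
      ∃ w ∈ P, ⁅x, w⁆ ≠ 1 ∧ Commute ⁅x, w⁆ x ∧ Commute ⁅x, w⁆ w) : False := by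
  classical
  have hdp' : d ≤ p := by omega
  have hp2 : p < p ^ 2 := by nlinarith
  have hprop : ∀ q ∈ P, Low (fdeg d) 1 (ρ q - 1) ∧ ∃ α : ZMod p, ∀ i l : Fin d,
      (i : ℕ) = (l : ℕ) + 1 → (l : ℕ) + 3 ≤ d → (ρ q - 1) i l = α := fun q hq => ⟨hlow q hq, hadj q hq⟩
  rcases (show d = 2 ∨ d = 3 ∨ 4 ≤ d by omega) with rfl | rfl | hd4
  · -- rank two
    have hle : Nat.card P ≤ p := by
      have := Nat.card_le_card_of_injective (fun q : P => (ρ (q : G) - 1) 1 0) fun q q' he => by
        refine Subtype.ext (hρ ?_)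
        ext i l
        have hz : ∀ r : P, ∀ i l : Fin 2, (i : ℕ) ≤ (l : ℕ) → (ρ (r : G) - 1) i l = 0 := fun r i l hil =>
          (hlow r r.2).apply_eq_zero (by simp only [fdeg]; omega)
        have key : (ρ (q : G) - 1) i l = (ρ (q' : G) - 1) i l := by
          rcases Nat.lt_or_ge (l : ℕ) (i : ℕ) with hlt | hge
          · have e1 : i = 1 := Fin.ext (by show (i : ℕ) = 1; omega)
            have e2 : l = 0 := Fin.ext (by show (l : ℕ) = 0; omega)
            subst e1; subst e2; exact he
          · rw [hz q i l hge, hz q' i l hge]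
        simpa [Matrix.sub_apply] using key
      rw [Nat.card_zmod] at this
      exact this
    omega
  · -- rank three
    have hset : RankThreeEss.Setup (V := Fin 3 → ZMod p)
        ((Matrix.toLinAlgEquiv' : Matrix (Fin 3) (Fin 3) (ZMod p) ≃ₐ[ZMod p] _).toRingEquiv.toMonoidHom.comp ρ)
        P H := by
      refine ⟨?_, Module.finrank_fin_fun (ZMod p), by omega, h.top, h.ne, h.norm⟩
      exact (Matrix.toLinAlgEquiv' : Matrix (Fin 3) (Fin 3) (ZMod p) ≃ₐ[ZMod p] _).injective.comp hρ
    have := hset.card_T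
    omega
  have hsmall : ∀ {z : G} {j : ℕ} {c : ZMod p}, z ∈ P → Commute z x → j < d → c ≠ 0 →
      Low (fdeg d) j (ρ z - 1) → Cong (fdeg d) (j + 1) (ρ z - 1) (c • shift (ZMod p) d ^ j) →
      2 * j ≤ d := by
    intro z j c hz hzx hjd hc hl hld
    by_contra hgt
    exact quad_false hp5 hρ h hd4 hdp' hx hρx hprop hz hjd (by omega) hc hl hld
      (commute_shift_of_commute hρx hzx)
  have hlead : ∀ {z : G}, z ∈ P → z ≠ 1 → Commute z x → ∃ (j : ℕ) (c : ZMod p), j < d ∧ 1 ≤ j ∧ c ≠ 0 ∧
      Low (fdeg d) j (ρ z - 1) ∧ Cong (fdeg d) (j + 1) (ρ z - 1) (c • shift (ZMod p) d ^ j) := by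
    intro z hz hz1 hzx
    obtain ⟨j, c, hjd, hc, hl, hld⟩ := exists_lead
      ((commute_shift_of_commute hρx hzx).sub_left (Commute.one_left _))
      (fun e => hz1 (hρ (by rw [map_one]; exact sub_eq_zero.1 e)))
    refine ⟨j, c, hjd, Nat.one_le_iff_ne_zero.2 fun hj0 => ?_, hc, hl, hld⟩
    subst hj0
    have h1 := hld.apply_eq (i := (⟨0, by omega⟩ : Fin d)) (l := ⟨0, by omega⟩) (by simp only [fdeg]; omega)
    rw [(hlow z hz).apply_eq_zero (by simp only [fdeg]; omega), Matrix.smul_apply, shift_pow_apply,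
      if_pos (by simp), smul_eq_mul, mul_one] at h1
    exact hc h1.symm
  rcases hshape with hP2 | ⟨w, hw, hz1, hzx, hzw⟩
  · -- abelian case
    haveI : IsMulCommutative (P : Subgroup G) :=
      IsPGroup.isMulCommutative_of_card_eq_prime_sq hP2
    have hab : ∀ q ∈ P, Commute q x := fun q hq =>
      congrArg Subtype.val (mul_comm' (⟨q, hq⟩ : P) ⟨x, hx⟩)
    obtain ⟨q, hq, hqx⟩ : ∃ q ∈ P, q ∉ Subgroup.zpowers x := by
      by_contra! hc
      have h1 := Subgroup.card_le_of_le (show (P : Subgroup G) ≤ Subgroup.zpowers x from hc)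
      have h2 : x ^ p = 1 := hρ (by rw [map_pow, pow_prime_eq_one (hlow x hx) hdp', map_one])
      have h3 := orderOf_le_of_pow_eq_one hp.out.pos h2
      rw [Nat.card_zpowers, hP2] at h1
      omega
    set i1 : Fin d := ⟨1, by omega⟩
    set i0 : Fin d := ⟨0, by omega⟩
    set z := x ^ (-((ρ q - 1) i1 i0)).val * q with hzdef
    have hzP : z ∈ P := P.mul_mem (P.pow_mem hx _) hq
    have hz1 : z ≠ 1 := fun e => hqx (by
      rw [eq_inv_of_mul_eq_one_right e]
      exact Subgroup.inv_mem _ (Subgroup.pow_mem _ (Subgroup.mem_zpowers x) _))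
    obtain ⟨j, c, hjd, hj1, hc, hl, hld⟩ := hlead hzP hz1 (hab z hzP)
    have hj2 : 2 ≤ j := by
      by_contra hj
      obtain rfl : j = 1 := by omega
      refine hc ?_
      have h1 := hld.apply_eq (i := i1) (l := i0) (by simp only [fdeg, i1, i0]; omega)
      rw [Matrix.smul_apply, pow_one, shift_apply, if_pos (show (i1 : ℕ) = (i0 : ℕ) + 1 from rfl),
        smul_eq_mul, mul_one] at h1
      rw [← h1, hzdef, map_mul, map_pow]
      set a := (-((ρ q - 1) i1 i0)).val
      obtain ⟨h2, h3⟩ := pow_sub_one (e := 1) le_rfl (hlow x hx) a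
      rw [show ρ x ^ a * ρ q - 1 = (ρ x ^ a - 1) + (ρ q - 1) + (ρ x ^ a - 1) * (ρ q - 1) by noncomm_ring,
        Matrix.add_apply, Matrix.add_apply, h3.apply_eq (by simp only [fdeg, i1, i0]; omega),
        (h2.mul (hlow q hq)).apply_eq_zero (by simp only [fdeg, i1, i0]; omega), add_zero,
        Matrix.smul_apply, hρx, add_sub_cancel_left, shift_apply, if_pos (show (i1 : ℕ) = (i0 : ℕ) + 1 from rfl),
        smul_eq_mul, mul_one, ZMod.natCast_zmod_val, neg_add_cancel]
    have hle := hsmall hzP (hab z hzP) hjd hc hl hld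
    have hpair : Pair ρ P x z j c :=
      ⟨hρ, hdp, hjd, hj2, hc, hρx, hx, hzP, hP2, hl, hld,
        fun r hr => commute_shift_of_commute hρx (hab r hr)⟩
    by_cases hgap : ∀ l, l + j < d → ∃ a, l < a ∧ a ≤ l + j ∧ InvTail ρ a
    · haveI := layerKer_normal ρ
      have hmem : z ∈ layerKer ρ := low_cdeg_of_gap ρ hj1 hgap hl
      rw [h.pCore_false (layerKer_isPGroup ρ hρ hdp'), Subgroup.mem_bot] at hmem
      exact hz1 hmem
    push Not at hgap
    obtain ⟨l, hl', hno'⟩ := hgap
    obtain ⟨a, m, hal, hlm, hamd, ha, hb, hno⟩ := exists_block ρ l (by omega)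
    have hjm : j < m := by
      by_contra hmj
      exact hno' (a + m) hlm (by omega) hb
    rcases Nat.lt_or_ge (2 * j) (p - 1) with h2 | h2
    · obtain ⟨G', _, _, ρ', P', x', z', hp', hirr⟩ := hpair.map hamd ha hb hno hjm
      exact hp'.t_false hirr h2
    · have hd : d = 2 * j := by omega
      rcases Nat.lt_or_ge m d with hmd | hmd
      · obtain ⟨g, u, hu, hρu⟩ := quad_scalar hp5 hρ h hd (by omega) hc hzP hl hld
          (commute_shift_of_commute hρx (hab z hzP))
        set σ := blockHom ρ hamd ha hb with hσ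
        set K := LinearMap.ker (σ z - 1).mulVecLin
        have hKd : j ≤ Module.finrank (ZMod p) K := by
          have hle' : Tail (ZMod p) m (m - j) ≤ K := by
            intro v hv
            show (σ z - 1) *ᵥ v = 0
            funext i
            rw [Matrix.mulVec, dotProduct]
            refine Finset.sum_eq_zero fun r _ => ?_
            rcases Nat.lt_or_ge (r : ℕ) (m - j) with hr | hr
            · rw [hv r hr, mul_zero]
            · have hzl : Low (fdeg m) j (σ z - 1) := by
                rw [hσ, blockHom_apply, ← blk_one (k := ZMod p) hamd, ← blk_sub]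
                exact blk_low hamd hl
              rw [hzl.apply_eq_zero (by simp only [fdeg]; omega), zero_mul]
          have h1 := Submodule.finrank_mono hle'
          rw [finrank_tail] at h1
          omega
        let f := (σ g).mulVecLin
        have hf : Function.Injective f := fun v v' he => by
          have := congrArg (fun v => σ g⁻¹ *ᵥ v) he
          simpa [f, Matrix.mulVec_mulVec, ← map_mul] using this
        have hne : K ⊓ K.map f ≠ ⊥ := by
          intro hbot
          have h1 := Submodule.finrank_sup_add_finrank_inf_eq K (K.map f)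
          have h2' := Submodule.finrank_le (K ⊔ K.map f)
          have h3 := (Submodule.equivMapOfInjective f hf K).finrank_eq
          rw [hbot, finrank_bot, add_zero] at h1
          rw [Module.finrank_fin_fun] at h2'
          omega
        obtain ⟨v, ⟨hv1, hv2⟩, hv0⟩ := (Submodule.ne_bot_iff _).1 hne
        have hfix : ∀ b ∈ Subgroup.closure ({z, g * z * g⁻¹} : Set G), σ b *ᵥ v = v := by
          intro b hb'
          induction hb' using Subgroup.closure_induction with
          | mem s hs =>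
            rcases hs with rfl | hs
            · have : (σ z - 1) *ᵥ v = 0 := hv1
              rwa [Matrix.sub_mulVec, Matrix.one_mulVec, sub_eq_zero] at this
            · rw [Set.mem_singleton_iff] at hs
              subst hs
              obtain ⟨v', hv', rfl⟩ := hv2
              have h4 : (σ z - 1) *ᵥ v' = 0 := hv'
              rw [Matrix.sub_mulVec, Matrix.one_mulVec, sub_eq_zero] at h4
              show σ (g * z * g⁻¹) *ᵥ (σ g *ᵥ v') = σ g *ᵥ v'
              rw [Matrix.mulVec_mulVec, ← map_mul, inv_mul_cancel_right, map_mul, ← Matrix.mulVec_mulVec, h4]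
          | one => rw [map_one, Matrix.one_mulVec]
          | mul b b' _ _ hb1 hb2 => rw [map_mul, ← Matrix.mulVec_mulVec, hb2, hb1]
          | inv b _ hb1 =>
            conv_lhs => rw [← hb1]
            rw [Matrix.mulVec_mulVec, ← map_mul, inv_mul_cancel, map_one, Matrix.one_mulVec]
        have hσu : σ u = -1 := by
          rw [hσ, blockHom_apply, hρu, show (-1 : Matrix (Fin d) (Fin d) (ZMod p)) = 0 - 1 by simp,
            blk_sub, blk_one, show blk hamd (0 : Matrix (Fin d) (Fin d) (ZMod p)) = 0 from rfl, zero_sub]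
        have h5 := hfix u hu
        rw [hσu, Matrix.neg_mulVec, Matrix.one_mulVec, neg_eq_iff_add_eq_zero, ← two_smul (ZMod p)] at h5
        exact hv0 ((smul_eq_zero.1 h5).resolve_left (two_ne_zero' hp5))
      · refine hpair.trick_false (fun e he => ?_) hd (by omega)
        by_contra! hne
        exact hno e (by omega) (by omega) he
  · -- nonabelian case
    have hzP : ⁅x, w⁆ ∈ P := P.mul_mem (P.mul_mem (P.mul_mem hx hw) (P.inv_mem hx)) (P.inv_mem hw)
    obtain ⟨j, c, hjd, hj1, hc, hl, hld⟩ := hlead hzP hz1 hzx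
    have hle := hsmall hzP hzx hjd hc hl hld
    have := degree_of_comm (w := w) hρx (hlow w hw) hzx hzw (by rw [commutatorElement_def]; group) hjd hj1
      (by omega) hc hl hld
    omega

end Cfsg.Agent.RegUnip
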