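import Cfsg.Agent.RegUnip.Trace

/-!
Invariant tensors of a group irreducible on a space with a regular unipotent element, and norms
of unipotent elements.
-/

set_option autoImplicit false

namespace Cfsg.Agent.RegUnip

open Finset Matrix

universe u v

section unipotent

variable {ι : Type u} [Fintype ι] [DecidableEq ι] {k : Type v} [CommRing k] {deg : ι → ℤ}

/-- Powers of a unipotent element. -/
theorem pow_sub_one {e : ℕ} (he : 1 ≤ e) {A : Matrix ι ι k} (h : Low deg e (A - 1)) (a : ℕ) :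
    Low deg e (A ^ a - 1) ∧ Cong deg (e + 1) (A ^ a - 1) ((a : k) • (A - 1)) := by
  induction a with
  | zero =>
    rw [pow_zero, sub_self, Nat.cast_zero, zero_smul]
    exact ⟨Low.zero, Cong.refl _⟩
  | succ a ih =>
    have e1 : A ^ (a + 1) - 1 = (A ^ a - 1) + (A - 1) + (A ^ a - 1) * (A - 1) := by
      rw [pow_succ]; noncomm_ring
    have hp := (ih.1.mul h)
    refine ⟨?_, ?_⟩
    · rw [e1]
      exact (ih.1.add h).add (hp.mono (by omega))
    · rw [Cong, e1, show (((a + 1 : ℕ) : k)) • (A - 1) = (a : k) • (A - 1) + (A - 1) by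
        rw [Nat.cast_succ, add_smul, one_smul],
        show (A ^ a - 1) + (A - 1) + (A ^ a - 1) * (A - 1) - ((a : k) • (A - 1) + (A - 1)) =
          (A ^ a - 1 - (a : k) • (A - 1)) + (A ^ a - 1) * (A - 1) by abel]
      exact ih.2.add (hp.mono (by omega))

/-- A difference of conjugation by a unipotent element raises the degree. -/
theorem low_conj_sub {e f : ℤ} (he : 0 ≤ e) (x : (Matrix ι ι k)ˣ)
    (hx : Low deg e ((x : Matrix ι ι k) - 1)) (hxi : Low deg e ((↑x⁻¹ : Matrix ι ι k) - 1))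
    {X : Matrix ι ι k} (hX : Low deg f X) : Low deg (f + e) (conjHom x X - X) := by
  rw [conjHom_apply]
  set A := (x : Matrix ι ι k)
  set B := (↑x⁻¹ : Matrix ι ι k)
  rw [show A * X * B - X = (A - 1) * X + X * (B - 1) + (A - 1) * X * (B - 1) by noncomm_ring]
  exact (((hx.mul hX).mono (by omega)).add (hX.mul hxi)).add (((hx.mul hX).mul hxi).mono (by omega))

theorem low_dif {e f : ℤ} (he : 0 ≤ e) (x : (Matrix ι ι k)ˣ)
    (hx : Low deg e ((x : Matrix ι ι k) - 1)) (hxi : Low deg e ((↑x⁻¹ : Matrix ι ι k) - 1)) :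
    ∀ (s : ℕ) {f : ℤ} {X : Matrix ι ι k}, Low deg f X → Low deg (f + s * e) (dif (conjHom x) s X) := by
  intro s
  induction s with
  | zero => intro f X hX; simpa [dif] using hX
  | succ s ih =>
    intro f X hX
    rw [dif]
    exact (ih (low_conj_sub he x hx hxi hX)).mono (le_of_eq (by push_cast; ring))

end unipotent

variable {p : ℕ} [hp : Fact p.Prime] {m n : ℕ}

theorem pow_prime_eq_one {A : Matrix (Fin m) (Fin m) (ZMod p)} (hA : Low (fdeg m) 1 (A - 1))
    (hm : m ≤ p) : A ^ p = 1 := by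
  obtain ⟨r, hr⟩ := Commute.exists_add_pow_prime_eq hp.out (Commute.one_left (A - 1))
  rw [add_sub_cancel, one_pow] at hr
  have h0 : (A - 1) ^ p = 0 := low_eq_zero (e := (p : ℤ) * 1) (by omega) (hA.pow p)
  have hp0 : ((p : Matrix (Fin m) (Fin m) (ZMod p))) = 0 := by
    rw [← Matrix.diagonal_natCast, ZMod.natCast_self]
    exact Matrix.diagonal_zero
  rw [hr, h0, hp0]
  simp

theorem natCast_tensor_zero : ((p : Matrix (Fin n → Fin m) (Fin n → Fin m) (ZMod p))) = 0 := by
  rw [← Matrix.diagonal_natCast, ZMod.natCast_self]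
  exact Matrix.diagonal_zero

theorem low_tpow_sub_one {e : ℕ} {A : Matrix (Fin m) (Fin m) (ZMod p)}
    (h : Low (fdeg m) e (A - 1)) : Low (tdeg n m) e (tpow n A - 1) := fun I L hne => by
  by_contra hlt
  refine hne ?_
  rw [Matrix.sub_apply, tpow_apply, tp_apply, sub_eq_zero]
  have hA : ∀ i l : Fin m, A i l ≠ 0 → i = l ∨ fdeg m l + e ≤ fdeg m i := fun i l hil => by
    rcases eq_or_ne i l with h' | h'
    · exact Or.inl h'
    · exact Or.inr (h i l (by rwa [Matrix.sub_apply, Matrix.one_apply_ne h', sub_zero]))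
  rcases eq_or_ne I L with rfl | hIL
  · rw [Matrix.one_apply_eq]
    rcases Nat.eq_zero_or_pos e with rfl | he
    · exact absurd (by simp) hlt
    refine Finset.prod_eq_one fun s _ => ?_
    have := h.apply_eq_zero (i := I s) (l := I s) (by omega)
    rwa [Matrix.sub_apply, Matrix.one_apply_eq, sub_eq_zero] at this
  · rw [Matrix.one_apply_ne hIL]
    by_contra hne'
    have hfac : ∀ s, A (I s) (L s) ≠ 0 := fun s => fun h0 => hne' (Finset.prod_eq_zero (mem_univ s) h0)
    obtain ⟨s₀, hs₀⟩ := Function.ne_iff.1 hIL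
    refine hlt ?_
    have hge : ∀ s, fdeg m (L s) ≤ fdeg m (I s) := fun s => by
      rcases hA _ _ (hfac s) with h' | h'
      · rw [h']
      · omega
    have hs : fdeg m (L s₀) + e ≤ fdeg m (I s₀) := (hA _ _ (hfac s₀)).resolve_left hs₀
    rw [tdeg, tdeg, ← Finset.add_sum_erase _ _ (mem_univ s₀), ← Finset.add_sum_erase _ _ (mem_univ s₀)]
    have := Finset.sum_le_sum (s := Finset.univ.erase s₀) fun s _ => hge s
    omega

section rep

variable {G : Type u} [Group G] (ρ : G →* Matrix (Fin m) (Fin m) (ZMod p))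

/-- No proper nonzero tail is invariant. -/
def Irr : Prop := ∀ a, (∀ g, Pres (ρ g) a) → a = 0 ∨ m ≤ a

/-- The representation on tensors. -/
def tρ (n : ℕ) : G →* Matrix (Fin n → Fin m) (Fin n → Fin m) (ZMod p) := (tpow n).comp ρ

theorem tρ_apply (n : ℕ) (g : G) : tρ ρ n g = tpow n (ρ g) := rfl

theorem cj_tp (g : G) (A : Fin n → Matrix (Fin m) (Fin m) (ZMod p)) :
    cj (tρ ρ n) g (tp A) = tp fun s => cj ρ g (A s) := by
  rw [cj, tρ_apply, tρ_apply, tpow_apply, tpow_apply, tp_mul, tp_mul]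
  rfl

theorem cj_pow_mat (g : G) (A : Matrix (Fin m) (Fin m) (ZMod p)) (a : ℕ) :
    cj ρ g (A ^ a) = cj ρ g A ^ a := by
  rw [cj_eq_conjHom, cj_eq_conjHom, map_pow]

/-- The unit of `g` in the tensor representation is unipotent. -/
theorem low_toHomUnits {e : ℕ} {g : G} (h : Low (fdeg m) e (ρ g - 1)) (he : 1 ≤ e) (hm : m ≤ p) :
    Low (tdeg n m) e ((((tρ ρ n).toHomUnits g) : Matrix _ _ (ZMod p)) - 1) ∧
      Low (tdeg n m) e ((↑((tρ ρ n).toHomUnits g)⁻¹ : Matrix _ _ (ZMod p)) - 1) := by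
  refine ⟨low_tpow_sub_one h, ?_⟩
  rw [← map_inv]
  show Low (tdeg n m) e (tpow n (ρ g⁻¹) - 1)
  refine low_tpow_sub_one ?_
  have h1 : ρ g ^ p = 1 := pow_prime_eq_one (h.mono (by omega)) hm
  have h2 : ρ g⁻¹ = ρ g ^ (p - 1) := by
    have hp1 : p - 1 + 1 = p := Nat.sub_add_cancel hp.out.one_le
    calc ρ g⁻¹ = ρ g ^ p * ρ g⁻¹ := by rw [h1, one_mul]
      _ = ρ g ^ (p - 1) * (ρ g * ρ g⁻¹) := by rw [← mul_assoc, ← pow_succ, hp1]
      _ = ρ g ^ (p - 1) := by rw [← map_mul, mul_inv_cancel, map_one, mul_one]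
  rw [h2]
  exact (pow_sub_one he h (p - 1)).1

theorem low_norm {e : ℕ} {g : G} (h : Low (fdeg m) e (ρ g - 1)) (he : 1 ≤ e) (hm : m ≤ p) {f : ℤ}
    {X : Matrix (Fin n → Fin m) (Fin n → Fin m) (ZMod p)} (hX : Low (tdeg n m) f X) :
    Low (tdeg n m) (f + ((p - 1 : ℕ) : ℤ) * e)
      (dif (conjHom ((tρ ρ n).toHomUnits g)) (p - 1) X) :=
  low_dif (f := f) (by omega) _ (low_toHomUnits ρ h he hm).1 (low_toHomUnits ρ h he hm).2 (p - 1) hX

/-- A sequence of length one more, with given head. -/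
theorem tp_cons_mulVec {r : ℕ} (A : Matrix (Fin m) (Fin m) (ZMod p))
    (B : Fin r → Matrix (Fin m) (Fin m) (ZMod p)) (y : (Fin (r + 1) → Fin m) → ZMod p) (i : Fin m)
    (J : Fin r → Fin m) :
    (tp (Fin.cons A B) *ᵥ y) (Fin.cons i J) =
      ∑ J' : Fin r → Fin m, tp B J J' * (A *ᵥ fun l => y (Fin.cons l J')) i := by
  rw [Matrix.mulVec, dotProduct]
  rw [← Equiv.sum_comp (Fin.consEquiv fun _ : Fin (r + 1) => Fin m), Fintype.sum_prod_type_right]
  refine Finset.sum_congr rfl fun J' _ => ?_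
  rw [Matrix.mulVec, dotProduct, Finset.mul_sum]
  refine Finset.sum_congr rfl fun l _ => ?_
  simp only [Fin.consEquiv, Equiv.coe_fn_mk, tp_apply, Fin.prod_univ_succ, Fin.cons_zero,
    Fin.cons_succ]
  ring

/-- An invariant tensor endomorphism of high degree vanishes. -/
theorem tensor_zero (hirr : Irr ρ) {x : G} (hx : ρ x = 1 + shift (ZMod p) m) {r : ℕ}
    {w : Matrix (Fin (r + 1) → Fin m) (Fin (r + 1) → Fin m) (ZMod p)}
    (hw : ∀ g, cj (tρ ρ (r + 1)) g w = w) {e : ℤ} (hwl : Low (tdeg (r + 1) m) e w)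
    (he : (r : ℤ) * ((m : ℤ) - 1) < e) : w = 0 := by
  classical
  let sl : ((Fin (r + 1) → Fin m) → ZMod p) → (Fin r → Fin m) → (Fin m → ZMod p) :=
    fun y J i => y (Fin.cons i J)
  let T : Submodule (ZMod p) (Fin m → ZMod p) :=
    Submodule.span (ZMod p) {v | ∃ z J, sl (w *ᵥ z) J = v}
  have hgen : ∀ z J, sl (w *ᵥ z) J ∈ T := fun z J => Submodule.subset_span ⟨z, J, rfl⟩
  have hinv : ∀ g, ∀ v ∈ T, ρ g *ᵥ v ∈ T := by
    intro g v hv
    induction hv using Submodule.span_induction with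
    | mem u hu =>
      obtain ⟨z, J, rfl⟩ := hu
      set y := w *ᵥ z with hy
      have hcomm : tpow (r + 1) (ρ g) *ᵥ y = w *ᵥ (tpow (r + 1) (ρ g) *ᵥ z) := by
        have h := hw g
        rw [cj] at h
        rw [hy, Matrix.mulVec_mulVec, Matrix.mulVec_mulVec]
        congr 1
        conv_rhs => rw [← h]
        rw [mul_assoc _ (tρ ρ (r + 1) g⁻¹), show tpow (r + 1) (ρ g) = tρ ρ (r + 1) g from rfl,
          ← map_mul, inv_mul_cancel, map_one, mul_one]
      -- undo the action on the other factors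
      have e1 : tp (Fin.cons (ρ g) fun _ => 1) =
          tp (Fin.cons 1 fun _ : Fin r => ρ g⁻¹) * tpow (r + 1) (ρ g) := by
        rw [tpow_apply, tp_mul]
        congr 1
        refine funext (Fin.cases ?_ fun s => ?_)
        · simp
        · simp [← map_mul]
      have e2 : ρ g *ᵥ sl y J = ∑ J' : Fin r → Fin m,
          tp (fun _ : Fin r => ρ g⁻¹) J J' • sl (w *ᵥ (tpow (r + 1) (ρ g) *ᵥ z)) J' := by
        funext i
        have h1 := tp_cons_mulVec (ρ g) (fun _ : Fin r => (1 : Matrix (Fin m) (Fin m) (ZMod p))) y i J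
        have h2 := tp_cons_mulVec (1 : Matrix (Fin m) (Fin m) (ZMod p)) (fun _ : Fin r => ρ g⁻¹)
          (w *ᵥ (tpow (r + 1) (ρ g) *ᵥ z)) i J
        rw [e1, ← Matrix.mulVec_mulVec, hcomm] at h1
        rw [h1, tp_one, Finset.sum_eq_single J] at h2
        · rw [Matrix.one_apply_eq, one_mul] at h2
          refine h2.trans ?_
          rw [Finset.sum_apply]
          exact Finset.sum_congr rfl fun J' _ => by rw [Matrix.one_mulVec]; rfl
        · intro J' _ hJ'
          rw [Matrix.one_apply_ne hJ'.symm, zero_mul]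
        · simp
      rw [e2]
      exact T.sum_mem fun J' _ => T.smul_mem _ (hgen _ J')
    | zero => rw [Matrix.mulVec_zero]; exact T.zero_mem
    | add a b _ _ ha hb => rw [Matrix.mulVec_add]; exact T.add_mem ha hb
    | smul c a _ ha => rw [Matrix.mulVec_smul]; exact T.smul_mem c ha
  have hN : ∀ v ∈ T, shift (ZMod p) m *ᵥ v ∈ T := fun v hv => by
    have h := T.sub_mem (hinv x v hv) hv
    rwa [hx, Matrix.add_mulVec, Matrix.one_mulVec, add_sub_cancel_left] at h
  obtain ⟨a, ham, hTa⟩ := eq_tail low_shift shift_lead hN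
  have hle : T ≤ Tail (ZMod p) m 1 := Submodule.span_le.2 (by
    rintro _ ⟨z, J, rfl⟩ i hi
    show (w *ᵥ z) (Fin.cons i J) = 0
    rw [Matrix.mulVec, dotProduct]
    refine Finset.sum_eq_zero fun L _ => ?_
    rw [hwl.apply_eq_zero (lt_of_le_of_lt (le_trans (le_of_eq (by
      rw [tdeg, Fin.sum_univ_succ, Fin.cons_zero, show fdeg m i = 0 by simp only [fdeg]; omega,
        zero_add]; simp only [Fin.cons_succ]; rfl)) (tdeg_le J)) (lt_of_lt_of_le he
          (le_add_of_nonneg_left (tdeg_nonneg L)))), zero_mul])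
  have hT0 : T = ⊥ := by
    rcases hirr a (fun g => pres_iff.2 fun v hv => hTa ▸ hinv g v (hTa.symm ▸ hv)) with h | h
    · subst h
      rw [eq_bot_iff]
      intro v _
      rcases Nat.eq_zero_or_pos m with rfl | hm0
      · exact (Submodule.mem_bot _).2 (funext fun i => i.elim0)
      exfalso
      have h1 : (Pi.single ⟨0, hm0⟩ 1 : Fin m → ZMod p) ∈ T := hTa ▸ fun i hi => absurd hi (Nat.not_lt_zero _)
      have := hle h1 ⟨0, hm0⟩ Nat.zero_lt_one
      rw [Pi.single_eq_same] at this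
      exact one_ne_zero this
    · rw [hTa, eq_bot_iff]
      exact fun v hv => (Submodule.mem_bot _).2 (funext fun i => hv i (lt_of_lt_of_le i.2 h))
  ext I L
  have h := hgen (Pi.single L 1) (Fin.tail I)
  rw [hT0, Submodule.mem_bot] at h
  have h2 := congrFun h (I 0)
  simp only [sl, Matrix.mulVec_single_one, Fin.cons_self_tail] at h2
  exact h2

end rep

end Cfsg.Agent.RegUnip
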