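import Cfsg.Agent.RegUnip.Core
import Mathlib.Data.Nat.Choose.Sum
import Mathlib.Data.Nat.Factorial.BigOperators
import Mathlib.Data.Nat.Prime.Factorial

/-!
The lowering matrix opposite to the shift, and its powers.
-/

set_option autoImplicit false

namespace Cfsg.Agent.RegUnip

open Finset Matrix

variable {p : ℕ} [hp : Fact p.Prime] {m : ℕ}

/-- A vandermonde sum. -/
theorem sum_choose_choose (a : ℕ) : ∀ M b : ℕ,
    ∑ l ∈ range (M + 1), Nat.choose l a * Nat.choose (M - l) b = Nat.choose (M + 1) (a + b + 1) := by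
  intro M
  induction M with
  | zero =>
    intro b
    rcases a with _ | a <;> rcases b with _ | b <;>
      first | (simp [Nat.choose_eq_zero_of_lt (show 1 < _ + 1 + 1 by omega)]; done) |
        simp [Nat.choose_eq_zero_of_lt (show 1 < a + 1 + (b + 1) + 1 by omega)]
  | succ M ih =>
    intro b
    rcases b with _ | b
    · simp only [Nat.choose_zero_right, mul_one, Nat.add_zero]
      rw [Finset.sum_range_succ, Nat.choose_succ_succ' (M + 1) a]
      have h := ih 0
      simp only [Nat.choose_zero_right, mul_one, Nat.add_zero] at h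
      rw [h, Nat.add_comm]
    · rw [Finset.sum_range_succ, Nat.sub_self, Nat.choose_zero_succ, mul_zero, add_zero]
      have hpas : ∀ l ∈ range (M + 1), Nat.choose l a * Nat.choose (M + 1 - l) (b + 1) =
          Nat.choose l a * Nat.choose (M - l) b + Nat.choose l a * Nat.choose (M - l) (b + 1) := by
        intro l hl
        rw [Finset.mem_range] at hl
        rw [show M + 1 - l = M - l + 1 by omega, Nat.choose_succ_succ', mul_add]
      rw [Finset.sum_congr rfl hpas, Finset.sum_add_distrib, ih b, ih (b + 1),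
        Nat.choose_succ_succ' (M + 1) (a + (b + 1))]
      congr 1

/-- The lowering matrix. -/
def lower (p m : ℕ) : Matrix (Fin m) (Fin m) (ZMod p) :=
  Matrix.of fun i l => if (l : ℕ) = (i : ℕ) + 1 then ((((i : ℕ) + 1) * (m - 1 - i) : ℕ) : ZMod p) else 0

theorem lower_apply (i l : Fin m) : lower p m i l =
    if (l : ℕ) = (i : ℕ) + 1 then ((((i : ℕ) + 1) * (m - 1 - i) : ℕ) : ZMod p) else 0 := rfl

theorem low_lower : Low (fdeg m) (-1) (lower p m) := fun i l hne => by
  rw [lower_apply] at hne
  split_ifs at hne with h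
  · simp [fdeg, h]
  · exact absurd rfl hne

theorem shift_lower_sub :
    shift (ZMod p) m * lower p m - lower p m * shift (ZMod p) m =
      Matrix.diagonal fun i : Fin m => (2 * ((i : ℕ) : ZMod p) - ((m : ZMod p) - 1)) := by
  ext i l
  rw [Matrix.sub_apply]
  have h1 : (shift (ZMod p) m * lower p m) i l =
      if (i : ℕ) = (l : ℕ) then ((((i : ℕ)) * (m - i) : ℕ) : ZMod p) else 0 := by
    rw [Matrix.mul_apply]
    rcases Nat.eq_zero_or_pos (i : ℕ) with hi | hi
    · rw [Finset.sum_eq_zero fun r _ => by rw [shift_apply, if_neg (by omega), zero_mul], hi]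
      simp
    · rw [Finset.sum_eq_single ⟨(i : ℕ) - 1, by omega⟩]
      · rw [shift_apply, if_pos (by show (i : ℕ) = (i : ℕ) - 1 + 1; omega), one_mul, lower_apply]
        by_cases h : (i : ℕ) = (l : ℕ)
        · rw [if_pos (by show (l : ℕ) = (i : ℕ) - 1 + 1; omega), if_pos h]
          show ((((i : ℕ) - 1 + 1) * (m - 1 - ((i : ℕ) - 1)) : ℕ) : ZMod p) = _
          rw [Nat.sub_add_cancel hi, show m - 1 - ((i : ℕ) - 1) = m - i by omega]
        · rw [if_neg (by show ¬ (l : ℕ) = (i : ℕ) - 1 + 1; omega), if_neg h]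
      · intro r _ hr
        rw [shift_apply, if_neg (fun h => hr (Fin.ext (by show (r : ℕ) = (i : ℕ) - 1; omega))), zero_mul]
      · simp
  have h2 : (lower p m * shift (ZMod p) m) i l =
      if (i : ℕ) = (l : ℕ) then ((((i : ℕ) + 1) * (m - 1 - i) : ℕ) : ZMod p) else 0 := by
    rw [Matrix.mul_apply]
    by_cases hi : (i : ℕ) + 1 < m
    · rw [Finset.sum_eq_single ⟨(i : ℕ) + 1, hi⟩]
      · rw [lower_apply, if_pos rfl, shift_apply]
        by_cases h : (i : ℕ) = (l : ℕ)
        · rw [if_pos (by show (i : ℕ) + 1 = (l : ℕ) + 1; omega), if_pos h, mul_one]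
        · rw [if_neg (by show ¬ (i : ℕ) + 1 = (l : ℕ) + 1; omega), if_neg h, mul_zero]
      · intro r _ hr
        rw [lower_apply, if_neg (fun h => hr (Fin.ext h)), zero_mul]
      · simp
    · rw [Finset.sum_eq_zero fun r _ => by rw [lower_apply, if_neg (by omega), zero_mul],
        show m - 1 - (i : ℕ) = 0 by omega]
      simp
  rw [h1, h2]
  rcases eq_or_ne i l with rfl | h
  · rw [if_pos rfl, if_pos rfl, Matrix.diagonal_apply_eq]
    have hi := i.2
    rw [Nat.cast_mul, Nat.cast_mul, Nat.cast_sub hi.le, Nat.cast_sub (by omega),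
      Nat.cast_sub (by omega : 1 ≤ m), Nat.cast_add, Nat.cast_one]
    ring
  · have : ¬ (i : ℕ) = (l : ℕ) := fun e => h (Fin.ext e)
    rw [if_neg this, if_neg this, Matrix.diagonal_apply_ne _ h, sub_zero]

theorem dif_lower (x : (Matrix (Fin m) (Fin m) (ZMod p))ˣ)
    (hx : (x : Matrix (Fin m) (Fin m) (ZMod p)) = 1 + shift (ZMod p) m) :
    dif (conjHom x) 3 (lower p m) = 0 := by
  refine dif_conj_three x _ hx ?_
  rw [shift_lower_sub]
  have h : shift (ZMod p) m * (Matrix.diagonal fun i : Fin m =>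
      (2 * ((i : ℕ) : ZMod p) - ((m : ZMod p) - 1))) - (Matrix.diagonal fun i : Fin m =>
      (2 * ((i : ℕ) : ZMod p) - ((m : ZMod p) - 1))) * shift (ZMod p) m =
      (-2 : ZMod p) • shift (ZMod p) m := by
    ext i l
    rw [Matrix.sub_apply, Matrix.mul_diagonal, Matrix.diagonal_mul, Matrix.smul_apply, shift_apply]
    split_ifs with h
    · rw [h, Nat.cast_add, Nat.cast_one, smul_eq_mul]
      ring
    · simp
  rw [h, Matrix.mul_smul, Matrix.smul_mul, sub_self]

theorem lower_pow_apply (a : ℕ) (i l : Fin m) : (lower p m ^ a) i l =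
    if (l : ℕ) = (i : ℕ) + a then
      ((a.factorial * a.factorial * (Nat.choose ((i : ℕ) + a) a * Nat.choose (m - 1 - i) a) : ℕ) : ZMod p)
    else 0 := by
  induction a generalizing i l with
  | zero => simp [Matrix.one_apply, Fin.ext_iff, eq_comm]
  | succ a ih =>
    rw [pow_succ', Matrix.mul_apply]
    by_cases hi : (i : ℕ) + 1 < m
    · rw [Finset.sum_eq_single ⟨(i : ℕ) + 1, hi⟩]
      · rw [lower_apply, if_pos rfl, ih]
        by_cases h : (l : ℕ) = (i : ℕ) + (a + 1)
        · rw [if_pos (by show (l : ℕ) = (i : ℕ) + 1 + a; omega), if_pos h, ← Nat.cast_mul]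
          congr 1
          show ((i : ℕ) + 1) * (m - 1 - i) * (a.factorial * a.factorial *
            (Nat.choose ((i : ℕ) + 1 + a) a * Nat.choose (m - 1 - ((i : ℕ) + 1)) a)) = _
          have h1 := Nat.add_one_mul_choose_eq ((i : ℕ) + 1 + a - 1) a
          have h2 := Nat.add_one_mul_choose_eq (m - 1 - ((i : ℕ) + 1)) a
          rw [show m - 1 - ((i : ℕ) + 1) + 1 = m - 1 - i by omega] at h2
          have h3 : Nat.choose ((i : ℕ) + 1 + a) a * ((i : ℕ) + 1) =
              Nat.choose ((i : ℕ) + (a + 1)) (a + 1) * (a + 1) := by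
            rw [show (i : ℕ) + (a + 1) = (i : ℕ) + 1 + a by omega,
              Nat.choose_succ_right_eq ((i : ℕ) + 1 + a) a, Nat.add_sub_cancel]
          rw [Nat.factorial_succ]
          linear_combination (a.factorial * a.factorial * ((m - 1 - (i : ℕ)) *
              Nat.choose (m - 1 - ((i : ℕ) + 1)) a)) * h3 +
            (a.factorial * a.factorial * (Nat.choose ((i : ℕ) + (a + 1)) (a + 1) * (a + 1))) * h2
        · rw [if_neg (by show ¬ (l : ℕ) = (i : ℕ) + 1 + a; omega), if_neg h, mul_zero]
      · intro r _ hr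
        rw [lower_apply, if_neg (fun h => hr (Fin.ext h)), zero_mul]
      · simp
    · rw [Finset.sum_eq_zero fun r _ => by rw [lower_apply, if_neg (by omega), zero_mul],
        if_neg (by omega)]

theorem trace_lower_pow {a : ℕ} (ha : a < m) (hma : m + a < p) :
    Matrix.trace (lower p m ^ a * shift (ZMod p) m ^ a) ≠ 0 := by
  have hdiag : ∀ i : Fin m, (lower p m ^ a * shift (ZMod p) m ^ a) i i =
      ((a.factorial * a.factorial *
        (Nat.choose ((i : ℕ) + a) a * Nat.choose (m - 1 - i) a) : ℕ) : ZMod p) := by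
    intro i
    rw [Matrix.mul_apply]
    by_cases hi : (i : ℕ) + a < m
    · rw [Finset.sum_eq_single ⟨(i : ℕ) + a, hi⟩]
      · rw [lower_pow_apply, if_pos rfl, shift_pow_apply, if_pos rfl, mul_one]
      · intro r _ hr
        rw [lower_pow_apply, if_neg (fun h => hr (Fin.ext h)), zero_mul]
      · simp
    · rw [Finset.sum_eq_zero fun r _ => by rw [lower_pow_apply, if_neg (by omega), zero_mul],
        Nat.choose_eq_zero_of_lt (show m - 1 - (i : ℕ) < a by omega)]
      simp
  have hsum : ∑ i ∈ range m, Nat.choose (i + a) a * Nat.choose (m - 1 - i) a =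
      Nat.choose (m + a) (a + a + 1) := by
    have h0 := sum_choose_choose a (m - 1 + a) a
    rw [show m - 1 + a + 1 = a + m by omega, Finset.sum_range_add _ a m,
      Finset.sum_eq_zero (s := range a) fun l hl => by
        rw [Nat.choose_eq_zero_of_lt (Finset.mem_range.1 hl), zero_mul], zero_add] at h0
    rw [Nat.add_comm m a, ← h0]
    exact Finset.sum_congr rfl fun i _ => by
      rw [Nat.add_comm a i, show m - 1 + a - (i + a) = m - 1 - i by omega]
  rw [Matrix.trace]
  simp only [Matrix.diag, hdiag]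
  rw [← Nat.cast_sum, Fin.sum_univ_eq_sum_range
    (fun i => a.factorial * a.factorial * (Nat.choose (i + a) a * Nat.choose (m - 1 - i) a)) m,
    ← Finset.mul_sum, hsum, Ne, ZMod.natCast_eq_zero_iff, hp.out.dvd_mul, hp.out.dvd_mul,
    Nat.Prime.dvd_factorial hp.out]
  have h1 : p.Coprime (Nat.choose (m + a) (a + a + 1)) := by
    rw [hp.out.coprime_iff_not_dvd]
    intro hdvd
    have h2 := Nat.choose_mul_factorial_mul_factorial (show a + a + 1 ≤ m + a by omega)
    have h3 : p ∣ (m + a).factorial := h2 ▸ Dvd.dvd.mul_right (Dvd.dvd.mul_right hdvd _) _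
    have := (Nat.Prime.dvd_factorial hp.out).1 h3
    omega
  rintro ((h | h) | h)
  · omega
  · omega
  · exact (hp.out.coprime_iff_not_dvd.1 h1) h

end Cfsg.Agent.RegUnip
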