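import Cfsg.Agent.RegUnip.Torus
import Cfsg.Agent.RegUnip.Lowering

/-!
An irreducible group with a regular unipotent element whose normalizer scales the shift by a
small torus only.
-/

set_option autoImplicit false

namespace Cfsg.Agent.RegUnip

open Finset Matrix

universe u v

section slot

variable {k : Type v} [CommRing k] {n m : ℕ}

/-- A matrix placed in the slot `l` of a tensor product. -/
def slot (l : Fin n) : Matrix (Fin m) (Fin m) k →+* Matrix (Fin n → Fin m) (Fin n → Fin m) k where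
  toFun A := tp (Function.update (fun _ => 1) l A)
  map_one' := by rw [Function.update_eq_self_iff.2 rfl, tp_one]
  map_mul' A B := by
    rw [tp_mul]
    congr 1
    funext s
    rcases eq_or_ne s l with rfl | h
    · simp
    · simp [Function.update_of_ne h]
  map_zero' := by
    ext I L
    rw [tp_apply]
    exact Finset.prod_eq_zero (mem_univ l) (by simp)
  map_add' A B := by
    ext I L
    simp only [Matrix.add_apply, tp_apply,
      Function.apply_update (fun s (M : Matrix (Fin m) (Fin m) k) => M (I s) (L s)),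
      Finset.prod_update_of_mem (mem_univ l)]
    rw [add_mul]

theorem slot_apply (l : Fin n) (A : Matrix (Fin m) (Fin m) k) :
    slot l A = tp (Function.update (fun _ => 1) l A) := rfl

end slot

theorem dif_map {R : Type u} {R' : Type v} [Ring R] [Ring R'] (E : R →+* R') (α₀ : R →+* R)
    (α : R' →+* R') (h : ∀ A, α (E A) = E (α₀ A)) : ∀ (s : ℕ) (A : R),
      dif α s (E A) = E (dif α₀ s A) := by
  intro s
  induction s with
  | zero => intro A; rfl
  | succ s ih => intro A; rw [dif, dif, h, ← map_sub, ih]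

variable {p : ℕ} [hp : Fact p.Prime] {m n : ℕ} {G : Type u} [Group G]
  (ρ : G →* Matrix (Fin m) (Fin m) (ZMod p))

theorem conjHom_slot (g : G) (l : Fin n) (A : Matrix (Fin m) (Fin m) (ZMod p)) :
    conjHom ((tρ ρ n).toHomUnits g) (slot l A) = slot l (conjHom (ρ.toHomUnits g) A) := by
  rw [← cj_eq_conjHom, ← cj_eq_conjHom, slot_apply, slot_apply, cj_tp]
  congr 1
  funext s
  rcases eq_or_ne s l with rfl | h
  · simp
  · simp only [Function.update_of_ne h]
    rw [cj, mul_one, ← map_mul, mul_inv_cancel, map_one]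

theorem cj_eq_self {g : G} {A : Matrix (Fin m) (Fin m) (ZMod p)} (h : Commute (ρ g) A) :
    cj ρ g A = A := by
  rw [cj, h.eq, mul_assoc, ← map_mul, mul_inv_cancel, map_one, mul_one]

theorem scales_unique (hm : 2 ≤ m) {t : G} {μ μ' : ZMod p} (h : Scales ρ t μ) (h' : Scales ρ t μ') :
    μ = μ' := by
  have h1 := (Cong.trans h.symm h').apply_eq (i := (⟨1, by omega⟩ : Fin m)) (l := ⟨0, by omega⟩)
    (by show (1 : ℤ) < 0 + 2; omega)
  simpa [Matrix.smul_apply, shift_apply] using h1

/-- The trace pairing with a norm is the pairing of the norm. -/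
theorem trace_mul_norm {ι : Type*} [Fintype ι] [DecidableEq ι] {k : Type v} [CommRing k]
    (σ : G →* Matrix ι ι k) (Q : Subgroup G) [Fintype Q] (Φ U : Matrix ι ι k) :
    Matrix.trace (Φ * ∑ q : Q, cj σ q U) = Matrix.trace ((∑ q : Q, cj σ q Φ) * U) := by
  rw [Finset.mul_sum, Matrix.trace_sum, Finset.sum_mul, Matrix.trace_sum]
  refine Fintype.sum_equiv (Equiv.inv Q) _ _ fun q => ?_
  simp only [cj, Equiv.inv_apply, Subgroup.coe_inv, inv_inv]
  rw [← mul_assoc, Matrix.trace_mul_comm, ← mul_assoc, ← mul_assoc]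

/-- No irreducible group with a freely acting regular element has a small torus. -/
theorem small_false [Finite G] (hirr : Irr ρ) (hm : 2 ≤ m) {x : G}
    (hx : ρ x = 1 + shift (ZMod p) m) (hord : orderOf x = p) (M L : Subgroup G) (hML : M ≤ L)
    (hxL : x ∈ L) (hM : ∀ t ∈ M, Commute (ρ t) (shift (ZMod p) m))
    (hL : ∀ t ∈ L, Commute (cj ρ t (shift (ZMod p) m)) (shift (ZMod p) m))
    (hfree : ∀ g, g ∉ L → g⁻¹ * x * g ∉ M) (hidx : ¬ p ∣ M.relIndex L)
    {j : ℕ} (hj : 0 < j) (hμ : ∀ t ∈ L, ∀ μ, Scales ρ t μ → μ ^ j = 1) (h2j : 2 * j + 1 ≤ p - 1)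
    (hmj : m ≤ j) : False := by
  classical
  have hex : ∃ e, 0 < e ∧ ∀ t ∈ L, ∀ μ, Scales ρ t μ → μ ^ e = 1 := ⟨j, hj, hμ⟩
  obtain ⟨hn0, hnμ⟩ := Nat.find_spec hex
  set N := Nat.find hex with hNdef
  have hNj : N ≤ j := Nat.find_le ⟨hj, hμ⟩
  have hmove : ∀ e, 0 < e → e < N → ∃ t ∈ L, ∀ μ, Scales ρ t μ → μ ^ e ≠ 1 := fun e he heN => by
    by_contra! hno
    refine Nat.find_min hex heN ⟨he, fun t ht μ hs => ?_⟩
    obtain ⟨μ', hs', h'⟩ := hno t ht
    rwa [scales_unique ρ hm hs hs']
  set r := (N - 1) / (m - 1) with hr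
  have hr1 : r * (m - 1) ≤ N - 1 := Nat.div_mul_le_self _ _
  have hr2 : N - 1 < r * (m - 1) + (m - 1) := by
    have h1 := Nat.div_add_mod (N - 1) (m - 1)
    have h2 := Nat.mod_lt (N - 1) (show 0 < m - 1 by omega)
    rw [hr, mul_comm]
    omega
  let a : Fin (r + 1) → ℕ := fun l => if (l : ℕ) < r then m - 1 else N - r * (m - 1)
  have ha : ∀ l, a l ≤ m - 1 := fun l => by
    simp only [a]
    split_ifs <;> omega
  have hasum : ∑ l, a l = N := by
    rw [Fin.sum_univ_castSucc]
    simp only [a, Fin.val_castSucc, Fin.is_lt, if_true, Fin.val_last, lt_irrefl, if_false,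
      Finset.sum_const, Finset.card_univ, Fintype.card_fin, smul_eq_mul]
    omega
  have hasumZ : (∑ l, (a l : ℤ)) = (N : ℤ) := by rw [← hasum, Nat.cast_sum]
  set v₀ : Matrix (Fin (r + 1) → Fin m) (Fin (r + 1) → Fin m) (ZMod p) :=
    tp fun l => shift (ZMod p) m ^ a l with hv₀
  have hv₀l : Low (tdeg (r + 1) m) N v₀ := by
    refine (low_tp (e := fun l => (a l : ℤ)) fun l => ?_).mono (le_of_eq hasumZ.symm)
    exact (low_shift.pow (a l)).mono (by simp)
  have hfix : ∀ t ∈ M, cj (tρ ρ (r + 1)) t v₀ = v₀ := fun t ht => by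
    rw [hv₀, cj_tp]
    congr 1
    funext l
    rw [cj_pow_mat, cj_eq_self ρ (hM t ht)]
  haveI : Fintype (G ⧸ M) := Fintype.ofFinite _
  haveI : Fintype (Subgroup.zpowers x) := Fintype.ofFinite _
  have hfree' : ∀ g, g ∉ L → ∀ q ∈ Subgroup.zpowers x, g⁻¹ * q * g ∈ M → q = 1 := by
    intro g hg q hq hmem
    by_contra hq1
    refine hfree g hg ?_
    have hcard : Nat.card (Subgroup.zpowers x) = p := by rw [Nat.card_zpowers, hord]
    have htop : Subgroup.zpowers (⟨q, hq⟩ : Subgroup.zpowers x) = ⊤ :=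
      zpowers_eq_top_of_prime_card hcard (by simpa [Subtype.ext_iff] using hq1)
    have hxm : (⟨x, Subgroup.mem_zpowers x⟩ : Subgroup.zpowers x) ∈
        Subgroup.zpowers (⟨q, hq⟩ : Subgroup.zpowers x) := htop ▸ Subgroup.mem_top _
    obtain ⟨i, hi⟩ := hxm
    have hi' : q ^ i = x := congrArg Subtype.val hi
    have hpow := M.zpow_mem hmem i
    rwa [show (g⁻¹ * q * g) ^ i = g⁻¹ * q ^ i * g by
      simpa using (conj_zpow (i := i) (a := g⁻¹) (b := q)), hi'] at hpow
  obtain ⟨U, hWinv, hWeq⟩ := exists_trace (tρ ρ (r + 1)) M L (Subgroup.zpowers x) hML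
    (Subgroup.zpowers_le.2 hxL) hfix hfree'
  set W := ∑ q : G ⧸ M, cj (tρ ρ (r + 1)) q.out v₀ with hWdef
  rw [sum_zpowers_cj natCast_tensor_zero (tρ ρ (r + 1)) hord] at hWeq
  set S := Finset.univ.filter (fun q : G ⧸ M => q.out ∈ L) with hS
  have hterm : ∀ q ∈ S, Cong (tdeg (r + 1) m) ((N : ℤ) + 1) (cj (tρ ρ (r + 1)) q.out v₀) v₀ := by
    intro q hq
    have hqL : q.out ∈ L := by simpa [hS] using hq
    obtain ⟨μ, -, hs⟩ := exists_scales ρ hm (hL _ hqL)
    have h := scales_tp ρ hs a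
    rw [hasum, hnμ _ hqL μ hs, one_smul, hasumZ] at h
    exact h
  have hmlow : Low (fdeg m) 1 (ρ x - 1) := by rw [hx, add_sub_cancel_left]; exact low_shift
  have hm_p : m ≤ p := by omega
  have hNorm : Low (tdeg (r + 1) m) 1
      (dif (conjHom ((tρ ρ (r + 1)).toHomUnits x)) (p - 1) U) := by
    refine (low_norm ρ hmlow le_rfl hm_p (low_any_tensor U)).mono ?_
    have h1 : ((r * (m - 1) + (m - 1) : ℕ) : ℤ) + 1 ≤ ((p - 1 : ℕ) : ℤ) := by
      exact_mod_cast (show r * (m - 1) + (m - 1) + 1 ≤ p - 1 by omega)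
    push_cast [Nat.cast_sub (show 1 ≤ m by omega)] at h1 ⊢
    linarith
  have hW1 : Low (tdeg (r + 1) m) 1 W := by
    rw [hWeq]
    exact (Low.sum _ _ fun q hq => ((hterm q hq).low hv₀l (by omega)).mono (by omega)).add hNorm
  have hWN := low_of_torus ρ hm hL hWinv hW1 hmove
  have hW0 : W = 0 := tensor_zero ρ hirr hx hWinv hWN (by
    have h1 : ((r * (m - 1) : ℕ) : ℤ) < (N : ℤ) := by exact_mod_cast (show r * (m - 1) < N by omega)
    push_cast [Nat.cast_sub (show 1 ≤ m by omega)] at h1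
    linarith)
  -- pairing with the lowering tensor
  set Φ : Matrix (Fin (r + 1) → Fin m) (Fin (r + 1) → Fin m) (ZMod p) :=
    tp fun l => lower p m ^ a l with hΦ
  have hΦl : Low (tdeg (r + 1) m) (-(N : ℤ)) Φ := by
    refine (low_tp (e := fun l => -(a l : ℤ)) fun l => ?_).mono (le_of_eq ?_)
    · exact (low_lower.pow (a l)).mono (by simp)
    · rw [Finset.sum_neg_distrib, hasumZ]
  have hΦd : dif (conjHom ((tρ ρ (r + 1)).toHomUnits x)) (2 * N + 1) Φ = 0 := by
    suffices h : ∀ s : ℕ, s ≤ r + 1 → dif (conjHom ((tρ ρ (r + 1)).toHomUnits x))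
        (2 * (∑ l ∈ univ.filter (fun l : Fin (r + 1) => (l : ℕ) < s), a l) + 1)
        (tp fun l : Fin (r + 1) => if (l : ℕ) < s then lower p m ^ a l else 1) = 0 by
      have h1 := h (r + 1) le_rfl
      rw [Finset.filter_true_of_mem fun l _ => l.is_lt, hasum] at h1
      rw [hΦ]
      convert h1 using 3
      funext l
      rw [if_pos l.is_lt]
    intro s
    induction s with
    | zero => intro _; simpa [tp_one] using dif_one (conjHom ((tρ ρ (r + 1)).toHomUnits x))
    | succ s ih =>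
      intro hs
      let l₀ : Fin (r + 1) := ⟨s, hs⟩
      have hsplit : (tp fun l : Fin (r + 1) => if (l : ℕ) < s + 1 then lower p m ^ a l else 1) =
          (tp fun l : Fin (r + 1) => if (l : ℕ) < s then lower p m ^ a l else 1) *
            slot l₀ (lower p m) ^ a l₀ := by
        rw [← map_pow, slot_apply, tp_mul]
        congr 1
        funext l
        rcases eq_or_ne l l₀ with rfl | h
        · simp [l₀]
        · have : (l : ℕ) ≠ s := fun e => h (Fin.ext e)
          rw [Function.update_of_ne h, mul_one]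
          by_cases hls : (l : ℕ) < s
          · rw [if_pos (by omega), if_pos hls]
          · rw [if_neg (by omega), if_neg hls]
      have hsum : (∑ l ∈ univ.filter (fun l : Fin (r + 1) => (l : ℕ) < s + 1), a l) =
          (∑ l ∈ univ.filter (fun l : Fin (r + 1) => (l : ℕ) < s), a l) + a l₀ := by
        rw [show univ.filter (fun l : Fin (r + 1) => (l : ℕ) < s + 1) =
            insert l₀ (univ.filter fun l : Fin (r + 1) => (l : ℕ) < s) by
          ext l
          simp [l₀, Fin.ext_iff]; omega,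
          Finset.sum_insert (by simp [l₀]), Nat.add_comm]
      rw [hsplit, hsum, Nat.mul_add, Nat.mul_comm 2 (a l₀)]
      refine dif_mul _ _ _ (ih (by omega)) (dif_pow _ ?_ _)
      rw [dif_map (slot l₀) (conjHom (ρ.toHomUnits x)) _ (conjHom_slot ρ x l₀),
        dif_lower _ (by rw [MonoidHom.coe_toHomUnits]; exact hx), map_zero]
  have hnormΦ : dif (conjHom ((tρ ρ (r + 1)).toHomUnits x)) (p - 1) Φ = 0 :=
    dif_mono _ (by omega) hΦd
  have htr : Matrix.trace (Φ * W) = (M.relIndex L : ZMod p) * Matrix.trace (Φ * v₀) := by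
    rw [hWeq, mul_add, Matrix.trace_add]
    have h2 : Matrix.trace (Φ * dif (conjHom ((tρ ρ (r + 1)).toHomUnits x)) (p - 1) U) = 0 := by
      rw [← sum_zpowers_cj natCast_tensor_zero (tρ ρ (r + 1)) hord, trace_mul_norm,
        sum_zpowers_cj natCast_tensor_zero (tρ ρ (r + 1)) hord, hnormΦ, zero_mul, Matrix.trace_zero]
    rw [h2, add_zero, Finset.mul_sum, Matrix.trace_sum, ← card_filter_mem M L hML, ← hS,
      ← nsmul_eq_mul, ← Finset.sum_const]
    refine Finset.sum_congr rfl fun q hq => ?_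
    rw [← sub_eq_zero, ← Matrix.trace_sub, ← mul_sub]
    have hlow := hΦl.mul (hterm q hq)
    exact Finset.sum_eq_zero fun I _ => hlow.apply_eq_zero (i := I) (l := I) (by omega)
  rw [hW0, mul_zero, Matrix.trace_zero, hΦ, hv₀, tp_mul, trace_tp] at htr
  refine mul_ne_zero ?_ (Finset.prod_ne_zero_iff.2 fun l _ => trace_lower_pow ?_ ?_) htr.symm
  · rwa [Ne, ZMod.natCast_eq_zero_iff]
  · have := ha l; omega
  · have := ha l; omega

end Cfsg.Agent.RegUnip
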