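import Cfsg.Agent.RegUnip.Pair
import Cfsg.Agent.RegUnip.Small

/-!
An irreducible group with an abelian Sylow subgroup of order `p²` of regular unipotent type.
-/

set_option autoImplicit false

namespace Cfsg.Agent.RegUnip

open Finset Matrix

universe u

variable {p : ℕ} [hp : Fact p.Prime] {d : ℕ} {G : Type u} [Group G] [Finite G]
  {ρ : G →* Matrix (Fin d) (Fin d) (ZMod p)} {P : Sylow p G} {x z : G} {j : ℕ} {c : ZMod p}

namespace Pair

variable (h : Pair ρ P x z j c)
include h

theorem pres_mem {q : G} (hq : q ∈ P) (b : ℕ) : Pres (ρ q) b := by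
  rw [← sub_add_cancel (ρ q) 1]
  exact (((h.low_mem hq).mono (by omega)).add Low.one).pres le_rfl b

/-- How an element acts on `z` through its scale. -/
theorem scale_z {g : G} {μ s : ZMod p} (hs : Scales ρ g μ)
    (hg : ρ g * (ρ z - 1) = s • ((ρ z - 1) * ρ g)) : s = μ ^ j := by
  have hd0 : 0 < d := by have := h.hjd; omega
  obtain ⟨c', hc', hlow, hcong⟩ := triangular hd0 (cj_mul_rho ρ g _).symm hs (isUnit_rho ρ g)
  set I : Fin d := ⟨j, h.hjd⟩
  set O : Fin d := ⟨0, hd0⟩
  have hIO : (I : ℕ) = (O : ℕ) + j := (Nat.zero_add j).symm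
  have e := congrFun (congrFun hg I) O
  rw [Matrix.mul_apply, Matrix.smul_apply, Matrix.mul_apply, smul_eq_mul] at e
  rw [Finset.sum_eq_single I, Finset.sum_eq_single O] at e
  · rw [hcong.apply_eq (by omega), hcong.apply_eq (by omega), h.lead_apply hIO] at e
    simp only [Matrix.smul_apply, scal, Matrix.diagonal_apply_eq, smul_eq_mul, pow_zero, mul_one,
      I, O] at e
    have h0 : c' * c ≠ 0 := mul_ne_zero hc' h.hc
    exact mul_right_cancel₀ h0 (by linear_combination -e)
  · intro r _ hr
    have : (r : ℕ) ≠ 0 := fun e' => hr (Fin.ext e')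
    rw [h.low.apply_eq_zero (by simp only [fdeg, I]; omega), zero_mul]
  · simp
  · intro r _ hr
    have : (r : ℕ) ≠ j := fun e' => hr (Fin.ext e')
    rcases Nat.lt_or_ge (r : ℕ) j with hlt | hge
    · rw [h.low.apply_eq_zero (by simp only [fdeg, O]; omega), mul_zero]
    · rw [hlow.apply_eq_zero (by simp only [fdeg, I]; omega), zero_mul]
  · simp

/-- An element conjugating `x` into `P` conjugates the shift into its commutant. -/
theorem commute_cj {g : G} (hg : g * x * g⁻¹ ∈ P) :
    Commute (cj ρ g (shift (ZMod p) d)) (shift (ZMod p) d) := by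
  have e : cj ρ g (shift (ZMod p) d) = ρ (g * x * g⁻¹) - 1 := by
    rw [cj, map_mul, map_mul, h.hx, mul_add, add_mul, mul_one, ← map_mul, mul_inv_cancel, map_one,
      add_sub_cancel_left]
  rw [e]
  exact (h.comm _ hg).sub_left (Commute.one_left _)

/-- The tails in degrees divisible by `j` are invariant under the centralizer of `z`. -/
theorem pres_mul_j {g : G} (hg : g * z = z * g) (q : ℕ) : Pres (ρ g) (q * j) := by
  rcases Nat.lt_or_ge (q * j) d with hqd | hqd
  swap
  · exact pres_of_le hqd _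
  set Y := (ρ z - 1) ^ q with hY
  have hYl : Low (fdeg d) ((q * j : ℕ) : ℤ) Y := (h.low.pow q).mono (le_of_eq (by push_cast; rfl))
  have hc1 : Commute (ρ g) (ρ z) := by
    show ρ g * ρ z = ρ z * ρ g
    rw [← map_mul, hg, map_mul]
  have hgY : Commute (ρ g) Y := (hc1.sub_right (Commute.one_right _)).pow_right q
  have hNY : Commute (shift (ZMod p) d) Y :=
    (((h.comm z h.zP).sub_left (Commute.one_left _)).symm).pow_right q
  have hlead : ∀ i : Fin d, (i : ℕ) = q * j → Y i ⟨0, by omega⟩ = c ^ q := by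
    have hind : ∀ a : ℕ, Cong (fdeg d) ((a * j : ℕ) + 1) ((ρ z - 1) ^ a)
        (c ^ a • shift (ZMod p) d ^ (a * j)) := fun a => by
      induction a with
      | zero => rw [pow_zero, pow_zero, Nat.zero_mul, pow_zero, one_smul]; exact Cong.refl _
      | succ a ih =>
        have h1 := Cong.mul (a := ((a * j : ℕ) : ℤ)) (b := (j : ℤ)) ih h.lead
          ((h.low.pow a).mono (le_of_eq (by push_cast; rfl)))
          (((low_shift.pow j).mono (by simp)).smul c)
        rw [Matrix.smul_mul, Matrix.mul_smul, smul_smul, ← pow_add, ← pow_succ, ← pow_succ,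
          ← Nat.succ_mul] at h1
        exact h1.mono (le_of_eq (by push_cast; ring))
    intro i hi
    rw [hY, (hind q).apply_eq (by simp only [fdeg]; omega), Matrix.smul_apply, shift_pow_apply,
      if_pos (by show (i : ℕ) = 0 + q * j; omega), smul_eq_mul, mul_one]
  refine pres_iff.2 fun v hv => ?_
  set W := LinearMap.range Y.mulVecLin with hW
  have hle : W ≤ Tail (ZMod p) d (q * j) := by
    rintro _ ⟨w, rfl⟩ i hi
    show (Y *ᵥ w) i = 0
    rw [Matrix.mulVec, dotProduct]
    exact Finset.sum_eq_zero fun l _ => by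
      rw [hYl.apply_eq_zero (by simp only [fdeg]; omega), zero_mul]
  have hge : Tail (ZMod p) d (q * j) ≤ W := by
    refine mem_of_lead low_shift shift_lead (W := W) ?_ (d - q * j) (q * j) (by omega)
      (Y *ᵥ Pi.single ⟨0, by omega⟩ 1) ⟨_, rfl⟩ (hle ⟨_, rfl⟩) fun i hi => ?_
    · rintro _ ⟨w, rfl⟩
      refine ⟨shift (ZMod p) d *ᵥ w, ?_⟩
      show Y *ᵥ _ = shift (ZMod p) d *ᵥ (Y *ᵥ w)
      rw [Matrix.mulVec_mulVec, Matrix.mulVec_mulVec, hNY.eq]
    · rw [Matrix.mulVec_single_one]
      show Y i _ ≠ 0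
      rw [hlead i hi]
      exact pow_ne_zero _ h.hc
  obtain ⟨w, rfl⟩ := hge hv
  refine hle ⟨ρ g *ᵥ w, ?_⟩
  show Y *ᵥ _ = ρ g *ᵥ (Y *ᵥ w)
  rw [Matrix.mulVec_mulVec, Matrix.mulVec_mulVec, hgY.eq]

/-- The centralizer of `z` normalises `P`. -/
theorem centralizer_le (hj : 2 * j < p - 1) :
    Subgroup.centralizer {z} ≤ Subgroup.normalizer ((P : Subgroup G) : Set G) := by
  classical
  set K := Subgroup.centralizer ({z} : Set G) with hK
  have hPK : (P : Subgroup G) ≤ K := fun q hq => by
    rw [hK, Subgroup.mem_centralizer_singleton_iff]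
    exact h.abelian hq h.zP
  set σ : K →* Matrix (Fin d) (Fin d) (ZMod p) := ρ.comp K.subtype with hσ
  set Q : Sylow p K := P.subtype hPK with hQ
  have hQm : ∀ q : K, q ∈ Q ↔ (q : G) ∈ P := fun q => by
    rw [hQ]; exact Subgroup.mem_subgroupOf
  set xK : K := ⟨x, hPK h.xP⟩
  have hgapK : ∀ l, l + 1 < d → ∃ a, l < a ∧ a ≤ l + 1 ∧ InvTail σ a := by
    intro l hl
    obtain ⟨a, m, hal, hlm, hamd, ha, hb, hno⟩ := exists_block σ l (by omega)
    refine ⟨a + m, hlm, ?_, hb⟩
    by_contra hgt
    have hm2 : 2 ≤ m := by omega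
    have hmj : m ≤ j := by
      by_contra hgt'
      have hj0 : 0 < j := by have := h.two; omega
      refine hno ((a / j + 1) * j) ?_ ?_ fun g => ?_
      · have h1 := Nat.div_add_mod a j
        have h2 := Nat.mod_lt a hj0
        rw [Nat.add_mul, Nat.one_mul, Nat.mul_comm]
        omega
      · have h1 := Nat.div_add_mod a j
        rw [Nat.add_mul, Nat.one_mul, Nat.mul_comm]
        omega
      · exact h.pres_mul_j (Subgroup.mem_centralizer_singleton_iff.1 g.2) _
    have hbx : blockHom σ hamd ha hb xK = 1 + shift (ZMod p) m := by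
      rw [blockHom_apply, show σ xK = 1 + shift (ZMod p) d from h.hx]
      ext i l
      rw [blk_apply, Matrix.add_apply, Matrix.add_apply, Matrix.one_apply, Matrix.one_apply,
        shift_apply, shift_apply]
      simp [emb, Fin.ext_iff, Nat.add_assoc]
    have hord : orderOf xK = p := by rw [← Subgroup.orderOf_coe]; exact h.order_x
    refine small_false (blockHom σ hamd ha hb) (blockHom_irr σ hamd ha hb hno) hm2 hbx hord
      (Q : Subgroup K) (Subgroup.normalizer ((Q : Subgroup K) : Set K)) Subgroup.le_normalizer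
      (Subgroup.le_normalizer ((hQm xK).2 h.xP)) ?_ ?_ ?_ ?_ (j := j) (by omega) ?_ (by omega) hmj
    · intro t ht
      rw [blockHom_apply]
      exact blk_commute_shift hamd (h.pres_mem ((hQm t).1 ht)) (h.comm _ ((hQm t).1 ht))
    · intro t ht
      have ht' : (t : G) * x * (t : G)⁻¹ ∈ P :=
        (hQm _).1 ((Subgroup.mem_normalizer_iff.1 ht xK).1 ((hQm xK).2 h.xP))
      have e : cj (blockHom σ hamd ha hb) t (shift (ZMod p) m) =
          blk hamd (ρ ((t : G) * x * (t : G)⁻¹)) - 1 := by
        have h1 : blockHom σ hamd ha hb (t * xK * t⁻¹) - 1 =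
            cj (blockHom σ hamd ha hb) t (shift (ZMod p) m) := by
          rw [map_mul, map_mul, hbx, cj, mul_add, add_mul, mul_one, ← map_mul, mul_inv_cancel,
            map_one, add_sub_cancel_left]
        rw [← h1]
        rfl
      rw [e]
      exact (blk_commute_shift hamd (h.pres_mem ht') (h.comm _ ht')).sub_left (Commute.one_left _)
    · intro g hg hmem
      refine hg ?_
      have hx' : (g : G)⁻¹ * x * g ∈ P := (hQm _).1 hmem
      have hz' : (g : G)⁻¹ * z * g = z := by
        rw [mul_assoc, ← Subgroup.mem_centralizer_singleton_iff.1 g.2, inv_mul_cancel_left]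
      rw [← inv_mem_iff]
      refine Subgroup.mem_normalizer_iff.2 fun q => ?_
      have hmap : ∀ r ∈ P, (g : G)⁻¹ * r * g ∈ P := fun r hr => by
        obtain ⟨a, b, -, -, rfl⟩ := h.gen hr
        have e1 := conj_pow (i := a) (a := (g : G)⁻¹) (b := x)
        have e2 := conj_pow (i := b) (a := (g : G)⁻¹) (b := z)
        rw [inv_inv] at e1 e2
        have e : (g : G)⁻¹ * (x ^ a * z ^ b) * g = ((g : G)⁻¹ * x * g) ^ a * ((g : G)⁻¹ * z * g) ^ b := by
          rw [e1, e2]; group
        rw [e, hz']
        exact P.mul_mem (P.pow_mem hx' a) (P.pow_mem h.zP b)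
      have hbij : ∀ r, r ∈ P ↔ (g : G)⁻¹ * r * g ∈ P := fun r => ⟨hmap r, fun hr => by
        let f : P → P := fun s => ⟨(g : G)⁻¹ * s * g, hmap s s.2⟩
        have hf : Function.Injective f := fun s t he => by
          have := congrArg Subtype.val he
          exact Subtype.ext (mul_left_cancel (mul_right_cancel this))
        obtain ⟨s, hs⟩ := (Finite.injective_iff_surjective.1 hf) ⟨_, hr⟩
        rw [← mul_left_cancel (mul_right_cancel (congrArg Subtype.val hs))]
        exact s.2⟩
      show q ∈ Q ↔ g⁻¹ * q * g⁻¹⁻¹ ∈ Q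
      rw [hQm, hQm]
      simpa using hbij (q : G)
    · exact Sylow.not_dvd_index (Q.subtype Subgroup.le_normalizer)
    · intro t ht μ hs
      have ht' : (t : G) * x * (t : G)⁻¹ ∈ P :=
        (hQm _).1 ((Subgroup.mem_normalizer_iff.1 ht xK).1 ((hQm xK).2 h.xP))
      obtain ⟨μ', -, hs'⟩ := exists_scales ρ (by have := h.hjd; have := h.two; omega)
        (h.commute_cj ht')
      have hμ : μ' ^ j = 1 := (h.scale_z hs' (s := 1) (by
        rw [one_smul, mul_sub, sub_mul, mul_one, one_mul, ← map_mul, ← map_mul,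
          Subgroup.mem_centralizer_singleton_iff.1 t.2])).symm
      have hs2 : Scales (blockHom σ hamd ha hb) t μ' := by
        have h1 := blk_cong hamd hs'
        rw [blk_smul, ← pow_one (shift (ZMod p) d), blk_shift_pow, pow_one, pow_one] at h1
        show Cong _ _ (blockHom σ hamd ha hb t * shift (ZMod p) m * blockHom σ hamd ha hb t⁻¹) _
        have e : blk hamd (cj ρ (t : G) (shift (ZMod p) d)) =
            blockHom σ hamd ha hb t * shift (ZMod p) m * blockHom σ hamd ha hb t⁻¹ := by
          show blk hamd (σ t * shift (ZMod p) d * σ t⁻¹) = _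
          rw [blk_mul hamd ((hb t).mul (low_shift.pres (by omega) _)) (ha t⁻¹),
            blk_mul hamd (hb t) (low_shift.pres (by omega) _)]
          conv_lhs => rw [← pow_one (shift (ZMod p) d), blk_shift_pow, pow_one]
          rfl
        rw [← e]
        exact h1
      rw [scales_unique _ hm2 hs hs2, hμ]
  -- `P` is the unipotent kernel of the centralizer
  have hσinj : Function.Injective σ := h.inj.comp Subtype.val_injective
  have hU : (Q : Subgroup K) = layerKer σ :=
    ((Q.3 (layerKer_isPGroup σ hσinj h.d_le_p) (fun q hq => by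
      rw [mem_layerKer]
      refine low_cdeg_of_gap σ le_rfl hgapK ?_
      exact h.low_mem ((hQm q).1 hq)))).symm
  intro g hg
  refine Subgroup.mem_normalizer_iff.2 fun q => ?_
  have hn := layerKer_normal σ
  refine ⟨fun hq => ?_, fun hq => ?_⟩
  · have h1 := hn.conj_mem ⟨q, hPK hq⟩ (hU ▸ (hQm _).2 hq) ⟨g, hg⟩
    rw [← hU] at h1
    exact (hQm _).1 h1
  · have hqK : q ∈ K := by
      have := K.mul_mem (K.mul_mem (K.inv_mem hg) (hPK hq)) hg
      simpa [mul_assoc] using this
    have h1 := hn.conj_mem ⟨g * q * g⁻¹, hPK hq⟩ (hU ▸ (hQm _).2 hq) ⟨g⁻¹, K.inv_mem hg⟩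
    rw [← hU] at h1
    show q ∈ P
    simpa [mul_assoc] using (hQm _).1 h1

/-- Conjugates of `P` meet trivially. -/
theorem ti (hj : 2 * j < p - 1) {g q : G} (hq : q ∈ P) (hne : q ≠ 1) (hg : g⁻¹ * q * g ∈ P) :
    g ∈ Subgroup.normalizer ((P : Subgroup G) : Set G) := by
  classical
  set R : Subgroup G := (P : Subgroup G).map (MulAut.conj g).toMonoidHom with hR
  have hmemR : ∀ r ∈ P, g * r * g⁻¹ ∈ R := fun r hr => ⟨r, hr, rfl⟩
  have hRp : IsPGroup p R := P.2.map _
  have hqR : ∀ r ∈ R, q * r = r * q := by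
    rintro _ ⟨r, hr, rfl⟩
    have h1 := h.abelian hg hr
    have h2 := congrArg (fun a => g * a * g⁻¹) h1
    simpa [mul_assoc] using h2
  have hle : R ≤ Subgroup.normalizer ((P : Subgroup G) : Set G) := by
    intro r hr
    by_cases hz : q ∈ Subgroup.zpowers z
    · refine h.centralizer_le hj ?_
      obtain ⟨i, hi⟩ := h.mem_zpowers_of_mem hz hne
      rw [Subgroup.mem_centralizer_singleton_iff]
      have hi' : q ^ i = z := hi
      rw [← hi']
      exact ((show Commute q r from hqR r hr).zpow_left i).symm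
    · refine Subgroup.mem_normalizer_iff.2 fun a => ?_
      have hcq : Commute (ρ r) (ρ q - 1) := by
        refine Commute.sub_right ?_ (Commute.one_right _)
        show ρ r * ρ q = ρ q * ρ r
        rw [← map_mul, ← map_mul, hqR r hr]
      have hcom : ∀ b ∈ P, r * b = b * r := fun b hb => h.inj (by
        rw [map_mul, map_mul]
        refine commute_of_commute (h.low_mem hq) (h.regular hq hz) hcq ?_
        refine Commute.sub_right ?_ (Commute.one_right _)
        show ρ b * ρ q = ρ q * ρ b
        rw [← map_mul, ← map_mul, h.abelian hb hq])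
      refine ⟨fun ha => by rwa [hcom a ha, mul_inv_cancel_right], fun ha => ?_⟩
      have h2 : r * a * r⁻¹ = a :=
        mul_left_cancel (a := r) ((hcom _ ha).trans (by rw [inv_mul_cancel_right]))
      rwa [h2] at ha
  have hRP : R ≤ (P : Subgroup G) := le_of_normalize hRp hle
  have hcard : Nat.card R = Nat.card (P : Subgroup G) := by
    rw [hR, Subgroup.card_map_of_injective (MulAut.conj g).injective]
  have heq : R = (P : Subgroup G) := Subgroup.eq_of_le_of_card_ge hRP hcard.ge
  refine Subgroup.mem_normalizer_iff.2 fun a => ⟨fun ha => heq ▸ hmemR a ha, fun ha => ?_⟩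
  obtain ⟨b, hb, he⟩ := (heq.symm ▸ ha : g * a * g⁻¹ ∈ R)
  have he' : g * b * g⁻¹ = g * a * g⁻¹ := he
  rwa [← mul_left_cancel (mul_right_cancel he')]

end Pair

end Cfsg.Agent.RegUnip
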