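import Cfsg.Agent.RegUnip.Abelian

/-!
No irreducible group has an abelian Sylow subgroup of order `p²` of regular unipotent type with
second degree at most half the rank.
-/

set_option autoImplicit false

namespace Cfsg.Agent.RegUnip

open Finset Matrix

universe u

variable {p : ℕ} [hp : Fact p.Prime] {d : ℕ} {G : Type u} [Group G] [Finite G]
  {ρ : G →* Matrix (Fin d) (Fin d) (ZMod p)} {P : Sylow p G} {x z : G} {j : ℕ} {c : ZMod p}

namespace Pair

variable (h : Pair ρ P x z j c)
include h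

/-- The norm of `P` on tensors. -/
theorem sum_cj {n : ℕ} (U : Matrix (Fin n → Fin d) (Fin n → Fin d) (ZMod p))
    [Fintype (P : Subgroup G)] :
    (∑ q : (P : Subgroup G), cj (tρ ρ n) q U) = dif (conjHom ((tρ ρ n).toHomUnits x)) (p - 1)
      (dif (conjHom ((tρ ρ n).toHomUnits z)) (p - 1) U) := by
  classical
  let f : Fin p × Fin p → (P : Subgroup G) := fun ab => ⟨x ^ (ab.1 : ℕ) * z ^ (ab.2 : ℕ),
    P.mul_mem (P.pow_mem h.xP _) (P.pow_mem h.zP _)⟩
  have hbij : Function.Bijective f := by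
    refine ⟨fun s t he => ?_, fun q => ?_⟩
    · obtain ⟨h1, h2⟩ := h.unique s.1.2 s.2.2 t.1.2 t.2.2 (congrArg Subtype.val he)
      exact Prod.ext (Fin.ext h1) (Fin.ext h2)
    · obtain ⟨a, b, ha, hb, he⟩ := h.gen q.2
      exact ⟨(⟨a, ha⟩, ⟨b, hb⟩), Subtype.ext he.symm⟩
  rw [← Fintype.sum_bijective f hbij _ _ fun _ => rfl, Fintype.sum_prod_type,
    ← sum_iterate natCast_tensor_zero (conjHom ((tρ ρ n).toHomUnits x)),
    ← sum_iterate natCast_tensor_zero (conjHom ((tρ ρ n).toHomUnits z)),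
    ← Fin.sum_univ_eq_sum_range (fun a => ((conjHom ((tρ ρ n).toHomUnits x))^[a]) _) p]
  refine Finset.sum_congr rfl fun a _ => ?_
  rw [← cj_pow, ← Fin.sum_univ_eq_sum_range (fun b => ((conjHom ((tρ ρ n).toHomUnits z))^[b]) U) p,
    cj_sum]
  exact Finset.sum_congr rfl fun b _ => by rw [← cj_pow, ← cj_mul]

theorem low_sum_cj {n : ℕ} {f : ℤ} {U : Matrix (Fin n → Fin d) (Fin n → Fin d) (ZMod p)}
    (hU : Low (tdeg n d) f U) [Fintype (P : Subgroup G)] :
    Low (tdeg n d) (f + ((p - 1 : ℕ) : ℤ) * j + ((p - 1 : ℕ) : ℤ))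
      (∑ q : (P : Subgroup G), cj (tρ ρ n) q U) := by
  rw [h.sum_cj U]
  have h1 := low_norm ρ h.low (by have := h.two; omega) h.d_le_p hU
  have h2 := low_norm ρ (e := 1) h.low_x le_rfl h.d_le_p h1
  simpa using h2

/-- The case of a small second degree. -/
theorem t_false (hirr : Irr ρ) (hj : 2 * j < p - 1) : False := by
  classical
  have hjd := h.hjd
  have hj2 := h.two
  have hdp := h.hd
  set N := p - 1 with hN
  set r := (N - 1) / (d - 1) with hr
  have hr1 : r * (d - 1) ≤ N - 1 := Nat.div_mul_le_self _ _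
  have hr2 : N - 1 < r * (d - 1) + (d - 1) := by
    have h1 := Nat.div_add_mod (N - 1) (d - 1)
    have h2 := Nat.mod_lt (N - 1) (show 0 < d - 1 by omega)
    rw [hr, mul_comm]
    omega
  let a : Fin (r + 1) → ℕ := fun l => if (l : ℕ) < r then d - 1 else N - r * (d - 1)
  have ha : ∀ l, a l ≤ d - 1 := fun l => by
    simp only [a]
    split_ifs <;> omega
  have hasum : ∑ l, a l = N := by
    rw [Fin.sum_univ_castSucc]
    simp only [a, Fin.val_castSucc, Fin.is_lt, if_true, Fin.val_last, lt_irrefl, if_false,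
      Finset.sum_const, Finset.card_univ, Fintype.card_fin, smul_eq_mul]
    omega
  have hasumZ : (∑ l, (a l : ℤ)) = (N : ℤ) := by rw [← hasum, Nat.cast_sum]
  set v₀ : Matrix (Fin (r + 1) → Fin d) (Fin (r + 1) → Fin d) (ZMod p) :=
    tp fun l => shift (ZMod p) d ^ a l with hv₀
  have hv₀l : Low (tdeg (r + 1) d) N v₀ := by
    refine (low_tp (e := fun l => (a l : ℤ)) fun l => ?_).mono (le_of_eq hasumZ.symm)
    exact (low_shift.pow (a l)).mono (by simp)
  have hfix : ∀ t ∈ (P : Subgroup G), cj (tρ ρ (r + 1)) t v₀ = v₀ := fun t ht => by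
    rw [hv₀, cj_tp]
    congr 1
    funext l
    rw [cj_pow_mat, cj_eq_self ρ (h.comm t ht)]
  set L := Subgroup.normalizer ((P : Subgroup G) : Set G) with hL
  have : Fintype (G ⧸ (P : Subgroup G)) := Fintype.ofFinite _
  have : Fintype (P : Subgroup G) := Fintype.ofFinite _
  have hfree : ∀ g, g ∉ L → ∀ q ∈ (P : Subgroup G), g⁻¹ * q * g ∈ (P : Subgroup G) → q = 1 := by
    intro g hg q hq hmem
    by_contra hne
    exact hg (h.ti hj hq hne hmem)
  obtain ⟨U, hWinv, hWeq⟩ := exists_trace (tρ ρ (r + 1)) (P : Subgroup G) L (P : Subgroup G)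
    Subgroup.le_normalizer Subgroup.le_normalizer hfix hfree
  set W := ∑ q : G ⧸ (P : Subgroup G), cj (tρ ρ (r + 1)) q.out v₀
  set S := Finset.univ.filter (fun q : G ⧸ (P : Subgroup G) => q.out ∈ L) with hS
  have hterm : ∀ q ∈ S, Cong (tdeg (r + 1) d) ((N : ℤ) + 1) (cj (tρ ρ (r + 1)) q.out v₀) v₀ := by
    intro q hq
    have hqL : q.out ∈ L := by simpa [hS] using hq
    obtain ⟨μ, hμ, hs⟩ := exists_scales ρ (by omega)
      (h.commute_cj ((Subgroup.mem_normalizer_iff.1 hqL x).1 h.xP))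
    have h1 := scales_tp ρ hs a
    rw [hasum, hN, ZMod.pow_card_sub_one_eq_one hμ, one_smul, hasumZ] at h1
    exact h1
  have hNorm : Low (tdeg (r + 1) d) ((N : ℤ) + 1) (∑ q : (P : Subgroup G), cj (tρ ρ (r + 1)) q U) := by
    refine (h.low_sum_cj (low_any_tensor U)).mono ?_
    have h1 : ((r * (d - 1) + (d - 1) + 1 : ℕ) : ℤ) ≤ (((p - 1) * j : ℕ) : ℤ) := by
      have : (p - 1) * 2 ≤ (p - 1) * j := Nat.mul_le_mul_left _ hj2
      exact_mod_cast (show r * (d - 1) + (d - 1) + 1 ≤ (p - 1) * j by omega)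
    push_cast [Nat.cast_sub (show 1 ≤ d by omega)] at h1 ⊢
    linarith
  have hWN : Low (tdeg (r + 1) d) (N : ℤ) W := by
    rw [hWeq]
    exact (Low.sum _ _ fun q hq => (hterm q hq).low hv₀l (by omega)).add (hNorm.mono (by omega))
  have hW0 : W = 0 := tensor_zero ρ hirr h.hx hWinv hWN (by
    have h1 : ((r * (d - 1) : ℕ) : ℤ) < (N : ℤ) := by exact_mod_cast (show r * (d - 1) < N by omega)
    push_cast [Nat.cast_sub (show 1 ≤ d by omega)] at h1
    linarith)
  let I : Fin (r + 1) → Fin d := fun l => ⟨a l, by have := ha l; omega⟩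
  let O : Fin (r + 1) → Fin d := fun _ => ⟨0, by omega⟩
  have hIO : tdeg (r + 1) d I < tdeg (r + 1) d O + ((N : ℤ) + 1) := by
    rw [tdeg_eq_natCast, tdeg_eq_natCast]
    simp only [I, O, hasum, Finset.sum_const_zero, Nat.cast_zero, zero_add]
    omega
  have hv1 : v₀ I O = 1 := by
    rw [hv₀, tp_apply]
    exact Finset.prod_eq_one fun l _ => by
      rw [shift_pow_apply, if_pos (show a l = 0 + a l by omega)]
  have he : W I O = ((S.card : ℕ) : ZMod p) := by
    rw [hWeq, Matrix.add_apply, hNorm.apply_eq_zero hIO, add_zero, Matrix.sum_apply,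
      Finset.sum_congr rfl fun q hq => ((hterm q hq).apply_eq hIO).trans hv1]
    simp
  rw [hW0, Matrix.zero_apply, hS, card_filter_mem (P : Subgroup G) L Subgroup.le_normalizer] at he
  exact Sylow.not_dvd_index (P.subtype Subgroup.le_normalizer) ((ZMod.natCast_eq_zero_iff _ _).1 he.symm)

/-- The case `d = p - 1 = 2 j`. -/
theorem trick_false (hirr : Irr ρ) (hdj : d = 2 * j) (hdp : d = p - 1) : False := by
  classical
  have hjd := h.hjd
  have hj2 := h.two
  set N := shift (ZMod p) d with hN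
  set Y := ρ z - 1 with hY
  have hY2 : Y * Y = 0 := low_eq_zero (by push_cast [hdj]; omega) (h.low.mul h.low)
  have hpow : ∀ s : ℕ, ρ (z ^ s) - 1 = (s : ZMod p) • Y := by
    intro s
    induction s with
    | zero => simp
    | succ s ih =>
      rw [pow_succ, map_mul, show ρ (z ^ s) * ρ z - 1 = (ρ (z ^ s) - 1) + Y + (ρ (z ^ s) - 1) * Y by
        rw [hY]; noncomm_ring, ih, Matrix.smul_mul, hY2, smul_zero, add_zero, Nat.cast_succ, add_smul,
        one_smul]
  set Z := Subgroup.zpowers z with hZ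
  set L := Subgroup.normalizer (Z : Set G) with hL
  have hzq : ∀ q, q ∈ P → Commute z q := fun q hq => h.abelian h.zP hq
  have hPL : (P : Subgroup G) ≤ L := fun q hq => by
    refine Subgroup.mem_normalizer_iff.2 fun a => ⟨fun ha => ?_, fun ha => ?_⟩
    · obtain ⟨i, rfl⟩ := ha
      exact ⟨i, by rw [eq_mul_inv_iff_mul_eq]; exact ((hzq q hq).zpow_left i).eq⟩
    · obtain ⟨i, hi⟩ := ha
      have hi' : z ^ i = q * a * q⁻¹ := hi
      refine ⟨i, ?_⟩
      have h1 : q * z ^ i = q * a := by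
        rw [← ((hzq q hq).zpow_left i).eq, hi', inv_mul_cancel_right]
      exact mul_left_cancel h1
  have hconjz : ∀ t ∈ L, ∃ s : ℕ, t * z * t⁻¹ = z ^ s := fun t ht => by
    have h1 := (Subgroup.mem_normalizer_iff.1 ht z).1 (Subgroup.mem_zpowers z)
    exact (mem_zpowers_iff_mem_range_orderOf.1 h1 |> Finset.mem_image.1).imp fun s hs => hs.2.symm
  have hcjY : ∀ (t : G) (s : ℕ), t * z * t⁻¹ = z ^ s → cj ρ t Y = (s : ZMod p) • Y := fun t s hs => by
    rw [← hpow, ← hs, cj, hY, mul_sub, sub_mul, mul_one, ← map_mul, ← map_mul, ← map_mul,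
      mul_inv_cancel, map_one]
  -- an element of the normaliser of `⟨z⟩` acts on `z` by a sign
  have hsign : ∀ t ∈ L, ∀ s : ℕ, t * z * t⁻¹ = z ^ s → (s : ZMod p) * (s : ZMod p) = 1 := by
    intro t ht s hs
    set C := Subgroup.centralizer ({z} : Set G) with hC
    have hPC : (P : Subgroup G) ≤ C := fun q hq => by
      rw [hC, Subgroup.mem_centralizer_singleton_iff]; exact (hzq q hq).symm.eq
    have hp0 : (z ^ s) ≠ 1 := by
      rw [← hs]
      intro e
      exact h.z_ne (by simpa [mul_assoc] using congrArg (fun a => t⁻¹ * a * t) e)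
    have hzs : z ∈ Subgroup.zpowers (z ^ s) :=
      h.mem_zpowers_of_mem (Subgroup.pow_mem _ (Subgroup.mem_zpowers z) s) hp0
    have hcC : ∀ q ∈ P, t * q * t⁻¹ ∈ C := fun q hq => by
      rw [hC, Subgroup.mem_centralizer_singleton_iff]
      obtain ⟨i, hi⟩ := hzs
      have hi' : (z ^ s) ^ i = z := hi
      have h1 : Commute (t * q * t⁻¹) (z ^ s) := by
        rw [← hs]
        exact Commute.map (hzq q hq).symm (MulAut.conj t).toMonoidHom
      rw [← hi']
      exact (h1.zpow_right i).eq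
    have hR : (t • P : Sylow p G) ≤ C := by
      intro a ha
      rw [Sylow.coe_subgroup_smul] at ha
      obtain ⟨q, hq, rfl⟩ := Subgroup.mem_map.1 ha
      exact hcC q hq
    obtain ⟨k, hk⟩ := MulAction.exists_smul_eq C ((t • P : Sylow p G).subtype hR) (P.subtype hPC)
    have hk' : ((k : G) * t) • P = P := by
      rw [Sylow.smul_subtype hR] at hk
      rw [mul_smul]
      exact Sylow.subtype_injective hk
    have hnorm := Sylow.smul_eq_iff_mem_normalizer.1 hk'
    have hkz : ((k : G) * t) * z * ((k : G) * t)⁻¹ = z ^ s := by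
      have hck : Commute (k : G) z := Subgroup.mem_centralizer_singleton_iff.1 k.2
      rw [_root_.mul_inv_rev, show (k : G) * t * z * (t⁻¹ * (k : G)⁻¹) = (k : G) * (t * z * t⁻¹) * (k : G)⁻¹ by
        group, hs, (hck.pow_right s).eq, mul_inv_cancel_right]
    obtain ⟨μ, hμ, hsc⟩ := exists_scales ρ (by omega)
      (h.commute_cj ((Subgroup.mem_normalizer_iff.1 hnorm x).1 h.xP))
    have hsμ : (s : ZMod p) = μ ^ j := h.scale_z hsc (by
      have h1 := hcjY _ s hkz
      rw [cj] at h1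
      calc ρ ((k : G) * t) * Y
          = ρ ((k : G) * t) * Y * (ρ ((k : G) * t)⁻¹ * ρ ((k : G) * t)) := by
            rw [← map_mul, inv_mul_cancel, map_one, mul_one]
        _ = ((s : ZMod p) • Y) * ρ ((k : G) * t) := by rw [← mul_assoc, h1]
        _ = _ := Matrix.smul_mul _ _ _)
    rw [hsμ, ← pow_add, show j + j = p - 1 by omega, ZMod.pow_card_sub_one_eq_one hμ]
  set v : Matrix (Fin 2 → Fin d) (Fin 2 → Fin d) (ZMod p) := tp fun _ => Y with hv
  have hfix : ∀ t ∈ L, cj (tρ ρ 2) t v = v := fun t ht => by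
    obtain ⟨s, hs⟩ := hconjz t ht
    rw [hv, cj_tp, hcjY t s hs, tp_smul, Fin.prod_univ_two, hsign t ht s hs, one_smul]
  have : Fintype (G ⧸ L) := Fintype.ofFinite _
  have : Fintype (P : Subgroup G) := Fintype.ofFinite _
  have hmemz : ∀ w, w ∈ P → (ρ w - 1) * (ρ w - 1) = 0 → w ∈ Z := fun w hw hq => by
    by_contra hnot
    have hd2 : 2 < d := by omega
    have e := congrFun (congrFun hq (⟨2, hd2⟩ : Fin d)) ⟨0, by omega⟩
    rw [Matrix.mul_apply, Finset.sum_eq_single (⟨1, by omega⟩ : Fin d), Matrix.zero_apply] at e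
    · exact mul_ne_zero (h.regular hw hnot _ _ rfl) (h.regular hw hnot _ _ rfl) e
    · intro r _ hr
      have : (r : ℕ) ≠ 1 := fun e' => hr (Fin.ext e')
      rcases Nat.lt_or_ge (r : ℕ) 1 with hlt | hge
      · rw [(h.low_mem hw).apply_eq_zero (i := r) (l := ⟨0, by omega⟩)
          (by simp only [fdeg]; omega), mul_zero]
      · rw [(h.low_mem hw).apply_eq_zero (i := ⟨2, hd2⟩) (l := r)
          (by simp only [fdeg]; omega), zero_mul]
    · simp
  have hfree : ∀ g, g ∉ L → ∀ q ∈ (P : Subgroup G), g⁻¹ * q * g ∈ L → q = 1 := by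
    intro g hg q hq hmem
    by_contra hne
    refine hg ?_
    set w := g * z * g⁻¹ with hw
    -- a `p`-element normalising `⟨z⟩` centralises it
    have hqw : Commute q w := by
      obtain ⟨s, hs⟩ := hconjz _ hmem
      have hiter : ∀ e : ℕ, (g⁻¹ * q * g) ^ e * z * ((g⁻¹ * q * g) ^ e)⁻¹ = z ^ (s ^ e) := fun e => by
        induction e with
        | zero => simp
        | succ e ih =>
          calc (g⁻¹ * q * g) ^ (e + 1) * z * ((g⁻¹ * q * g) ^ (e + 1))⁻¹
              = (g⁻¹ * q * g) ^ e * (g⁻¹ * q * g * z * (g⁻¹ * q * g)⁻¹) * ((g⁻¹ * q * g) ^ e)⁻¹ := by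
                rw [pow_succ]; simp only [mul_assoc, _root_.mul_inv_rev]
            _ = z ^ (s ^ (e + 1)) := by rw [hs, ← conj_pow, ih, ← pow_mul, pow_succ]
      have hqp : q ^ p = 1 := by
        obtain ⟨a, b, -, -, rfl⟩ := h.gen hq
        rw [((show Commute x z from h.abelian h.xP h.zP).pow_pow a b).mul_pow, ← pow_mul, ← pow_mul,
          mul_comm a, mul_comm b, pow_mul, pow_mul, h.x_pow, h.z_pow, one_pow, one_pow, one_mul]
      have h1 := hiter p
      have hqgp : (g⁻¹ * q * g) ^ p = 1 := by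
        have e1 := conj_pow (i := p) (a := g⁻¹) (b := q)
        rw [inv_inv, hqp, mul_one, inv_mul_cancel] at e1
        exact e1
      rw [hqgp, inv_one, one_mul, mul_one, ← pow_one z, ← pow_mul, one_mul,
        pow_eq_pow_iff_modEq, h.order_z, ← ZMod.natCast_eq_natCast_iff] at h1
      rw [Nat.cast_pow, ZMod.pow_card, Nat.cast_one] at h1
      have hs1 : z ^ s = z := by
        conv_rhs => rw [← pow_one z]
        rw [pow_eq_pow_iff_modEq, h.order_z, ← ZMod.natCast_eq_natCast_iff, Nat.cast_one]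
        exact h1.symm
      rw [hs1, mul_inv_eq_iff_eq_mul] at hs
      have h2 := congrArg (fun a => g * a * g⁻¹) hs
      simpa [hw, Commute, SemiconjBy, mul_assoc] using h2
    have hwp : w ^ p = 1 := by rw [hw, conj_pow, h.z_pow, mul_one, mul_inv_cancel]
    have hquad : (ρ w - 1) * (ρ w - 1) = 0 := by
      have e : ρ w - 1 = ρ g * Y * ρ g⁻¹ := by
        rw [hY, hw, map_mul, map_mul, mul_sub, sub_mul, mul_one, ← map_mul ρ g g⁻¹, mul_inv_cancel,
          map_one]
      rw [e, mul_assoc, ← mul_assoc (ρ g⁻¹), ← mul_assoc (ρ g⁻¹), ← map_mul, inv_mul_cancel, map_one,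
        one_mul, ← mul_assoc, mul_assoc (ρ g), hY2, mul_zero, zero_mul]
    have hwZ : w ∈ Z := by
      by_cases hqz : q ∈ Subgroup.zpowers z
      · obtain ⟨i, hi⟩ := h.mem_zpowers_of_mem hqz hne
        have hi' : q ^ i = z := hi
        set C := Subgroup.centralizer ({z} : Set G)
        have hPC : (P : Subgroup G) ≤ C := fun a ha =>
          Subgroup.mem_centralizer_singleton_iff.2 (hzq a ha).symm.eq
        have hwC : w ∈ C := Subgroup.mem_centralizer_singleton_iff.2
          (hi' ▸ ((hqw.zpow_left i).symm).eq)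
        have hwp' : IsPGroup p (Subgroup.zpowers (⟨w, hwC⟩ : C)) := by
          rw [IsPGroup.iff_card]
          rcases eq_or_ne (⟨w, hwC⟩ : C) 1 with e | e
          · exact ⟨0, by simp [e]⟩
          · exact ⟨1, by rw [pow_one, Nat.card_zpowers, orderOf_eq_prime (Subtype.ext hwp) e]⟩
        obtain ⟨Q, hQ⟩ := hwp'.exists_le_sylow
        obtain ⟨k, hk⟩ := MulAction.exists_smul_eq C Q (P.subtype hPC)
        have hkw : ((k : G) * w * (k : G)⁻¹) ∈ P := by
          have h1 : k * ⟨w, hwC⟩ * k⁻¹ ∈ (k • Q : Sylow p C) := by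
            show _ ∈ (↑(k • Q) : Subgroup C)
            rw [Sylow.coe_subgroup_smul]
            exact Subgroup.mem_map.2 ⟨⟨w, hwC⟩, hQ (Subgroup.mem_zpowers _), rfl⟩
          rw [hk] at h1
          exact h1
        have hq2 : (ρ ((k : G) * w * (k : G)⁻¹) - 1) * (ρ ((k : G) * w * (k : G)⁻¹) - 1) = 0 := by
          have e : ρ ((k : G) * w * (k : G)⁻¹) - 1 = ρ k * (ρ w - 1) * ρ (k : G)⁻¹ := by
            rw [map_mul, map_mul, mul_sub, sub_mul, mul_one, ← map_mul ρ (k : G) (k : G)⁻¹,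
              mul_inv_cancel, map_one]
          rw [e, mul_assoc, ← mul_assoc (ρ (k : G)⁻¹), ← mul_assoc (ρ (k : G)⁻¹), ← map_mul,
            inv_mul_cancel, map_one, one_mul, ← mul_assoc, mul_assoc (ρ k), hquad, mul_zero, zero_mul]
        obtain ⟨e, he⟩ := hmemz _ hkw hq2
        have he' : z ^ e = (k : G) * w * (k : G)⁻¹ := he
        refine ⟨e, ?_⟩
        have hck : Commute (k : G) (z ^ e) :=
          (show Commute (k : G) z from Subgroup.mem_centralizer_singleton_iff.1 k.2).zpow_right e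
        calc z ^ e = (k : G)⁻¹ * z ^ e * (k : G) := by
              rw [mul_assoc, ← hck.eq, inv_mul_cancel_left]
          _ = w := by rw [he']; group
      · have hcN : Commute (ρ w) N := by
          have hcq : Commute (ρ w) (ρ q - 1) :=
            Commute.sub_right (show Commute (ρ w) (ρ q) by
              show ρ w * ρ q = ρ q * ρ w
              rw [← map_mul, ← map_mul, hqw.symm.eq]) (Commute.one_right _)
          refine commute_of_commute (h.low_mem hq) (h.regular hq hqz) hcq ?_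
          exact (h.comm q hq).symm.sub_right (Commute.one_right _)
        exact hmemz w (h.mem_of_commute_shift hwp hcN) hquad
    have hconj : Z.map (MulAut.conj g).toMonoidHom = Z := by
      refine Subgroup.eq_of_le_of_card_ge ?_ (le_of_eq ?_)
      · rw [hZ, MonoidHom.map_zpowers]
        exact Subgroup.zpowers_le.2 hwZ
      · rw [Subgroup.card_map_of_injective (MulAut.conj g).injective]
    refine Subgroup.mem_normalizer_iff.2 fun a => ?_
    show a ∈ Z ↔ g * a * g⁻¹ ∈ Z
    conv_rhs => rw [← hconj]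
    exact ⟨fun ha => ⟨a, ha, rfl⟩, fun ha => by
      obtain ⟨b, hb, he⟩ := ha
      have he' : g * b * g⁻¹ = g * a * g⁻¹ := he
      rwa [← mul_left_cancel (mul_right_cancel he')]⟩
  obtain ⟨U, hWinv, hWeq⟩ := exists_trace (tρ ρ 2) L L (P : Subgroup G) le_rfl hPL hfix hfree
  set W := ∑ q : G ⧸ L, cj (tρ ρ 2) q.out v
  set S := Finset.univ.filter (fun q : G ⧸ L => q.out ∈ L) with hS
  have hSsum : (∑ q ∈ S, cj (tρ ρ 2) q.out v) = v := by
    have hcard : S.card = 1 := by rw [hS, card_filter_mem L L le_rfl, Subgroup.relIndex_self]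
    rw [Finset.sum_congr rfl fun q hq => hfix _ (by simpa [hS] using hq), Finset.sum_const, hcard,
      one_smul]
  have hNorm : Low (tdeg 2 d) (((2 * j : ℕ) : ℤ) + 1) (∑ q : (P : Subgroup G), cj (tρ ρ 2) q U) := by
    refine (h.low_sum_cj (low_any_tensor U)).mono ?_
    rw [← hdp, hdj]
    push_cast
    nlinarith
  have hvl : Low (tdeg 2 d) ((2 * j : ℕ) : ℤ) v :=
    (low_tp (e := fun _ => (j : ℤ)) fun _ => h.low).mono (le_of_eq (by simp))
  have hWl : Low (tdeg 2 d) ((2 * j : ℕ) : ℤ) W := by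
    rw [hWeq, hSsum]; exact hvl.add (hNorm.mono (by omega))
  have hW0 : W = 0 := tensor_zero (r := 1) ρ hirr h.hx hWinv hWl (by push_cast [hdj]; omega)
  let I : Fin 2 → Fin d := fun _ => ⟨j, hjd⟩
  let O : Fin 2 → Fin d := fun _ => ⟨0, by omega⟩
  have he : W I O = c * c := by
    rw [hWeq, hSsum, Matrix.add_apply, hNorm.apply_eq_zero (by
      rw [tdeg_eq_natCast, tdeg_eq_natCast]; simp [I, O]), add_zero, hv, tp_apply,
      Fin.prod_univ_two]
    exact congrArg₂ (· * ·) (h.lead_apply (show (I 0 : ℕ) = (O 0 : ℕ) + j by simp [I, O]))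
      (h.lead_apply (show (I 1 : ℕ) = (O 1 : ℕ) + j by simp [I, O]))
  rw [hW0, Matrix.zero_apply] at he
  exact mul_ne_zero h.hc h.hc he.symm

end Pair

end Cfsg.Agent.RegUnip
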