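import Cfsg.Agent.RegUnip.Torus
import Mathlib.GroupTheory.Sylow
import Mathlib.Data.Nat.Nth

/-!
Layers of invariant tails and the representations on their quotients.
-/

set_option autoImplicit false

namespace Cfsg.Agent.RegUnip

open Finset Matrix

universe u v

variable {k : Type v} [CommRing k] {d m : ℕ}

/-- The index of the block starting at `a`. -/
def emb {a m : ℕ} (h : a + m ≤ d) (i : Fin m) : Fin d := ⟨a + (i : ℕ), by omega⟩

/-- The diagonal block of size `m` at `a`. -/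
def blk {a m : ℕ} (h : a + m ≤ d) (A : Matrix (Fin d) (Fin d) k) : Matrix (Fin m) (Fin m) k :=
  A.submatrix (emb h) (emb h)

theorem blk_apply {a m : ℕ} (h : a + m ≤ d) (A : Matrix (Fin d) (Fin d) k) (i l : Fin m) :
    blk h A i l = A (emb h i) (emb h l) := rfl

theorem blk_one {a m : ℕ} (h : a + m ≤ d) : blk h (1 : Matrix (Fin d) (Fin d) k) = 1 := by
  ext i l
  simp [blk_apply, emb, Matrix.one_apply, Fin.ext_iff]

theorem blk_sub {a m : ℕ} (h : a + m ≤ d) (A B : Matrix (Fin d) (Fin d) k) :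
    blk h (A - B) = blk h A - blk h B := rfl

theorem blk_smul {a m : ℕ} (h : a + m ≤ d) (c : k) (A : Matrix (Fin d) (Fin d) k) :
    blk h (c • A) = c • blk h A := rfl

theorem blk_shift_pow {a m : ℕ} (h : a + m ≤ d) (e : ℕ) :
    blk h (shift k d ^ e) = shift k m ^ e := by
  ext i l
  rw [blk_apply, shift_pow_apply, shift_pow_apply]
  simp [emb, Nat.add_assoc]

theorem blk_low {a m : ℕ} (h : a + m ≤ d) {e : ℤ} {A : Matrix (Fin d) (Fin d) k}
    (hA : Low (fdeg d) e A) : Low (fdeg m) e (blk h A) := fun i l hne => by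
  have := hA _ _ hne
  simp only [fdeg, emb] at this ⊢
  omega

theorem blk_cong {a m : ℕ} (h : a + m ≤ d) {e : ℤ} {A B : Matrix (Fin d) (Fin d) k}
    (hA : Cong (fdeg d) e A B) : Cong (fdeg m) e (blk h A) (blk h B) := by
  rw [Cong, ← blk_sub]
  exact blk_low h hA

theorem blk_mul {a m : ℕ} (h : a + m ≤ d) {A B : Matrix (Fin d) (Fin d) k} (hA : Pres A (a + m))
    (hB : Pres B a) : blk h (A * B) = blk h A * blk h B := by
  ext i l
  rw [blk_apply, Matrix.mul_apply, Matrix.mul_apply]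
  refine (Finset.sum_of_injOn (emb h) (fun r _ s _ e => ?_) (fun r _ => mem_univ _) ?_
    (fun r _ => rfl)).symm
  · exact Fin.ext (by simpa [emb, Fin.ext_iff] using e)
  · intro r _ hr
    rcases lt_or_ge (r : ℕ) a with hra | hra
    · rw [hB r (emb h l) hra (Nat.le_add_right _ _), mul_zero]
    · rcases lt_or_ge (r : ℕ) (a + m) with hrb | hrb
      · exact absurd ⟨⟨(r : ℕ) - a, by omega⟩, by simp, Fin.ext (by simp [emb]; omega)⟩ hr
      · rw [hA (emb h i) r (by simp [emb]) hrb, zero_mul]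

theorem blk_commute_shift {a m : ℕ} (h : a + m ≤ d) {A : Matrix (Fin d) (Fin d) k}
    (hA : ∀ b, Pres A b) (hc : Commute A (shift k d)) : Commute (blk h A) (shift k m) := by
  have hs : ∀ b, Pres (shift k d) b := fun b => low_shift.pres (by omega) b
  have h1 := congrArg (blk h) hc.eq
  rw [blk_mul h (hA _) (hs _), blk_mul h (hs _) (hA _)] at h1
  have h2 := blk_shift_pow (k := k) h 1
  rw [pow_one, pow_one] at h2
  rwa [h2] at h1

variable {p : ℕ} [hp : Fact p.Prime] {G : Type u} [Group G]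
  (ρ : G →* Matrix (Fin d) (Fin d) (ZMod p))

/-- The invariant tails. -/
def InvTail (a : ℕ) : Prop := ∀ g, Pres (ρ g) a

/-- The representation on a block between invariant tails. -/
def blockHom {a m : ℕ} (h : a + m ≤ d) (ha : InvTail ρ a) (hb : InvTail ρ (a + m)) :
    G →* Matrix (Fin m) (Fin m) (ZMod p) where
  toFun g := blk h (ρ g)
  map_one' := by rw [map_one, blk_one]
  map_mul' g g' := by rw [map_mul, blk_mul h (hb g) (ha g')]

theorem blockHom_apply {a m : ℕ} (h : a + m ≤ d) (ha : InvTail ρ a) (hb : InvTail ρ (a + m))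
    (g : G) : blockHom ρ h ha hb g = blk h (ρ g) := rfl

theorem blockHom_irr {a m : ℕ} (h : a + m ≤ d) (ha : InvTail ρ a) (hb : InvTail ρ (a + m))
    (hno : ∀ b, a < b → b < a + m → ¬ InvTail ρ b) : Irr (blockHom ρ h ha hb) := by
  intro e he
  by_contra! hne
  refine hno (a + e) (by omega) (by omega) fun g i l hi hl => ?_
  rcases lt_or_ge (i : ℕ) a with hia | hia
  · exact ha g i l hia (by omega)
  · rcases lt_or_ge (l : ℕ) (a + m) with hlb | hlb
    · have h1 := he g ⟨(i : ℕ) - a, by omega⟩ ⟨(l : ℕ) - a, by omega⟩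
        (show (i : ℕ) - a < e by omega) (show e ≤ (l : ℕ) - a by omega)
      rw [blockHom_apply, blk_apply] at h1
      convert h1 using 2 <;> exact Fin.ext (by simp [emb]; omega)
    · exact hb g i l (by omega) hlb

/-- Around every index there is a pair of consecutive invariant tails. -/
theorem exists_block (l : ℕ) (hl : l < d) :
    ∃ a m, a ≤ l ∧ l < a + m ∧ a + m ≤ d ∧ InvTail ρ a ∧ InvTail ρ (a + m) ∧
      ∀ b, a < b → b < a + m → ¬ InvTail ρ b := by
  classical
  have h0 : InvTail ρ 0 := fun g => pres_zero _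
  have hex : ∃ b, l < b ∧ InvTail ρ b := ⟨d, hl, fun g => pres_of_le le_rfl _⟩
  set b := Nat.find hex with hb
  obtain ⟨hlb, hbi⟩ := Nat.find_spec hex
  have hbd : b ≤ d := Nat.find_le ⟨hl, fun g => pres_of_le le_rfl _⟩
  set a := Nat.findGreatest (fun a => InvTail ρ a) l
  have ha : InvTail ρ a := Nat.findGreatest_spec (P := fun a => InvTail ρ a) (Nat.zero_le l) h0
  have hal : a ≤ l := Nat.findGreatest_le _
  refine ⟨a, b - a, hal, by omega, by omega, ha, ?_, fun e h1 h2 he => ?_⟩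
  · rwa [show a + (b - a) = b by omega]
  · rcases le_or_gt e l with hel | hel
    · exact Nat.findGreatest_is_greatest h1 hel he
    · exact Nat.find_min hex (m := e) (by omega) ⟨hel, he⟩

open Classical in
/-- The layer of an index. -/
noncomputable def cdeg (i : Fin d) : ℤ :=
  (((Finset.range d).filter fun a => InvTail ρ a ∧ a ≤ (i : ℕ)).card : ℤ)

theorem cdeg_le (i : Fin d) : cdeg ρ i ≤ d := by
  classical
  rw [cdeg, Nat.cast_le]
  exact (Finset.card_filter_le _ _).trans (Finset.card_range d).le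

theorem one_le_cdeg (i : Fin d) : 1 ≤ cdeg ρ i := by
  classical
  rw [cdeg, ← Nat.cast_one, Nat.cast_le]
  exact Finset.card_pos.2 ⟨0, Finset.mem_filter.2
    ⟨Finset.mem_range.2 (lt_of_le_of_lt (Nat.zero_le _) i.isLt), fun g => pres_zero _, Nat.zero_le _⟩⟩

theorem low_cdeg_rho (g : G) : Low (cdeg ρ) 0 (ρ g) := fun i l hne => by
  classical
  rw [add_zero, cdeg, cdeg, Nat.cast_le]
  refine Finset.card_le_card fun a ha => ?_
  simp only [Finset.mem_filter, Finset.mem_range] at ha ⊢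
  refine ⟨ha.1, ha.2.1, ?_⟩
  by_contra hlt
  exact hne (ha.2.1 g i l (not_le.1 hlt) ha.2.2)

theorem low_cdeg_of_gap {e : ℕ} (he : 1 ≤ e) (hgap : ∀ l, l + e < d → ∃ a, l < a ∧ a ≤ l + e ∧ InvTail ρ a)
    {A : Matrix (Fin d) (Fin d) (ZMod p)} (hA : Low (fdeg d) e A) : Low (cdeg ρ) 1 A := by
  classical
  intro i l hne
  have hil := hA i l hne
  simp only [fdeg] at hil
  obtain ⟨a, hla, hae, ha⟩ := hgap (l : ℕ) (by omega)
  rw [cdeg, cdeg]
  have hlt : ((Finset.range d).filter fun b => InvTail ρ b ∧ b ≤ (l : ℕ)).card <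
      ((Finset.range d).filter fun b => InvTail ρ b ∧ b ≤ (i : ℕ)).card := by
    refine Finset.card_lt_card (Finset.ssubset_iff_of_subset (fun b hb => ?_) |>.2 ⟨a, ?_, ?_⟩)
    · simp only [Finset.mem_filter, Finset.mem_range] at hb ⊢
      exact ⟨hb.1, hb.2.1, by omega⟩
    · simp only [Finset.mem_filter, Finset.mem_range]
      exact ⟨by omega, ha, by omega⟩
    · simp only [Finset.mem_filter, Finset.mem_range]
      omega
  omega

/-- The kernel of the action on the layers. -/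
def layerKer : Subgroup G where
  carrier := {g | Low (cdeg ρ) 1 (ρ g - 1)}
  one_mem' := by
    show Low (cdeg ρ) 1 (ρ 1 - 1)
    rw [map_one, sub_self]; exact Low.zero
  mul_mem' {g h} hg hh := by
    show Low (cdeg ρ) 1 (ρ (g * h) - 1)
    rw [map_mul, show ρ g * ρ h - 1 = (ρ g - 1) * ρ h + (ρ h - 1) by noncomm_ring]
    exact ((Low.mul hg (low_cdeg_rho ρ h)).mono (show (1:ℤ) ≤ 1 + 0 by omega)).add hh
  inv_mem' {g} hg := by
    show Low (cdeg ρ) 1 (ρ g⁻¹ - 1)
    rw [show ρ g⁻¹ - 1 = -(ρ g⁻¹ * (ρ g - 1)) by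
      rw [mul_sub, ← map_mul, inv_mul_cancel, map_one, mul_one, neg_sub]]
    exact ((Low.mul (low_cdeg_rho ρ g⁻¹) hg).mono (show (1:ℤ) ≤ 0 + 1 by omega)).neg

theorem mem_layerKer {g : G} : g ∈ layerKer ρ ↔ Low (cdeg ρ) 1 (ρ g - 1) := Iff.rfl

theorem layerKer_normal : (layerKer ρ).Normal := ⟨fun g hg h => by
  rw [mem_layerKer] at hg ⊢
  rw [show ρ (h * g * h⁻¹) - 1 = ρ h * (ρ g - 1) * ρ h⁻¹ by
    rw [map_mul, map_mul, mul_sub, sub_mul, mul_one, ← map_mul ρ h h⁻¹, mul_inv_cancel, map_one]]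
  exact ((low_cdeg_rho ρ h).mul hg).mul (low_cdeg_rho ρ h⁻¹) |>.mono (by omega)⟩

theorem layerKer_isPGroup (hinj : Function.Injective ρ) (hd : d ≤ p) :
    IsPGroup p (layerKer ρ) := by
  intro g
  refine ⟨1, Subtype.ext (hinj ?_)⟩
  rw [pow_one, Subgroup.coe_pow, map_pow, Subgroup.coe_one, map_one]
  have h0 : (ρ (g : G) - 1) ^ p = 0 := by
    ext i l
    refine (Low.pow g.2 p).apply_eq_zero ?_
    have h1 := cdeg_le ρ i
    have h2 := one_le_cdeg ρ l
    omega
  obtain ⟨r, hr⟩ := Commute.exists_add_pow_prime_eq hp.out (Commute.one_left (ρ (g : G) - 1))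
  rw [add_sub_cancel, one_pow, h0] at hr
  have hp0 : ((p : Matrix (Fin d) (Fin d) (ZMod p))) = 0 := by
    rw [← Matrix.diagonal_natCast, ZMod.natCast_self]
    exact Matrix.diagonal_zero
  rw [hr, hp0]
  simp

end Cfsg.Agent.RegUnip
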