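import Mathlib.Data.Matrix.Mul
import Mathlib.Data.Matrix.Diagonal
import Mathlib.LinearAlgebra.Matrix.Trace
import Mathlib.LinearAlgebra.Matrix.ToLin
import Mathlib.Algebra.Field.ZMod
import Mathlib.Data.Fintype.BigOperators
import Mathlib.Tactic.LinearCombination
import Mathlib.Tactic.FinCases
import Mathlib.Tactic.Ring
import Mathlib.Tactic.Abel
import Mathlib.Tactic.NoncommRing

/-!
Matrices graded by a degree on the index set, and the regular nilpotent shift.
-/

set_option autoImplicit false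

namespace Cfsg.Agent.RegUnip

open Finset Matrix

universe u v

section generic

variable {ι : Type u} [Fintype ι] {k : Type v} [CommRing k] {deg : ι → ℤ}

/-- The matrix raises the degree by at least `e`. -/
def Low (deg : ι → ℤ) (e : ℤ) (A : Matrix ι ι k) : Prop :=
  ∀ i l, A i l ≠ 0 → deg l + e ≤ deg i

omit [Fintype ι] in
theorem Low.zero {e : ℤ} : Low deg e (0 : Matrix ι ι k) := fun _ _ h => absurd rfl h

omit [Fintype ι] in
theorem Low.apply_eq_zero {e : ℤ} {A : Matrix ι ι k} (h : Low deg e A) {i l : ι}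
    (hl : deg i < deg l + e) : A i l = 0 := by
  by_contra hne
  exact absurd (h i l hne) (not_le.2 hl)

omit [Fintype ι] in
theorem Low.mono {e e' : ℤ} {A : Matrix ι ι k} (h : Low deg e A) (he : e' ≤ e) : Low deg e' A :=
  fun i l hne => le_trans (by omega) (h i l hne)

omit [Fintype ι] in
theorem Low.add {e : ℤ} {A B : Matrix ι ι k} (hA : Low deg e A) (hB : Low deg e B) :
    Low deg e (A + B) := fun i l hne => by
  by_contra hlt
  exact hne (by rw [Matrix.add_apply, hA.apply_eq_zero (not_le.1 hlt), hB.apply_eq_zero (not_le.1 hlt),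
    add_zero])

omit [Fintype ι] in
theorem Low.neg {e : ℤ} {A : Matrix ι ι k} (hA : Low deg e A) : Low deg e (-A) :=
  fun i l hne => hA i l (fun h => hne (by rw [Matrix.neg_apply, h, neg_zero]))

omit [Fintype ι] in
theorem Low.sub {e : ℤ} {A B : Matrix ι ι k} (hA : Low deg e A) (hB : Low deg e B) :
    Low deg e (A - B) := sub_eq_add_neg A B ▸ hA.add hB.neg

omit [Fintype ι] in
theorem Low.smul {e : ℤ} {A : Matrix ι ι k} (hA : Low deg e A) (c : k) : Low deg e (c • A) :=
  fun i l hne => hA i l (fun h => hne (by rw [Matrix.smul_apply, h, smul_zero]))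

omit [Fintype ι] in
theorem Low.sum {e : ℤ} {κ : Type*} (s : Finset κ) (f : κ → Matrix ι ι k)
    (hf : ∀ x ∈ s, Low deg e (f x)) : Low deg e (∑ x ∈ s, f x) := by
  classical
  induction s using Finset.induction with
  | empty => simpa using Low.zero
  | insert a s ha ih =>
    rw [sum_insert ha]
    exact (hf a (mem_insert_self a s)).add (ih fun x hx => hf x (mem_insert_of_mem hx))

theorem Low.mul {e e' : ℤ} {A B : Matrix ι ι k} (hA : Low deg e A) (hB : Low deg e' B) :
    Low deg (e + e') (A * B) := fun i l hne => by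
  rw [Matrix.mul_apply] at hne
  obtain ⟨r, -, hr⟩ := exists_ne_zero_of_sum_ne_zero hne
  have h1 := hA i r (left_ne_zero_of_mul hr)
  have h2 := hB r l (right_ne_zero_of_mul hr)
  omega

omit [Fintype ι] in
theorem Low.one [DecidableEq ι] : Low deg 0 (1 : Matrix ι ι k) := fun i l hne => by
  rcases eq_or_ne i l with rfl | h
  · simp
  · exact absurd (Matrix.one_apply_ne h) hne

theorem Low.pow [DecidableEq ι] {e : ℤ} {A : Matrix ι ι k} (hA : Low deg e A) (n : ℕ) :
    Low deg (n * e) (A ^ n) := by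
  induction n with
  | zero => simpa using Low.one
  | succ n ih =>
    rw [pow_succ]
    exact (ih.mul hA).mono (le_of_eq (by push_cast; ring))

omit [Fintype ι] in
/-- Congruence modulo a filtration level. -/
def Cong (deg : ι → ℤ) (e : ℤ) (A B : Matrix ι ι k) : Prop := Low deg e (A - B)

omit [Fintype ι] in
theorem Cong.refl {e : ℤ} (A : Matrix ι ι k) : Cong deg e A A := by
  rw [Cong, sub_self]; exact Low.zero

omit [Fintype ι] in
theorem Cong.symm {e : ℤ} {A B : Matrix ι ι k} (h : Cong deg e A B) : Cong deg e B A := by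
  rw [Cong, ← neg_sub]; exact h.neg

omit [Fintype ι] in
theorem Cong.trans {e : ℤ} {A B C : Matrix ι ι k} (h : Cong deg e A B) (h' : Cong deg e B C) :
    Cong deg e A C := by
  rw [Cong, show A - C = (A - B) + (B - C) by abel]; exact h.add h'

omit [Fintype ι] in
theorem Cong.apply_eq {e : ℤ} {A B : Matrix ι ι k} (h : Cong deg e A B) {i l : ι}
    (hl : deg i < deg l + e) : A i l = B i l :=
  sub_eq_zero.1 (by rw [← Matrix.sub_apply]; exact h.apply_eq_zero hl)

omit [Fintype ι] in
theorem Cong.low {e e' : ℤ} {A B : Matrix ι ι k} (h : Cong deg e A B) (hB : Low deg e' B)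
    (he : e' ≤ e) : Low deg e' A := by
  rw [show A = (A - B) + B by abel]; exact (h.mono he).add hB

theorem Cong.mul {a b : ℤ} {A A' B B' : Matrix ι ι k} (hA : Cong deg (a + 1) A A')
    (hB : Cong deg (b + 1) B B') (hlA : Low deg a A) (hlB : Low deg b B') :
    Cong deg (a + b + 1) (A * B) (A' * B') := by
  rw [Cong, show A * B - A' * B' = A * (B - B') + (A - A') * B' by rw [mul_sub, sub_mul]; abel]
  exact ((hlA.mul hB).mono (by omega)).add ((Low.mul hA hlB).mono (by omega))

theorem Cong.pow [DecidableEq ι] {A A' : Matrix ι ι k} (hA : Cong deg 2 A A') (hl : Low deg 1 A')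
    (n : ℕ) : Cong deg (n + 1) (A ^ n) (A' ^ n) := by
  induction n with
  | zero => exact Cong.refl _
  | succ n ih =>
    rw [pow_succ, pow_succ]
    have h := Cong.mul (a := n) (b := 1) ih hA
      ((Low.pow (hA.low hl (by omega)) n).mono (by simp)) hl
    exact h.mono (le_of_eq (by push_cast; ring))

end generic

/-! ### The shift -/

variable {k : Type v} [CommRing k] {d : ℕ}

/-- The degree of a basis index. -/
def fdeg (d : ℕ) (i : Fin d) : ℤ := (i : ℕ)

/-- The regular nilpotent matrix `e_a ↦ e_{a+1}`. -/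
def shift (k : Type v) [CommRing k] (d : ℕ) : Matrix (Fin d) (Fin d) k :=
  Matrix.of fun i l => if (i : ℕ) = (l : ℕ) + 1 then 1 else 0

theorem shift_apply (i l : Fin d) : shift k d i l = if (i : ℕ) = (l : ℕ) + 1 then 1 else 0 := rfl

theorem low_shift : Low (fdeg d) 1 (shift k d) := fun i l hne => by
  rw [shift_apply] at hne
  split_ifs at hne with h
  · simp [fdeg, h]
  · exact absurd rfl hne

theorem low_iff {e : ℕ} {A : Matrix (Fin d) (Fin d) k} :
    Low (fdeg d) e A ↔ ∀ i l : Fin d, (i : ℕ) < (l : ℕ) + e → A i l = 0 :=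
  ⟨fun h i l hl => h.apply_eq_zero (by simp only [fdeg]; omega), fun h i l hne => by
    by_contra hlt
    exact hne (h i l (by simp only [fdeg] at hlt; omega))⟩

theorem low_eq_zero {e : ℤ} (he : (d : ℤ) ≤ e) {A : Matrix (Fin d) (Fin d) k}
    (h : Low (fdeg d) e A) : A = 0 := by
  ext i l
  exact h.apply_eq_zero (by simp only [fdeg]; omega)

theorem low_any (A : Matrix (Fin d) (Fin d) k) : Low (fdeg d) (-((d : ℤ) - 1)) A := fun i l _ => by
  simp only [fdeg]
  omega

theorem shift_pow_apply (e : ℕ) (i l : Fin d) :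
    (shift k d ^ e) i l = if (i : ℕ) = (l : ℕ) + e then 1 else 0 := by
  induction e generalizing i l with
  | zero => simp [Matrix.one_apply, Fin.ext_iff]
  | succ e ih =>
    rw [pow_succ, Matrix.mul_apply]
    by_cases hl : (l : ℕ) + 1 < d
    · rw [Finset.sum_eq_single ⟨(l : ℕ) + 1, hl⟩]
      · rw [ih, shift_apply]
        simp [Nat.add_assoc, Nat.add_comm 1 e]
      · intro r _ hr
        rw [shift_apply, if_neg (fun h => hr (Fin.ext h)), mul_zero]
      · simp
    · rw [Finset.sum_eq_zero fun r _ => by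
        rw [shift_apply, if_neg (by omega), mul_zero]]
      rw [if_neg (by omega)]

theorem shift_pow_eq_zero {e : ℕ} (he : d ≤ e) : shift k d ^ e = 0 := by
  ext i l
  rw [shift_pow_apply, if_neg (by omega)]
  rfl

theorem shift_mulVec (v : Fin d → k) (i : Fin d) :
    (shift k d *ᵥ v) i = if h : 0 < (i : ℕ) then v ⟨(i : ℕ) - 1, by omega⟩ else 0 := by
  rw [Matrix.mulVec, dotProduct]
  split_ifs with h
  · rw [Finset.sum_eq_single ⟨(i : ℕ) - 1, by omega⟩]
    · rw [shift_apply, if_pos (by show (i : ℕ) = (i : ℕ) - 1 + 1; omega), one_mul]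
    · intro r _ hr
      rw [shift_apply, if_neg (fun e => hr (Fin.ext (by show (r : ℕ) = (i : ℕ) - 1; omega))), zero_mul]
    · simp
  · exact Finset.sum_eq_zero fun r _ => by rw [shift_apply, if_neg (by omega), zero_mul]

/-- Vectors supported in degrees at least `a`. -/
def Tail (k : Type v) [CommRing k] (d a : ℕ) : Submodule k (Fin d → k) where
  carrier := {v | ∀ i : Fin d, (i : ℕ) < a → v i = 0}
  zero_mem' := fun _ _ => rfl
  add_mem' := fun {v w} hv hw i hi => by rw [Pi.add_apply, hv i hi, hw i hi, add_zero]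
  smul_mem' := fun c v hv i hi => by rw [Pi.smul_apply, hv i hi, smul_zero]

theorem mem_tail {a : ℕ} {v : Fin d → k} :
    v ∈ Tail k d a ↔ ∀ i : Fin d, (i : ℕ) < a → v i = 0 := Iff.rfl

/-- `Tail a` is invariant under the matrix. -/
def Pres (A : Matrix (Fin d) (Fin d) k) (a : ℕ) : Prop :=
  ∀ i l : Fin d, (i : ℕ) < a → a ≤ (l : ℕ) → A i l = 0

theorem Low.pres {e : ℤ} (he : 0 ≤ e) {A : Matrix (Fin d) (Fin d) k} (h : Low (fdeg d) e A) (a : ℕ) :
    Pres A a := fun i l hi hl => h.apply_eq_zero (by simp only [fdeg]; omega)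

theorem pres_iff {A : Matrix (Fin d) (Fin d) k} {a : ℕ} :
    Pres A a ↔ ∀ v ∈ Tail k d a, A *ᵥ v ∈ Tail k d a := by
  constructor
  · intro h v hv i hi
    rw [Matrix.mulVec, dotProduct]
    refine Finset.sum_eq_zero fun l _ => ?_
    rcases lt_or_ge (l : ℕ) a with hl | hl
    · rw [hv l hl, mul_zero]
    · rw [h i l hi hl, zero_mul]
  · intro h i l hi hl
    have hmem : (Pi.single l 1 : Fin d → k) ∈ Tail k d a := fun r hr =>
      Pi.single_eq_of_ne (fun e => by subst e; omega) 1
    have := h _ hmem i hi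
    rwa [Matrix.mulVec_single_one] at this

theorem pres_zero (A : Matrix (Fin d) (Fin d) k) : Pres A 0 := fun i _ hi => absurd hi (Nat.not_lt_zero i)

theorem pres_of_le {a : ℕ} (ha : d ≤ a) (A : Matrix (Fin d) (Fin d) k) : Pres A a :=
  fun _ l _ hl => absurd hl (by omega)

theorem Pres.mul {A B : Matrix (Fin d) (Fin d) k} {a : ℕ} (hA : Pres A a) (hB : Pres B a) :
    Pres (A * B) a := pres_iff.2 fun v hv => by
  rw [← Matrix.mulVec_mulVec]
  exact pres_iff.1 hA _ (pres_iff.1 hB v hv)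

theorem low_zero_of_pres {A : Matrix (Fin d) (Fin d) k} (h : ∀ a, Pres A a) : Low (fdeg d) 0 A :=
  fun i l hne => by
    by_contra hlt
    simp only [fdeg] at hlt
    exact hne (h (l : ℕ) i l (by omega) le_rfl)

/-- A vector whose first nonzero coordinate is in degree `a` generates `Tail a` under a matrix
with exact degree one. -/
theorem mem_of_lead {K : Type v} [Field K] {M : Matrix (Fin d) (Fin d) K} (hM : Low (fdeg d) 1 M)
    (hlead : ∀ i l : Fin d, (i : ℕ) = (l : ℕ) + 1 → M i l ≠ 0) {W : Submodule K (Fin d → K)}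
    (hW : ∀ v ∈ W, M *ᵥ v ∈ W) :
    ∀ (r a : ℕ), a + r = d → ∀ v ∈ W, v ∈ Tail K d a → (∀ i : Fin d, (i : ℕ) = a → v i ≠ 0) →
      Tail K d a ≤ W := by
  intro r
  induction r with
  | zero =>
    intro a ha v _ _ _ w hw
    have : w = 0 := funext fun i => hw i (by omega)
    subst this
    exact W.zero_mem
  | succ r ih =>
    intro a ha v hvW hv hva w hw
    set i₀ : Fin d := ⟨a, by omega⟩
    set c := w i₀ / v i₀
    have hrest : w - c • v ∈ Tail K d (a + 1) := by
      intro i hi
      rcases lt_or_ge (i : ℕ) a with h | h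
      · simp [hw i h, hv i h]
      · have : i = i₀ := Fin.ext (by show (i : ℕ) = a; omega)
        subst this
        simp [c, div_mul_cancel₀ _ (hva i₀ rfl)]
    have hMv : ∀ i : Fin d, (i : ℕ) ≤ a + 1 → (M *ᵥ v) i =
        if (i : ℕ) = a + 1 then M i i₀ * v i₀ else 0 := by
      intro i hi
      rw [Matrix.mulVec, dotProduct, Finset.sum_eq_single i₀]
      · split_ifs with h
        · rfl
        · rw [hM.apply_eq_zero (by show ((i : ℕ) : ℤ) < (a : ℤ) + 1; omega), zero_mul]
      · intro l _ hl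
        rcases lt_or_ge (l : ℕ) a with h | h
        · rw [hv l h, mul_zero]
        · rw [hM.apply_eq_zero (by
            have : (l : ℕ) ≠ a := fun e => hl (Fin.ext e)
            show ((i : ℕ) : ℤ) < ((l : ℕ) : ℤ) + 1; omega), zero_mul]
      · simp
    have h1 : Tail K d (a + 1) ≤ W := by
      refine ih (a + 1) (by omega) (M *ᵥ v) (hW v hvW) (fun i hi => ?_) (fun i hi => ?_)
      · rw [hMv i (by omega), if_neg (by omega)]
      · rw [hMv i (by omega), if_pos hi]
        exact mul_ne_zero (hlead i i₀ (by show (i : ℕ) = a + 1; omega)) (hva i₀ rfl)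
    have h2 := W.add_mem (h1 hrest) (W.smul_mem c hvW)
    rwa [sub_add_cancel] at h2

/-- An invariant subspace of a matrix with exact degree one is a `Tail`. -/
theorem eq_tail {K : Type v} [Field K] {M : Matrix (Fin d) (Fin d) K} (hM : Low (fdeg d) 1 M)
    (hlead : ∀ i l : Fin d, (i : ℕ) = (l : ℕ) + 1 → M i l ≠ 0) {W : Submodule K (Fin d → K)}
    (hW : ∀ v ∈ W, M *ᵥ v ∈ W) : ∃ a ≤ d, W = Tail K d a := by
  classical
  have hex : ∃ a, a = d ∨ ∃ v ∈ W, ∃ i : Fin d, (i : ℕ) = a ∧ v i ≠ 0 := ⟨d, Or.inl rfl⟩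
  set a := Nat.find hex with ha
  have had : a ≤ d := Nat.find_le (Or.inl rfl)
  have hWle : W ≤ Tail K d a := fun v hv i hi => by
    by_contra hne
    exact Nat.find_min hex hi (Or.inr ⟨v, hv, i, rfl, hne⟩)
  refine ⟨a, had, le_antisymm hWle ?_⟩
  rcases Nat.find_spec hex with h | ⟨v, hv, i, hi, hne⟩
  · intro w hw
    have : w = 0 := funext fun i => hw i (by rw [ha, h]; exact i.2)
    subst this
    exact W.zero_mem
  · exact mem_of_lead hM hlead hW (d - a) a (by omega) v hv (hWle hv)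
      fun l hl => by rwa [show l = i from Fin.ext (by omega)]

/-- A matrix commuting with a regular nilpotent `M` is determined by its first column. -/
theorem eq_zero_of_commute {K : Type v} [Field K] {M : Matrix (Fin d) (Fin d) K}
    (hM : Low (fdeg d) 1 M) (hlead : ∀ i l : Fin d, (i : ℕ) = (l : ℕ) + 1 → M i l ≠ 0)
    {A : Matrix (Fin d) (Fin d) K} (hc : Commute A M) (h0 : ∀ i l : Fin d, (l : ℕ) = 0 → A i l = 0) :
    A = 0 := by
  rcases Nat.eq_zero_or_pos d with rfl | hd
  · ext i; exact i.elim0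
  let W : Submodule K (Fin d → K) := LinearMap.ker A.mulVecLin
  have hW : ∀ v ∈ W, M *ᵥ v ∈ W := fun v hv => by
    have hv' : A *ᵥ v = 0 := hv
    show A *ᵥ (M *ᵥ v) = 0
    rw [Matrix.mulVec_mulVec, hc.eq, ← Matrix.mulVec_mulVec, hv', Matrix.mulVec_zero]
  have he : (Pi.single ⟨0, hd⟩ 1 : Fin d → K) ∈ W := by
    show A *ᵥ _ = 0
    rw [Matrix.mulVec_single_one]
    exact funext fun i => h0 i ⟨0, hd⟩ rfl
  have htop := mem_of_lead hM hlead hW d 0 (by omega) _ he (fun i hi => absurd hi (by omega))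
    fun i hi => by rw [show i = ⟨0, hd⟩ from Fin.ext hi, Pi.single_eq_same]; exact one_ne_zero
  ext i l
  have h1 : A *ᵥ (Pi.single l 1 : Fin d → K) = 0 := htop fun r hr => absurd hr (Nat.not_lt_zero r)
  rw [Matrix.mulVec_single_one] at h1
  exact congrFun h1 i

/-- The centralizer of a regular nilpotent matrix is commutative. -/
theorem commute_of_commute {K : Type v} [Field K] {M : Matrix (Fin d) (Fin d) K}
    (hM : Low (fdeg d) 1 M) (hlead : ∀ i l : Fin d, (i : ℕ) = (l : ℕ) + 1 → M i l ≠ 0)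
    {A B : Matrix (Fin d) (Fin d) K} (hA : Commute A M) (hB : Commute B M) : Commute A B := by
  rcases Nat.eq_zero_or_pos d with rfl | hd
  · exact Matrix.ext fun i => i.elim0
  -- write the first column of `A` as `f(M)` applied to the first basis vector
  let e₀ : Fin d → K := Pi.single ⟨0, hd⟩ 1
  let S : Submodule K (Matrix (Fin d) (Fin d) K) :=
    { carrier := {X | Commute X M ∧ ∀ Y, Commute Y M → Commute X Y}
      zero_mem' := ⟨Commute.zero_left _, fun _ _ => Commute.zero_left _⟩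
      add_mem' := fun {X Z} hX hZ => ⟨hX.1.add_left hZ.1, fun Y hY => (hX.2 Y hY).add_left (hZ.2 Y hY)⟩
      smul_mem' := fun c X hX => ⟨hX.1.smul_left c, fun Y hY => (hX.2 Y hY).smul_left c⟩ }
  let φ : Matrix (Fin d) (Fin d) K →ₗ[K] (Fin d → K) :=
    { toFun := fun X => X *ᵥ e₀
      map_add' := fun X Z => Matrix.add_mulVec X Z e₀
      map_smul' := fun c X => Matrix.smul_mulVec c X e₀ }
  let W : Submodule K (Fin d → K) := S.map φ
  have memW : ∀ v, v ∈ W ↔ ∃ X ∈ S, X *ᵥ e₀ = v := fun v => Iff.rfl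
  have hW : ∀ v ∈ W, M *ᵥ v ∈ W := fun v hv => by
    obtain ⟨X, hX, rfl⟩ := (memW v).1 hv
    exact (memW _).2 ⟨M * X, ⟨(Commute.refl M).mul_left hX.1,
      fun Y hY => (hY.symm).mul_left (hX.2 Y hY)⟩, (Matrix.mulVec_mulVec e₀ M X).symm⟩
  have he : e₀ ∈ W := (memW _).2 ⟨1, ⟨Commute.one_left _, fun _ _ => Commute.one_left _⟩,
    Matrix.one_mulVec _⟩
  have htop := mem_of_lead hM hlead hW d 0 (by omega) _ he (fun i hi => absurd hi (by omega))
    fun i hi => by rw [show i = ⟨0, hd⟩ from Fin.ext hi]; simp only [e₀, Pi.single_eq_same]; exact one_ne_zero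
  obtain ⟨X, ⟨hX, hXc⟩, hXA⟩ := (memW (A *ᵥ e₀)).1 (htop fun r hr => absurd hr (Nat.not_lt_zero r))
  have h0 : A - X = 0 := by
    refine eq_zero_of_commute hM hlead (hA.sub_left hX) fun i l hl => ?_
    have h := congrFun hXA i
    rw [Matrix.mulVec_single_one, Matrix.mulVec_single_one] at h
    rw [show l = ⟨0, hd⟩ from Fin.ext hl, Matrix.sub_apply]
    exact sub_eq_zero.2 h.symm
  rw [sub_eq_zero.1 h0]
  exact hXc B hB

theorem shift_lead [Nontrivial k] (i l : Fin d) (h : (i : ℕ) = (l : ℕ) + 1) : shift k d i l ≠ 0 := by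
  rw [shift_apply, if_pos h]; exact one_ne_zero

/-- The commutant of the shift consists of the Toeplitz matrices. -/
theorem toeplitz {A : Matrix (Fin d) (Fin d) k} (hc : Commute A (shift k d)) :
    ∀ (i l i' l' : Fin d), (i : ℕ) + (l' : ℕ) = (i' : ℕ) + (l : ℕ) → (l' : ℕ) ≤ (l : ℕ) →
      A i l = A i' l' := by
  intro i l
  obtain ⟨n, hn⟩ : ∃ n, (l : ℕ) = n := ⟨_, rfl⟩
  induction n generalizing i l with
  | zero =>
    intro i' l' h h'
    have e1 : i = i' := Fin.ext (by omega)
    have e2 : l = l' := Fin.ext (by omega)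
    rw [e1, e2]
  | succ n ih =>
    intro i' l' h h'
    rcases Nat.lt_or_ge (l' : ℕ) (l : ℕ) with hlt | hge
    · set l₁ : Fin d := ⟨n, by omega⟩
      have e : A i l = ((shift k d) * A) i l₁ := by
        rw [← hc.eq, Matrix.mul_apply, Finset.sum_eq_single l]
        · rw [shift_apply, if_pos (by show (l : ℕ) = n + 1; omega), mul_one]
        · intro r _ hr
          rw [shift_apply, if_neg (fun e => hr (Fin.ext (by
            have : (r : ℕ) = n + 1 := e; omega))), mul_zero]
        · simp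
      rw [e, Matrix.mul_apply]
      rw [Finset.sum_eq_single (⟨(i : ℕ) - 1, by omega⟩ : Fin d)]
      · rw [shift_apply, if_pos (by show (i : ℕ) = (i : ℕ) - 1 + 1; omega), one_mul]
        exact ih _ l₁ rfl i' l' (by show (i : ℕ) - 1 + (l' : ℕ) = (i' : ℕ) + n; omega)
          (by show (l' : ℕ) ≤ n; omega)
      · intro r _ hr
        rw [shift_apply, if_neg (fun e => hr (Fin.ext (by show (r : ℕ) = (i : ℕ) - 1; omega))), zero_mul]
      · simp
    · have e1 : i = i' := Fin.ext (by omega)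
      have e2 : l = l' := Fin.ext (by omega)
      rw [e1, e2]

theorem toeplitz_lt {A : Matrix (Fin d) (Fin d) k} (hc : Commute A (shift k d)) {i l : Fin d}
    (h : (i : ℕ) < (l : ℕ)) : A i l = 0 := by
  set l₁ : Fin d := ⟨(l : ℕ) - (i : ℕ) - 1, by omega⟩
  set z : Fin d := ⟨0, by omega⟩
  have h1 := toeplitz hc i l z ⟨(l : ℕ) - (i : ℕ), by omega⟩
    (by show (i : ℕ) + ((l : ℕ) - (i : ℕ)) = 0 + (l : ℕ); omega) (by show (l : ℕ) - (i : ℕ) ≤ (l : ℕ); omega)
  rw [h1]
  have e : (A * shift k d) z l₁ = (shift k d * A) z l₁ := by rw [hc.eq]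
  rw [Matrix.mul_apply, Finset.sum_eq_single (⟨(l : ℕ) - (i : ℕ), by omega⟩ : Fin d),
    shift_apply, if_pos (by show (l : ℕ) - (i : ℕ) = (l : ℕ) - (i : ℕ) - 1 + 1; omega), mul_one] at e
  · rw [e, Matrix.mul_apply]
    exact Finset.sum_eq_zero fun r _ => by
      rw [shift_apply, if_neg (by show ¬ (0 : ℕ) = (r : ℕ) + 1; omega), zero_mul]
  · intro r _ hr
    rw [shift_apply, if_neg (fun e => hr (Fin.ext (by
      have : (r : ℕ) = (l : ℕ) - (i : ℕ) - 1 + 1 := e
      show (r : ℕ) = (l : ℕ) - (i : ℕ); omega))), mul_zero]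
  · simp

/-- A matrix commuting with the shift is a polynomial in it: leading term. -/
theorem exists_lead {A : Matrix (Fin d) (Fin d) k} (hc : Commute A (shift k d)) (hA : A ≠ 0) :
    ∃ (j : ℕ) (c : k), j < d ∧ c ≠ 0 ∧ Low (fdeg d) j A ∧ Cong (fdeg d) (j + 1) A (c • shift k d ^ j) := by
  classical
  have hd : 0 < d := Nat.pos_of_ne_zero (by rintro rfl; exact hA (Matrix.ext fun i => i.elim0))
  set z : Fin d := ⟨0, hd⟩
  have hex : ∃ j, ∃ i : Fin d, (i : ℕ) = j ∧ A i z ≠ 0 := by
    by_contra! hno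
    refine hA (Matrix.ext fun i l => ?_)
    rcases lt_or_ge (i : ℕ) (l : ℕ) with h | h
    · exact toeplitz_lt hc h
    · rw [toeplitz hc i l ⟨(i : ℕ) - (l : ℕ), by omega⟩ z
        (by show (i : ℕ) + 0 = (i : ℕ) - (l : ℕ) + (l : ℕ); omega) (Nat.zero_le _)]
      exact hno _ _ rfl
  obtain ⟨i₀, hi₀, hne⟩ := Nat.find_spec hex
  set j := Nat.find hex
  have key : ∀ i l : Fin d, (i : ℕ) < (l : ℕ) + j → A i l = 0 := by
    intro i l hlt
    rcases lt_or_ge (i : ℕ) (l : ℕ) with h | h
    · exact toeplitz_lt hc h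
    · rw [toeplitz hc i l ⟨(i : ℕ) - (l : ℕ), by omega⟩ z
        (by show (i : ℕ) + 0 = (i : ℕ) - (l : ℕ) + (l : ℕ); omega) (Nat.zero_le _)]
      by_contra hne'
      exact Nat.find_min hex (m := (i : ℕ) - (l : ℕ)) (by omega) ⟨_, rfl, hne'⟩
  refine ⟨j, A i₀ z, by omega, hne, low_iff.2 key, fun i l h => ?_⟩
  by_contra hlt
  simp only [fdeg] at hlt
  refine h ?_
  rw [Matrix.sub_apply, Matrix.smul_apply, shift_pow_apply]
  split_ifs with heq
  · rw [smul_eq_mul, mul_one, toeplitz hc i l i₀ z (by show (i : ℕ) + 0 = (i₀ : ℕ) + (l : ℕ); omega)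
      (Nat.zero_le _), sub_self]
  · rw [key i l (by omega), smul_zero, sub_zero]

end Cfsg.Agent.RegUnip
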