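import Cfsg.Agent.RegUnip.Block
import Mathlib.GroupTheory.PGroup
import Mathlib.FieldTheory.Finite.Basic

/-!
An abelian Sylow subgroup of order `p²` made of a regular unipotent element and a deeper one.
-/

set_option autoImplicit false

namespace Cfsg.Agent.RegUnip

open Finset Matrix

universe u

variable {p : ℕ} [hp : Fact p.Prime] {d : ℕ} {G : Type u} [Group G]

/-- A faithful representation in which the Sylow subgroup `P` is generated by a regular unipotent
`x` and an element `z` with leading term `c N ^ j`. -/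
structure Pair (ρ : G →* Matrix (Fin d) (Fin d) (ZMod p)) (P : Sylow p G) (x z : G) (j : ℕ)
    (c : ZMod p) : Prop where
  inj : Function.Injective ρ
  hd : d ≤ p - 1
  hjd : j < d
  two : 2 ≤ j
  hc : c ≠ 0
  hx : ρ x = 1 + shift (ZMod p) d
  xP : x ∈ P
  zP : z ∈ P
  card : Nat.card P = p ^ 2
  low : Low (fdeg d) j (ρ z - 1)
  lead : Cong (fdeg d) (j + 1) (ρ z - 1) (c • shift (ZMod p) d ^ j)
  comm : ∀ q ∈ P, Commute (ρ q) (shift (ZMod p) d)

namespace Pair

variable {ρ : G →* Matrix (Fin d) (Fin d) (ZMod p)} {P : Sylow p G} {x z : G} {j : ℕ} {c : ZMod p}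
  (h : Pair ρ P x z j c)
include h

theorem d_le_p : d ≤ p := h.hd.trans (Nat.sub_le _ _)

theorem low_x : Low (fdeg d) 1 (ρ x - 1) := by rw [h.hx, add_sub_cancel_left]; exact low_shift

theorem low_z : Low (fdeg d) 1 (ρ z - 1) :=
  h.low.mono (by exact_mod_cast (show 1 ≤ j by have := h.two; omega))

theorem x_pow : x ^ p = 1 := h.inj (by rw [map_pow, pow_prime_eq_one h.low_x h.d_le_p, map_one])

theorem z_pow : z ^ p = 1 := h.inj (by rw [map_pow, pow_prime_eq_one h.low_z h.d_le_p, map_one])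

theorem x_ne : x ≠ 1 := fun e => by
  have h1 := h.hx
  rw [e, map_one, left_eq_add] at h1
  have := shift_lead (k := ZMod p) (⟨1, by have := h.hjd; have := h.two; omega⟩ : Fin d)
    ⟨0, by have := h.hjd; omega⟩ rfl
  rw [h1] at this
  exact this rfl

theorem lead_apply {i l : Fin d} (hil : (i : ℕ) = (l : ℕ) + j) : (ρ z - 1) i l = c := by
  rw [h.lead.apply_eq (by simp only [fdeg]; omega), Matrix.smul_apply, shift_pow_apply, if_pos hil,
    smul_eq_mul, mul_one]

theorem z_ne : z ≠ 1 := fun e => by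
  have h1 := h.lead_apply (i := ⟨j, h.hjd⟩) (l := ⟨0, by have := h.hjd; omega⟩)
    (show j = 0 + j by omega)
  rw [show ρ z - 1 = 0 by rw [e, map_one, sub_self]] at h1
  exact h.hc h1.symm

theorem order_x : orderOf x = p := orderOf_eq_prime h.x_pow h.x_ne

theorem order_z : orderOf z = p := orderOf_eq_prime h.z_pow h.z_ne

theorem abelian {a b : G} (ha : a ∈ P) (hb : b ∈ P) : a * b = b * a :=
  h.inj (by
    rw [map_mul, map_mul]
    exact commute_of_commute low_shift shift_lead (h.comm a ha) (h.comm b hb))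

/-- The first degree part of a product. -/
theorem cong_mul (a b : ℕ) :
    Cong (fdeg d) 2 (ρ (x ^ a * z ^ b) - 1) ((a : ZMod p) • shift (ZMod p) d) := by
  obtain ⟨h1, h2⟩ := pow_sub_one (e := 1) le_rfl h.low_x a
  obtain ⟨h3, -⟩ := pow_sub_one (e := j) (by have := h.two; omega) h.low b
  rw [map_mul, map_pow, map_pow, Cong, show ρ x ^ a * ρ z ^ b - 1 - (a : ZMod p) • shift (ZMod p) d =
    (ρ x ^ a - 1 - (a : ZMod p) • shift (ZMod p) d) + (ρ x ^ a - 1) * (ρ z ^ b - 1) + (ρ z ^ b - 1) by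
      noncomm_ring]
  have hj : (2 : ℤ) ≤ j := by exact_mod_cast h.two
  rw [h.hx, add_sub_cancel_left] at h2
  refine (Low.add ?_ ((h1.mul h3).mono (by omega))).add (h3.mono hj)
  rw [h.hx]
  exact h2

theorem unique {a b a' b' : ℕ} (ha : a < p) (hb : b < p) (ha' : a' < p) (hb' : b' < p)
    (he : x ^ a * z ^ b = x ^ a' * z ^ b') : a = a' ∧ b = b' := by
  have hd1 : 1 < d := by have := h.hjd; have := h.two; omega
  have e1 := (h.cong_mul a b).apply_eq (i := ⟨1, hd1⟩) (l := ⟨0, by omega⟩)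
    (by show (1 : ℤ) < 0 + 2; omega)
  have e2 := (h.cong_mul a' b').apply_eq (i := ⟨1, hd1⟩) (l := ⟨0, by omega⟩)
    (by show (1 : ℤ) < 0 + 2; omega)
  rw [← he, e1] at e2
  simp only [Matrix.smul_apply, shift_apply, zero_add, if_true, smul_eq_mul, mul_one] at e2
  have hab : a = a' := by
    have := (ZMod.natCast_eq_natCast_iff' a a' p).1 e2
    rwa [Nat.mod_eq_of_lt ha, Nat.mod_eq_of_lt ha'] at this
  subst hab
  have hz := mul_left_cancel he
  rw [pow_eq_pow_iff_modEq, h.order_z, Nat.ModEq, Nat.mod_eq_of_lt hb, Nat.mod_eq_of_lt hb'] at hz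
  exact ⟨rfl, hz⟩

theorem gen [Finite G] {q : G} (hq : q ∈ P) : ∃ a b : ℕ, a < p ∧ b < p ∧ q = x ^ a * z ^ b := by
  let f : Fin p × Fin p → P := fun ab => ⟨x ^ (ab.1 : ℕ) * z ^ (ab.2 : ℕ),
    P.mul_mem (P.pow_mem h.xP _) (P.pow_mem h.zP _)⟩
  have hinj : Function.Injective f := fun s t he => by
    obtain ⟨h1, h2⟩ := h.unique s.1.2 s.2.2 t.1.2 t.2.2 (congrArg Subtype.val he)
    exact Prod.ext (Fin.ext h1) (Fin.ext h2)
  have hbij := (Nat.bijective_iff_injective_and_card f).2 ⟨hinj, by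
    show Nat.card (Fin p × Fin p) = Nat.card P
    erw [h.card]
    rw [Nat.card_prod, Nat.card_fin, pow_two]⟩
  obtain ⟨⟨a, b⟩, hab⟩ := hbij.2 ⟨q, hq⟩
  exact ⟨a, b, a.2, b.2, (congrArg Subtype.val hab).symm⟩

theorem low_mem [Finite G] {q : G} (hq : q ∈ P) : Low (fdeg d) 1 (ρ q - 1) := by
  obtain ⟨a, b, -, -, rfl⟩ := h.gen hq
  exact (h.cong_mul a b).low (low_shift.smul _) (by omega)

/-- An element of `P` outside `⟨z⟩` is regular. -/
theorem regular [Finite G] {q : G} (hq : q ∈ P) (hz : q ∉ Subgroup.zpowers z) :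
    ∀ i l : Fin d, (i : ℕ) = (l : ℕ) + 1 → (ρ q - 1) i l ≠ 0 := by
  obtain ⟨a, b, ha, -, rfl⟩ := h.gen hq
  intro i l hil
  rw [(h.cong_mul a b).apply_eq (by simp only [fdeg]; omega), Matrix.smul_apply, shift_apply,
    if_pos hil, smul_eq_mul, mul_one]
  intro h0
  rw [ZMod.natCast_eq_zero_iff] at h0
  obtain rfl : a = 0 := Nat.eq_zero_of_dvd_of_lt h0 ha
  exact hz (by rw [pow_zero, one_mul]; exact Subgroup.pow_mem _ (Subgroup.mem_zpowers z) b)

/-- A nontrivial element of `⟨z⟩` generates it. -/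
theorem mem_zpowers_of_mem {q : G} (hq : q ∈ Subgroup.zpowers z) (hne : q ≠ 1) :
    z ∈ Subgroup.zpowers q := by
  have hcard : Nat.card (Subgroup.zpowers z) = p := by rw [Nat.card_zpowers, h.order_z]
  have htop : Subgroup.zpowers (⟨q, hq⟩ : Subgroup.zpowers z) = ⊤ :=
    zpowers_eq_top_of_prime_card hcard (by simpa [Subtype.ext_iff] using hne)
  obtain ⟨i, hi⟩ := (htop ▸ Subgroup.mem_top _ :
    (⟨z, Subgroup.mem_zpowers z⟩ : Subgroup.zpowers z) ∈ Subgroup.zpowers (⟨q, hq⟩ : Subgroup.zpowers z))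
  exact ⟨i, congrArg Subtype.val hi⟩

omit h in
/-- A `p`-subgroup containing a Sylow subgroup normalised by it is that subgroup. -/
theorem le_of_normalize {Q : Subgroup G} (hQ : IsPGroup p Q) (hn : Q ≤ Subgroup.normalizer ((P : Subgroup G) : Set G)) :
    Q ≤ (P : Subgroup G) := by
  have := P.3 (IsPGroup.to_sup_of_normal_right' hQ P.2 hn) le_sup_right
  exact le_sup_left.trans_eq this

/-- An element of order a power of `p` commuting with the shift lies in `P`. -/
theorem mem_of_commute_shift [Finite G] {q : G} (hq : q ^ p = 1) (hc : Commute (ρ q) (shift (ZMod p) d)) :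
    q ∈ P := by
  have hqP : IsPGroup p (Subgroup.zpowers q) := by
    intro y
    obtain ⟨i, hi⟩ := y.2
    refine ⟨1, Subtype.ext ?_⟩
    have hi' : q ^ i = (y : G) := hi
    rw [pow_one, Subgroup.coe_pow, Subgroup.coe_one, ← hi', ← zpow_natCast, ← zpow_mul, mul_comm,
      zpow_mul, zpow_natCast, hq, one_zpow]
  refine le_of_normalize hqP (Subgroup.zpowers_le.2 ?_) (Subgroup.mem_zpowers q)
  have hcomm : ∀ r ∈ P, q * r = r * q := fun r hr => h.inj (by
    rw [map_mul, map_mul]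
    exact commute_of_commute low_shift shift_lead hc (h.comm r hr))
  rw [Subgroup.mem_normalizer_iff]
  intro r
  refine ⟨fun hr => by rwa [hcomm r hr, mul_inv_cancel_right], fun hr => ?_⟩
  have h1 := hcomm _ hr
  have h2 : q * r * q⁻¹ = r := mul_left_cancel (a := q) (h1.trans (by rw [inv_mul_cancel_right]))
  rwa [h2] at hr

end Pair

end Cfsg.Agent.RegUnip
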