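import Cfsg.Agent.RegUnip.SL2Pair
import Cfsg.Agent.RegUnip.Pair
import Mathlib.LinearAlgebra.Dimension.Finrank
import Mathlib.LinearAlgebra.FiniteDimensional.Lemmas

/-!
A quadratic element commuting with a regular unipotent element.
-/

set_option autoImplicit false

namespace Cfsg.Agent.RegUnip

open Finset Matrix
open Cfsg.Agent.RootSub.Dickson Cfsg.Agent.QdFree
open scoped MatrixGroups

universe u

variable {p : ℕ} [hp : Fact p.Prime] {d : ℕ} {G : Type u} [Group G] [Finite G]
  {ρ : G →* Matrix (Fin d) (Fin d) (ZMod p)} {P : Sylow p G} {H : Subgroup G}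

/-- Two elements inducing quadratic maps on a module, with torus and Weyl elements, act trivially
if their product of nilpotent parts is nilpotent; otherwise the square of the Weyl element has
eigenvalue `-1`. -/
theorem trivial_of_free {V : Type} [AddCommGroup V] [Module (ZMod p) V] [Finite V] (hp5 : 5 ≤ p)
    {A : Type u} [Group A] [Finite A] (σ : A →* Module.End (ZMod p) V) {z y t w : A} {m m' e : ℕ}
    (hgen : Subgroup.closure ({z, y} : Set A) = ⊤) (hz : (σ z - 1) * (σ z - 1) = 0)
    (hy : (σ y - 1) * (σ y - 1) = 0) (he : e.Coprime p) (ht : t ^ e = 1) (hm : (m : ZMod p) ≠ 1)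
    (hm' : (m' : ZMod p) ≠ 1) (htz : t * z * t⁻¹ = z ^ m) (hty : t * y * t⁻¹ = y ^ m')
    (huz : Commute (w * w) z) (huy : Commute (w * w) y) (hwy : Commute (w * z * w⁻¹) y)
    (hu : IsUnit (σ (w * w) + 1)) : σ z = 1 ∧ σ y = 1 := by
  haveI : Finite (Module.End (ZMod p) V) := Finite.of_injective _ DFunLike.coe_injective
  have h0 : ((p : ℕ) : Module.End (ZMod p) V) = 0 := LinearMap.ext fun v => by
    rw [Module.End.natCast_apply, ← Nat.cast_smul_eq_nsmul (ZMod p), ZMod.natCast_self, zero_smul]
    rfl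
  have hxa : σ z = 1 + (σ z - 1) := by rw [add_sub_cancel]
  have hyb : σ y = 1 + (σ y - 1) := by rw [add_sub_cancel]
  by_cases hab : IsNilpotent ((σ z - 1) * (σ y - 1))
  · set f := σ.toHomUnits with hf
    set I := f.range with hI
    have hgenI : Subgroup.closure ({(⟨f z, z, rfl⟩ : I), ⟨f y, y, rfl⟩} : Set I) = ⊤ := by
      have h1 := f.rangeRestrict.map_closure ({z, y} : Set A)
      rw [hgen, Set.image_pair, Subgroup.map_top_of_surjective _ f.rangeRestrict_surjective] at h1
      exact h1.symm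
    have hIp : IsPGroup p I := isPGroup_of_pair h0 ((Units.coeHom _).comp I.subtype)
      (fun a b hab' => Subtype.ext (Units.ext hab')) hgenI hxa hyb hz hy hab
    have htriv : σ t = 1 := by
      obtain ⟨i, hi⟩ := hIp (⟨f t, t, rfl⟩ : I)
      have h1 : (⟨f t, t, rfl⟩ : I) ^ e = 1 := Subtype.ext (by
        rw [Subgroup.coe_pow, ← map_pow, ht, map_one]; rfl)
      have h2 := eq_one_of_coprime h1 hi (Nat.Coprime.pow_right i he)
      exact congrArg (fun a : I => ((a : (Module.End (ZMod p) V)ˣ) : Module.End (ZMod p) V)) h2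
    have key : ∀ a : A, (σ a - 1) * (σ a - 1) = 0 → ∀ k : ℕ, (k : ZMod p) ≠ 1 →
        t * a * t⁻¹ = a ^ k → σ a = 1 := by
      intro a ha k hk htk
      have h1 : σ a = σ a ^ k := by
        rw [← map_pow, ← htk, map_mul, map_mul, htriv, one_mul]
        have h2 : σ t⁻¹ = 1 := by
          calc σ t⁻¹ = σ t⁻¹ * σ t := by rw [htriv, mul_one]
            _ = 1 := by rw [← map_mul, inv_mul_cancel, map_one]
        rw [h2, mul_one]
      have h2 : ∀ r : ℕ, σ a ^ r = 1 + (r : ZMod p) • (σ a - 1) := fun r => by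
        induction r with
        | zero => simp
        | succ r ih =>
          rw [pow_succ, ih, add_mul, one_mul, Nat.cast_succ, add_smul, one_smul, smul_mul_assoc,
            show (σ a - 1) * σ a = (σ a - 1) * (σ a - 1) + (σ a - 1) by noncomm_ring, ha, zero_add]
          abel
      rw [h2] at h1
      have h3 : ((k : ZMod p) - 1) • (σ a - 1) = 0 := by
        rw [sub_smul, one_smul]
        conv_lhs => arg 2; rw [h1, add_sub_cancel_left]
        rw [sub_self]
      exact sub_eq_zero.1 ((smul_eq_zero.1 h3).resolve_left (sub_ne_zero.2 hk))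
    exact ⟨key z hz m hm htz, key y hy m' hm' hty⟩
  · exfalso
    obtain ⟨F, iF, hfin, hch, lam, hlam, -, φ, hφz, hφy, hcl⟩ :=
      exists_hom_sl2 h0 σ hgen hxa hyb hz hy hab
    have h2F : (2 : F) ≠ 0 := by
      have h2 : ¬ p ∣ 2 := fun hd => by have := Nat.le_of_dvd (by omega) hd; omega
      intro h
      exact h2 ((CharP.cast_eq_zero_iff F p 2).1 (by exact_mod_cast h))
    have hscal : ∀ M : SpecialLinearGroup (Fin 2) F, Commute M (lowR lam) → Commute M (upR 1) →
        M.1 0 1 = 0 ∧ M.1 1 0 = 0 ∧ M.1 0 0 = M.1 1 1 := by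
      intro M h1 h2
      have e1 := congrArg (fun X : SpecialLinearGroup (Fin 2) F => X.1 0 0) h1.eq
      have e2 := congrArg (fun X : SpecialLinearGroup (Fin 2) F => X.1 0 0) h2.eq
      have e3 := congrArg (fun X : SpecialLinearGroup (Fin 2) F => X.1 0 1) h2.eq
      simp [coe_lowR, coe_upR, Matrix.SpecialLinearGroup.coe_mul, Matrix.mul_apply,
        Fin.sum_univ_two] at e1 e2 e3
      exact ⟨e1.resolve_right hlam, e2, by linear_combination e3⟩
    obtain ⟨hb, hc, had⟩ := hscal (φ (w * w)) (hφz ▸ huz.map φ) (hφy ▸ huy.map φ)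
    have hdet := det2 (φ (w * w))
    rw [hb, hc, zero_mul, sub_zero, ← had] at hdet
    rcases mul_self_eq_one_iff.1 hdet with h1 | h1
    · -- the Weyl element would be scalar
      have hW : φ w * φ w = 1 := by
        rw [← map_mul]
        apply Subtype.ext
        ext i j
        fin_cases i <;> fin_cases j <;> simp [-map_mul, hb, hc, ← had, h1]
      have hWc : ∀ M, φ w * M = M * φ w := by
        have hinv : (φ w)⁻¹ = φ w := inv_eq_of_mul_eq_one_right hW
        have e := congrArg (fun X : SpecialLinearGroup (Fin 2) F => X.1) hinv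
        simp only [Matrix.SpecialLinearGroup.coe_inv, Matrix.adjugate_fin_two] at e
        have e01 := congrFun (congrFun e 0) 1
        have e10 := congrFun (congrFun e 1) 0
        have e00 := congrFun (congrFun e 0) 0
        simp at e01 e10 e00
        have z01 : (φ w).1 0 1 = 0 := by
          have : (2 : F) * (φ w).1 0 1 = 0 := by linear_combination -e01
          exact (mul_eq_zero.1 this).resolve_left h2F
        have z10 : (φ w).1 1 0 = 0 := by
          have : (2 : F) * (φ w).1 1 0 = 0 := by linear_combination -e10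
          exact (mul_eq_zero.1 this).resolve_left h2F
        intro M
        apply Subtype.ext
        ext i j
        fin_cases i <;> fin_cases j <;>
          simp [Matrix.SpecialLinearGroup.coe_mul, Matrix.mul_apply, Fin.sum_univ_two, z01, z10, e00,
            mul_comm]
      have h2 := hwy.map φ
      rw [map_mul, map_mul, map_inv, hWc, mul_inv_cancel_right, hφz, hφy] at h2
      have e1 := congrArg (fun X : SpecialLinearGroup (Fin 2) F => X.1 0 0) h2.eq
      simp [coe_lowR, coe_upR, Matrix.SpecialLinearGroup.coe_mul, Matrix.mul_apply,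
        Fin.sum_univ_two] at e1
      exact hlam e1
    · refine hcl (w * w) (w * w)⁻¹ 4 ?_ ?_
      · rw [map_inv, Matrix.SpecialLinearGroup.coe_inv, Matrix.adjugate_fin_two]
        simp [-map_mul, Matrix.det_fin_two, Matrix.mul_apply, Fin.sum_univ_two, hb, hc, ← had, h1,
          Matrix.ofNat_apply]
        norm_num
      · have hinvu : σ (w * w) * σ (w * w)⁻¹ = 1 := by rw [← map_mul, mul_inv_cancel, map_one]
        have e : (σ (w * w) - 1) * (σ (w * w)⁻¹ - 1) - ((4 : ℕ) : Module.End (ZMod p) V) =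
            -((σ (w * w) + 1) * (σ (w * w) + 1) * σ (w * w)⁻¹) := by
          have e' : σ (w * w) * σ (w * w) * σ (w * w)⁻¹ = σ (w * w) := by rw [mul_assoc, hinvu, mul_one]
          rw [show ((4 : ℕ) : Module.End (ZMod p) V) = 1 + 1 + 1 + 1 by norm_num]
          linear_combination (norm := noncomm_ring) e' + (3 : ℤ) • hinvu
        rw [e]
        exact ((hu.mul hu).mul ((Group.isUnit _).map σ)).neg

/-- An involution attached to a quadratic element. -/
theorem exists_invol (hp5 : 5 ≤ p) (hρ : Function.Injective ρ) (h : SEH P H) {z : G} (hz : z ∈ P)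
    (hz1 : z ≠ 1) (hq : (ρ z - 1) * (ρ z - 1) = 0) :
    ∃ g u : G, u ∈ Subgroup.closure ({z, g * z * g⁻¹} : Set G) ∧ u * u = 1 ∧ Commute u z ∧
      Commute u (g * z * g⁻¹) ∧ (ρ z - 1) * (ρ u + 1) = 0 ∧
      (ρ (g * z * g⁻¹) - 1) * (ρ u + 1) = 0 := by
  classical
  haveI : Finite (Matrix (Fin d) (Fin d) (ZMod p)) := inferInstanceAs (Finite (Fin d → Fin d → ZMod p))
  have h0 : ((p : ℕ) : Matrix (Fin d) (Fin d) (ZMod p)) = 0 := by
    rw [← Matrix.diagonal_natCast, ZMod.natCast_self]
    exact Matrix.diagonal_zero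
  obtain ⟨g, t, w, m, m', e, -, htA, hwA, he, ht, hw, hm, hm', htz, hty, huz, huy, hwy⟩ :=
    h.exists_pair hp5 h0 hρ hz hz1 hq
  set y := g * z * g⁻¹ with hy
  set A := Subgroup.closure ({z, y} : Set G) with hA
  set u := w * w with hu
  have huA : u ∈ A := A.mul_mem hwA hwA
  set T := ρ u with hT
  set U := LinearMap.range (T + 1).mulVecLin with hU
  have hcomm : ∀ a ∈ A, Commute u a := fun a ha => by
    have hle : A ≤ Subgroup.centralizer ({u} : Set G) := by
      refine (Subgroup.closure_le _).2 ?_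
      rintro _ (rfl | hs)
      · exact Subgroup.mem_centralizer_singleton_iff.2 huz.symm.eq
      · rw [Set.mem_singleton_iff] at hs
        rw [hs]
        exact Subgroup.mem_centralizer_singleton_iff.2 huy.symm.eq
    exact (show Commute a u from Subgroup.mem_centralizer_singleton_iff.1 (hle ha)).symm
  have hinv : ∀ a ∈ A, ∀ v ∈ U, (ρ a).mulVecLin v ∈ U := by
    rintro a ha _ ⟨v, rfl⟩
    refine ⟨ρ a *ᵥ v, ?_⟩
    simp only [Matrix.mulVecLin_apply, Matrix.mulVec_mulVec, mul_add, add_mul, mul_one, one_mul, hT,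
      ← map_mul, (hcomm a ha).eq]
  let σ : A →* Module.End (ZMod p) U :=
    { toFun := fun a => (ρ (a : G)).mulVecLin.restrict (hinv a a.2)
      map_one' := LinearMap.ext fun v => Subtype.ext (by
        rw [LinearMap.restrict_coe_apply, Module.End.one_apply, Subgroup.coe_one, map_one,
          Matrix.mulVecLin_apply, Matrix.one_mulVec])
      map_mul' := fun a b => LinearMap.ext fun v => Subtype.ext (by
        rw [LinearMap.restrict_coe_apply, Module.End.mul_apply, LinearMap.restrict_coe_apply,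
          LinearMap.restrict_coe_apply, Subgroup.coe_mul, map_mul, Matrix.mulVecLin_apply,
          Matrix.mulVecLin_apply, Matrix.mulVecLin_apply, Matrix.mulVec_mulVec]) }
  have hσ : ∀ (a : A) (v : U), ((σ a v : U) : Fin d → ZMod p) = ρ (a : G) *ᵥ v.1 := fun a v => rfl
  have hsq : ∀ a : A, (ρ (a : G) - 1) * (ρ (a : G) - 1) = 0 → (σ a - 1) * (σ a - 1) = 0 := fun a ha =>
    LinearMap.ext fun v => Subtype.ext (by
      have := congrArg (· *ᵥ v.1) ha
      simp only [← Matrix.mulVec_mulVec, Matrix.zero_mulVec, Matrix.sub_mulVec, Matrix.one_mulVec,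
        Matrix.mulVec_sub] at this
      simp only [Module.End.mul_apply, LinearMap.sub_apply, Module.End.one_apply, LinearMap.zero_apply,
        AddSubgroupClass.coe_sub, ZeroMemClass.coe_zero, hσ, Matrix.mulVec_sub]
      exact this)
  set uA : A := ⟨u, huA⟩
  -- `T + 1` is bijective on `U`
  have hue : u ^ e = 1 := by rw [hu, (Commute.refl w).mul_pow, hw, one_mul]
  have hinjU : Function.Injective ⇑(σ uA + 1 : Module.End (ZMod p) U) := by
    rw [injective_iff_map_eq_zero]
    rintro ⟨_, v, rfl⟩ hv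
    refine Subtype.ext ?_
    have hv2 : T *ᵥ ((T + 1) *ᵥ v) + (T + 1) *ᵥ v = 0 := congrArg Subtype.val hv
    have hiter : ∀ r : ℕ, (T ^ (2 * r)) *ᵥ v = v - ((2 * r : ℕ) : ZMod p) • ((T + 1) *ᵥ v) := by
      intro r
      induction r with
      | zero => simp
      | succ r ih =>
        set v' := (T + 1) *ᵥ v with hv'
        have hTv : T *ᵥ v = v' - v := by rw [hv', Matrix.add_mulVec, Matrix.one_mulVec, add_sub_cancel_right]
        have hTv' : T *ᵥ v' = -v' := eq_neg_of_add_eq_zero_left hv2
        rw [show 2 * (r + 1) = 1 + 1 + 2 * r by ring, pow_add, pow_add, pow_one, ← Matrix.mulVec_mulVec,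
          ← Matrix.mulVec_mulVec, ih]
        simp only [Matrix.mulVec_sub, Matrix.mulVec_smul, hTv, hTv', Matrix.mulVec_neg]
        push_cast
        module
    have h1 := hiter e
    rw [hT, mul_comm 2 e, pow_mul, ← map_pow, hue, map_one, one_pow, Matrix.one_mulVec] at h1
    have h2 : ((e * 2 : ℕ) : ZMod p) • ((ρ u + 1) *ᵥ v) = 0 := by
      rwa [eq_comm, sub_eq_self] at h1
    refine (smul_eq_zero.1 h2).resolve_left ?_
    rw [ZMod.natCast_eq_zero_iff, hp.out.dvd_mul, not_or]
    exact ⟨hp.out.coprime_iff_not_dvd.1 he.symm,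
      fun hd => by have := Nat.le_of_dvd (by omega) hd; omega⟩
  have hunit : IsUnit (σ uA + 1) :=
    (Module.End.isUnit_iff _).2 ⟨hinjU, LinearMap.injective_iff_surjective.1 hinjU⟩
  set zA : A := ⟨z, Subgroup.subset_closure (by simp)⟩
  set yA : A := ⟨y, Subgroup.subset_closure (Or.inr rfl)⟩
  have hgen : Subgroup.closure ({zA, yA} : Set A) = ⊤ := by
    refine Subgroup.map_injective A.subtype_injective ?_
    rw [MonoidHom.map_closure, ← MonoidHom.range_eq_map, Subgroup.range_subtype, Set.image_pair]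
    rfl
  obtain ⟨hσz, hσy⟩ := trivial_of_free hp5 σ (z := zA) (y := yA) (t := ⟨t, htA⟩) (w := ⟨w, hwA⟩) hgen
    (hsq zA hq) (hsq yA (quad_conj hq g)) he (Subtype.ext ht) hm hm' (Subtype.ext htz) (Subtype.ext hty)
    (Subtype.ext huz.eq) (Subtype.ext huy.eq) (Subtype.ext hwy.eq) hunit
  have hkill : ∀ a : A, σ a = 1 → (ρ (a : G) - 1) * (T + 1) = 0 := fun a ha =>
    Matrix.ext_of_mulVec_single fun i => by
      have := congrArg Subtype.val (LinearMap.congr_fun ha ⟨_, Pi.single i 1, rfl⟩)
      rw [hσ] at this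
      rw [Matrix.zero_mulVec, ← Matrix.mulVec_mulVec, Matrix.sub_mulVec, Matrix.one_mulVec, sub_eq_zero]
      exact this
  refine ⟨g, u, huA, hρ ?_, huz, huy, hkill zA hσz, hkill yA hσy⟩
  have hall : σ uA = 1 := by
    have hle : (⊤ : Subgroup A) ≤ σ.ker := by
      rw [← hgen, Subgroup.closure_le]
      rintro _ (rfl | hs)
      · exact hσz
      · rw [Set.mem_singleton_iff] at hs
        rw [hs]; exact hσy
    exact hle (Subgroup.mem_top uA)
  have h1 : (T - 1) * (T + 1) = 0 := hkill uA hall
  rw [map_mul, map_one, ← hT, ← sub_eq_zero, ← h1]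
  noncomm_ring

end Cfsg.Agent.RegUnip
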