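import Cfsg.Agent.QdFree.Section
import Cfsg.Agent.FusSys.SylowAux
import Cfsg.Agent.FusSys.Embedded
import Mathlib.FieldTheory.Finite.Basic

/-!
A minimal pair of conjugate quadratic elements outside a strongly embedded subgroup.
-/

set_option autoImplicit false

namespace Cfsg.Agent.RegUnip

open Matrix
open Cfsg.Agent.RootSub.Dickson Cfsg.Agent.QdFree
open scoped MatrixGroups

universe u v

variable {p : ℕ} [hp : Fact p.Prime]

theorem lowR_pow {F : Type u} [CommRing F] (s : F) (n : ℕ) :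
    (lowR s : SpecialLinearGroup (Fin 2) F) ^ n = lowR ((n : F) * s) := by
  induction n with
  | zero => simp [lowR_zero]
  | succ n ih => rw [pow_succ, ih, ← lowR_add, Nat.cast_succ, add_mul, one_mul]

theorem upR_pow {F : Type u} [CommRing F] (s : F) (n : ℕ) :
    (upR s : SpecialLinearGroup (Fin 2) F) ^ n = upR ((n : F) * s) := by
  induction n with
  | zero => simp [upR_zero]
  | succ n ih => rw [pow_succ, ih, ← upR_add, Nat.cast_succ, add_mul, one_mul]

theorem lowR_eq_one {F : Type u} [CommRing F] {s : F}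
    (h : (lowR s : SpecialLinearGroup (Fin 2) F) = 1) : s = 0 := by
  simpa [coe_lowR] using congrArg (fun M : SpecialLinearGroup (Fin 2) F => M.1 1 0) h

/-- A torus element and a Weyl element of SL₂ in characteristic `p ≥ 5`. -/
theorem exists_torus_weyl {F : Type u} [Field F] [CharP F p] (hp5 : 5 ≤ p) {lam : F} (hlam : lam ≠ 0) :
    ∃ (τ ω : SpecialLinearGroup (Fin 2) F) (m m' : ℕ),
      τ ^ (p - 1) = 1 ∧ (m : ZMod p) ≠ 1 ∧ (m' : ZMod p) ≠ 1 ∧
      τ * lowR lam * τ⁻¹ = lowR lam ^ m ∧ τ * upR 1 * τ⁻¹ = upR 1 ^ m' ∧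
      ω ^ 4 = 1 ∧ (∀ g, ω * ω * g = g * (ω * ω)) ∧
      ω * lowR lam * ω⁻¹ * upR 1 = upR 1 * (ω * lowR lam * ω⁻¹) := by
  have hnat : ∀ k : ℕ, k ≠ 0 → k < p → (k : ZMod p) ≠ 0 := fun k h1 h2 h => by
    rw [ZMod.natCast_eq_zero_iff] at h
    exact h1 (Nat.eq_zero_of_dvd_of_lt h h2)
  have h2 : (2 : ZMod p) ≠ 0 := by exact_mod_cast hnat 2 (by omega) (by omega)
  have h3 : (3 : ZMod p) ≠ 0 := by exact_mod_cast hnat 3 (by omega) (by omega)
  set ι : ZMod p →+* F := ZMod.castHom (dvd_refl p) F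
  set a : F := ι 2 with ha
  have ha0 : a ≠ 0 := (map_ne_zero ι).2 h2
  obtain ⟨τ, hτ⟩ : ∃ τ : SpecialLinearGroup (Fin 2) F, τ.1 = !![a, 0; 0, a⁻¹] :=
    ⟨⟨_, by simp [Matrix.det_fin_two, ha0]⟩, rfl⟩
  obtain ⟨ω, hω⟩ : ∃ ω : SpecialLinearGroup (Fin 2) F, ω.1 = !![0, 1; -1, 0] :=
    ⟨⟨_, by simp [Matrix.det_fin_two]⟩, rfl⟩
  have hτpow : ∀ n : ℕ, (τ ^ n).1 = !![a ^ n, 0; 0, a⁻¹ ^ n] := fun n => by
    induction n with
    | zero => simp [Matrix.one_fin_two]
    | succ n ih =>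
      rw [pow_succ, Matrix.SpecialLinearGroup.coe_mul, ih, hτ]
      ext i j
      fin_cases i <;> fin_cases j <;> simp [Matrix.mul_apply, Fin.sum_univ_two, pow_succ]
  have hap : a ^ (p - 1) = 1 := by rw [ha, ← map_pow, ZMod.pow_card_sub_one_eq_one h2, map_one]
  have hcast : ∀ c : ZMod p, ((c.val : ℕ) : F) = ι c := fun c => by
    rw [← map_natCast ι, ZMod.natCast_zmod_val]
  refine ⟨τ, ω, ((2 : ZMod p)⁻¹ * (2 : ZMod p)⁻¹).val, ((2 : ZMod p) * 2).val, ?_, ?_, ?_, ?_, ?_,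
    ?_, ?_, ?_⟩
  · apply Subtype.ext
    rw [hτpow, hap, inv_pow, hap, inv_one]
    simp [Matrix.one_fin_two]
  · rw [ZMod.natCast_zmod_val]
    intro h
    refine h3 ?_
    have h4 : ((2 : ZMod p) * 2) * ((2 : ZMod p)⁻¹ * (2 : ZMod p)⁻¹) = 1 := by field_simp
    rw [h] at h4
    linear_combination h4
  · rw [ZMod.natCast_zmod_val]
    intro h
    exact h3 (by linear_combination h)
  · rw [lowR_pow, hcast, map_mul, map_inv₀, ← ha, mul_inv_eq_iff_eq_mul]
    apply Subtype.ext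
    ext i j
    fin_cases i <;> fin_cases j <;>
      simp [hτ, coe_lowR, Matrix.SpecialLinearGroup.coe_mul, Matrix.mul_apply, Fin.sum_univ_two] <;> field_simp
  · rw [upR_pow, hcast, map_mul, ← ha, mul_one, mul_inv_eq_iff_eq_mul]
    apply Subtype.ext
    ext i j
    fin_cases i <;> fin_cases j <;>
      simp [hτ, coe_upR, Matrix.SpecialLinearGroup.coe_mul, Matrix.mul_apply, Fin.sum_univ_two] <;> field_simp
  · apply Subtype.ext
    rw [show (4 : ℕ) = 1 + 1 + 1 + 1 by rfl, pow_succ, pow_succ, pow_succ, pow_one]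
    ext i j
    fin_cases i <;> fin_cases j <;>
      simp [hω, Matrix.SpecialLinearGroup.coe_mul, Matrix.mul_apply, Fin.sum_univ_two]
  · intro g
    apply Subtype.ext
    ext i j
    fin_cases i <;> fin_cases j <;>
      simp [hω, Matrix.SpecialLinearGroup.coe_mul, Matrix.mul_apply, Fin.sum_univ_two]
  · have e : ω * lowR lam * ω⁻¹ = upR (-lam) := by
      rw [mul_inv_eq_iff_eq_mul]
      apply Subtype.ext
      ext i j
      fin_cases i <;> fin_cases j <;>
        simp [hω, coe_lowR, coe_upR, Matrix.SpecialLinearGroup.coe_mul, Matrix.mul_apply, Fin.sum_univ_two]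
    rw [e, ← upR_add, ← upR_add, add_comm]

/-- A nontrivial `p`-power identity in a group of order prime to `p`. -/
theorem eq_one_of_coprime {K : Type v} [Group K] {k : K} {a b : ℕ} (ha : k ^ a = 1) (hb : k ^ b = 1)
    (hab : a.Coprime b) : k = 1 := by
  rw [← orderOf_eq_one_iff]
  exact Nat.eq_one_of_dvd_coprimes hab (orderOf_dvd_of_pow_eq_one ha) (orderOf_dvd_of_pow_eq_one hb)

variable {G : Type v} [Group G] [Finite G] {R : Type u} [Ring R] [Finite R]

theorem pow_p_of_quad (h0 : (p : R) = 0) {ρ : G →* R} (hρ : Function.Injective ρ) {z : G}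
    (hq : (ρ z - 1) * (ρ z - 1) = 0) : z ^ p = 1 := hρ <| by
  have hn : ∀ n : ℕ, (1 + (ρ z - 1)) ^ n = 1 + n * (ρ z - 1) := by
    intro n
    induction n with
    | zero => simp
    | succ n ih => rw [pow_succ, ih, Nat.cast_succ]; linear_combination (norm := noncomm_ring) (n : R) * hq
  have := hn p
  rw [add_sub_cancel, h0, zero_mul, add_zero] at this
  rw [map_pow, map_one, this]

theorem quad_conj {ρ : G →* R} {z : G} (hq : (ρ z - 1) * (ρ z - 1) = 0) (g : G) :
    (ρ (g * z * g⁻¹) - 1) * (ρ (g * z * g⁻¹) - 1) = 0 := by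
  have hgg' : ρ g⁻¹ * ρ g = 1 := by rw [← map_mul, inv_mul_cancel, map_one]
  have e : ρ (g * z * g⁻¹) - 1 = ρ g * (ρ z - 1) * ρ g⁻¹ := by
    rw [map_mul, map_mul, mul_sub, sub_mul, mul_one, ← map_mul ρ g g⁻¹, mul_inv_cancel, map_one]
  rw [e, show ρ g * (ρ z - 1) * ρ g⁻¹ * (ρ g * (ρ z - 1) * ρ g⁻¹) =
    ρ g * (ρ z - 1) * (ρ g⁻¹ * ρ g) * (ρ z - 1) * ρ g⁻¹ by simp [mul_assoc], hgg', mul_one,
    mul_assoc (ρ g), hq, mul_zero, zero_mul]

/-- Two quadratic generators of a subgroup that is not a `p`-group map it onto SL₂. -/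
theorem pair_hom (hp5 : 5 ≤ p) (h0 : (p : R) = 0) {ρ : G →* R} (hρ : Function.Injective ρ) {x y : G}
    (hx : (ρ x - 1) * (ρ x - 1) = 0) (hy : (ρ y - 1) * (ρ y - 1) = 0)
    (hnp : ¬ IsPGroup p (Subgroup.closure ({x, y} : Set G))) :
    ∃ (F : Type u) (_ : Field F) (_ : CharP F p) (lam : F), lam ≠ 0 ∧
      ∃ φ : Subgroup.closure ({x, y} : Set G) →* SpecialLinearGroup (Fin 2) F,
        Function.Surjective φ ∧ φ ⟨x, Subgroup.subset_closure (by simp)⟩ = lowR lam ∧
          φ ⟨y, Subgroup.subset_closure (by simp)⟩ = upR 1 := by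
  set A := Subgroup.closure ({x, y} : Set G)
  set x' : A := ⟨x, Subgroup.subset_closure (by simp)⟩
  set y' : A := ⟨y, Subgroup.subset_closure (by simp)⟩
  have hgen : Subgroup.closure ({x', y'} : Set A) = ⊤ := by
    refine Subgroup.map_injective A.subtype_injective ?_
    rw [MonoidHom.map_closure, ← MonoidHom.range_eq_map, Subgroup.range_subtype, Set.image_pair]
    rfl
  have hinj : Function.Injective (ρ.comp A.subtype) := hρ.comp A.subtype_injective
  have hxa : (ρ.comp A.subtype) x' = 1 + (ρ x - 1) := by rw [add_sub_cancel]; rfl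
  have hyb : (ρ.comp A.subtype) y' = 1 + (ρ y - 1) := by rw [add_sub_cancel]; rfl
  have hab : ¬ IsNilpotent ((ρ x - 1) * (ρ y - 1)) := fun hn =>
    hnp (isPGroup_of_pair h0 _ hinj hgen hxa hyb hx hy hn)
  obtain ⟨F, iF, hfin, hch, lam, hlam, hlg, φ, hφx, hφy, -⟩ :=
    exists_hom_sl2 h0 _ hgen hxa hyb hx hy hab
  refine ⟨F, iF, hch, lam, hlam, φ, ?_, hφx, hφy⟩
  rw [← MonoidHom.range_eq_top, eq_top_iff, ← closure_pair_eq_top hp5 hlam hlg, Subgroup.closure_le]
  rintro _ (rfl | hz)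
  · exact ⟨x', hφx⟩
  · rw [Set.mem_singleton_iff] at hz
    exact ⟨y', hφy.trans hz.symm⟩

/-- A quadratic element centralises every subgroup of order prime to `p` it normalises. -/
theorem commute_of_coprime (hp5 : 5 ≤ p) (h0 : (p : R) = 0) {ρ : G →* R} (hρ : Function.Injective ρ)
    {z : G} (hq : (ρ z - 1) * (ρ z - 1) = 0) {N : Subgroup G}
    (hn : z ∈ Subgroup.normalizer (N : Set G)) (hN : (Nat.card N).Coprime p) {k : G} (hk : k ∈ N) :
    Commute z k := by
  set B := Subgroup.closure ({z, k * z * k⁻¹} : Set G) with hB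
  have hzN : Subgroup.zpowers z ≤ Subgroup.normalizer (N : Set G) := Subgroup.zpowers_le.2 hn
  have hcomm : ∀ b ∈ B, b * z * b⁻¹ * z⁻¹ ∈ N := by
    intro b hb
    have hle : B ≤ N ⊔ Subgroup.zpowers z := by
      rw [hB, Subgroup.closure_le]
      rintro _ (rfl | hz)
      · exact Subgroup.mem_sup_right (Subgroup.mem_zpowers _)
      · rw [Set.mem_singleton_iff] at hz
        rw [hz]
        exact Subgroup.mul_mem _ (Subgroup.mul_mem _ (Subgroup.mem_sup_left hk)
          (Subgroup.mem_sup_right (Subgroup.mem_zpowers z))) (Subgroup.mem_sup_left (N.inv_mem hk))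
    have hb' : b ∈ ((N ⊔ Subgroup.zpowers z : Subgroup G) : Set G) := hle hb
    rw [Subgroup.coe_mul_of_right_le_normalizer_left _ _ hzN] at hb'
    obtain ⟨n, hnN, _, ⟨i, rfl⟩, rfl⟩ := hb'
    have e : n * z ^ i * z * (n * z ^ i)⁻¹ * z⁻¹ = n * (z * n⁻¹ * z⁻¹) := by
      have hcz : Commute (z ^ i) z := (Commute.refl z).zpow_left i
      calc n * z ^ i * z * (n * z ^ i)⁻¹ * z⁻¹ = n * (z ^ i * z) * (z ^ i)⁻¹ * n⁻¹ * z⁻¹ := by group
        _ = n * (z * z ^ i) * (z ^ i)⁻¹ * n⁻¹ * z⁻¹ := by rw [hcz.eq]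
        _ = n * (z * n⁻¹ * z⁻¹) := by group
    show n * z ^ i * z * (n * z ^ i)⁻¹ * z⁻¹ ∈ N
    rw [e]
    exact N.mul_mem hnN ((Subgroup.mem_normalizer_iff.1 hn _).1 (N.inv_mem hnN))
  by_cases hBp : IsPGroup p B
  · have hkB : k * z * k⁻¹ * z⁻¹ ∈ B :=
      B.mul_mem (Subgroup.subset_closure (by simp)) (B.inv_mem (Subgroup.subset_closure (by simp)))
    have hkN : k * z * k⁻¹ * z⁻¹ ∈ N := by
      have e : k * z * k⁻¹ * z⁻¹ = k * (z * k⁻¹ * z⁻¹) := by group
      rw [e]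
      exact N.mul_mem hk ((Subgroup.mem_normalizer_iff.1 hn _).1 (N.inv_mem hk))
    obtain ⟨e, he⟩ := hBp ⟨_, hkB⟩
    have h1 : (k * z * k⁻¹ * z⁻¹) ^ (p ^ e) = 1 := congrArg Subtype.val he
    have h2 : (k * z * k⁻¹ * z⁻¹) ^ Nat.card N = 1 :=
      congrArg Subtype.val (pow_card_eq_one' (x := (⟨_, hkN⟩ : N)))
    have h3 := eq_one_of_coprime h2 h1 (Nat.Coprime.pow_right e hN)
    rw [mul_inv_eq_one, mul_inv_eq_iff_eq_mul] at h3
    exact h3.symm
  · exfalso
    obtain ⟨F, _, _, lam, hlam, φ, hsurj, hφz, -⟩ := pair_hom hp5 h0 hρ hq (quad_conj hq k) hBp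
    obtain ⟨τ, -, m, -, -, hm, -, hτ, -⟩ := exists_torus_weyl (p := p) hp5 hlam
    obtain ⟨b, hb⟩ := hsurj τ
    set z' : B := ⟨z, Subgroup.subset_closure (by simp)⟩
    have hc : ((b * z' * b⁻¹ * z'⁻¹ : B) : G) ∈ N := hcomm b b.2
    have h2 : (b * z' * b⁻¹ * z'⁻¹) ^ Nat.card N = 1 := by
      refine Subtype.ext ?_
      rw [Subgroup.coe_pow]
      exact congrArg Subtype.val (pow_card_eq_one' (x := (⟨_, hc⟩ : N)))
    have h4 := congrArg φ h2
    simp only [map_pow, map_mul, map_inv, hb, map_one] at h4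
    rw [hφz, hτ, lowR_pow, lowR_inv, ← lowR_add, lowR_pow] at h4
    rcases mul_eq_zero.1 (lowR_eq_one h4) with h5 | h5
    · rw [CharP.cast_eq_zero_iff F p] at h5
      exact hp.out.coprime_iff_not_dvd.1 hN.symm h5
    · have h6 : ((m : F) - 1) * lam = 0 := by linear_combination h5
      rcases mul_eq_zero.1 h6 with h7 | h7
      · refine hm ((ZMod.castHom (dvd_refl p) F).injective ?_)
        rw [map_natCast, map_one, sub_eq_zero.1 h7]
      · exact hlam h7

/-- The standing hypotheses on the Sylow subgroup. -/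
structure SEH (P : Sylow p G) (H : Subgroup G) : Prop where
  top : H ≠ ⊤
  ne : (P : Subgroup G) ≠ ⊥
  norm : ∀ Q : Subgroup G, Q ≤ P → Q ≠ ⊥ → Subgroup.normalizer (Q : Set G) ≤ H

namespace SEH

variable {P : Sylow p G} {H : Subgroup G} (h : SEH P H)
include h

theorem le : (P : Subgroup G) ≤ H := Subgroup.le_normalizer.trans (h.norm _ le_rfl h.ne)

theorem mem_of {x q : G} (hq : q ∈ P) (hq1 : q ≠ 1) (hx : x * q * x⁻¹ ∈ P) : x ∈ H :=
  FusSys.mem_of_normalizers_le P h.norm (Subgroup.zpowers q) x (Subgroup.zpowers_le.2 hq)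
    (by rwa [Ne, Subgroup.zpowers_eq_bot]) (by
      rintro _ ⟨n, rfl⟩
      rw [← conj_zpow]
      exact zpow_mem (show x * q * x⁻¹ ∈ (P : Subgroup G) from hx) n)

theorem exists_conj_in {Q : Subgroup G} (hQ : IsPGroup p Q) (hQH : Q ≤ H) :
    ∃ y ∈ H, ∀ q ∈ Q, y * q * y⁻¹ ∈ P := by
  obtain ⟨y, hy⟩ := FusSys.exists_conj_mem_sylow (R := Q.subgroupOf H)
    hQ.comap_subtype (P.subtype h.le)
  exact ⟨y, y.2, fun q hq => hy ⟨q, hQH hq⟩ hq⟩

theorem normalizer_le {Q : Subgroup G} (hQ : IsPGroup p Q) (hQ1 : Q ≠ ⊥) (hQH : Q ≤ H) :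
    Subgroup.normalizer (Q : Set G) ≤ H := by
  obtain ⟨y, hy, hyQ⟩ := h.exists_conj_in hQ hQH
  intro n hn
  have hle : Q.map (MulAut.conj y).toMonoidHom ≤ P := by
    rintro _ ⟨q, hq, rfl⟩
    exact hyQ q hq
  have hne : Q.map (MulAut.conj y).toMonoidHom ≠ ⊥ := fun e =>
    hQ1 ((Subgroup.map_eq_bot_iff_of_injective Q (MulAut.conj y).injective).1 e)
  have h1 := h.norm _ hle hne
  have h2 : y * n * y⁻¹ ∈ Subgroup.normalizer ((Q.map (MulAut.conj y).toMonoidHom : Subgroup G) : Set G) := by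
    rw [← Subgroup.map_equiv_normalizer_eq]
    exact Subgroup.mem_map.2 ⟨n, hn, rfl⟩
  have h3 := H.mul_mem (H.mul_mem (H.inv_mem hy) (h1 h2)) hy
  simpa [mul_assoc] using h3

theorem pCore_false {O : Subgroup G} [O.Normal] (hO : IsPGroup p O) : O = ⊥ := by
  by_contra hne
  have hle : O ≤ P := hO.le_sylow_of_normal P
  exact h.top (top_le_iff.1 ((Subgroup.normalizer_eq_top O).ge.trans (h.norm O hle hne)))

/-- Conjugates generating a `p`-group come from inside. -/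
theorem mem_of_isPGroup {z g : G} (hz : z ∈ P) (hz1 : z ≠ 1)
    (hp' : IsPGroup p (Subgroup.closure ({z, g * z * g⁻¹} : Set G))) : g ∈ H := by
  obtain ⟨c, hc⟩ := FusSys.exists_conj_mem_sylow hp' P
  have h1 : c ∈ H := h.mem_of hz hz1 (hc z (Subgroup.subset_closure (by simp)))
  have h2 : c * g ∈ H := h.mem_of hz hz1 (by
    have := hc (g * z * g⁻¹) (Subgroup.subset_closure (by simp))
    show c * g * z * (c * g)⁻¹ ∈ (P : Subgroup G)
    simpa [mul_assoc] using this)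
  simpa using H.mul_mem (H.inv_mem h1) h2

theorem mem_of_conj_mem {z g : G} (hz : z ∈ P) (hz1 : z ≠ 1) (hg : g * z * g⁻¹ ∈ H) : g ∈ H := by
  have hP : IsPGroup p (Subgroup.zpowers (g * z * g⁻¹)) :=
    (P.2.to_le (Subgroup.zpowers_le.2 hz)).map (MulAut.conj g).toMonoidHom |>.to_le
      (Subgroup.zpowers_le.2 ⟨z, Subgroup.mem_zpowers z, rfl⟩)
  obtain ⟨y, hy, hyQ⟩ := h.exists_conj_in hP (Subgroup.zpowers_le.2 hg)
  have h2 : y * g ∈ H := h.mem_of hz hz1 (by
    have := hyQ _ (Subgroup.mem_zpowers _)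
    simpa [mul_assoc] using this)
  simpa using H.mul_mem (H.inv_mem hy) h2

/-- The torus and Weyl elements of a minimal pair. -/
theorem exists_pair (hp5 : 5 ≤ p) (h0 : (p : R) = 0) {ρ : G →* R} (hρ : Function.Injective ρ) {z : G}
    (hz : z ∈ P) (hz1 : z ≠ 1) (hq : (ρ z - 1) * (ρ z - 1) = 0) :
    ∃ (g t w : G) (m m' e : ℕ), g ∉ H ∧
      t ∈ Subgroup.closure ({z, g * z * g⁻¹} : Set G) ∧
      w ∈ Subgroup.closure ({z, g * z * g⁻¹} : Set G) ∧
      e.Coprime p ∧ t ^ e = 1 ∧ w ^ e = 1 ∧ (m : ZMod p) ≠ 1 ∧ (m' : ZMod p) ≠ 1 ∧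
      t * z * t⁻¹ = z ^ m ∧ t * (g * z * g⁻¹) * t⁻¹ = (g * z * g⁻¹) ^ m' ∧
      Commute (w * w) z ∧ Commute (w * w) (g * z * g⁻¹) ∧
      Commute (w * z * w⁻¹) (g * z * g⁻¹) := by
  classical
  obtain ⟨g₀, hg₀⟩ : ∃ g, g ∉ H := by
    by_contra! hc
    exact h.top ((Subgroup.eq_top_iff' _).2 hc)
  have hex : ∃ n, ∃ g, g ∉ H ∧ Nat.card (Subgroup.closure ({z, g * z * g⁻¹} : Set G)) = n :=
    ⟨_, g₀, hg₀, rfl⟩
  obtain ⟨g, hg, hcard⟩ := Nat.find_spec hex
  set y := g * z * g⁻¹ with hy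
  set A := Subgroup.closure ({z, y} : Set G) with hA
  have hnp : ¬ IsPGroup p A := fun hp' => hg (h.mem_of_isPGroup hz hz1 hp')
  have hAH : ¬ A ≤ H := fun hle =>
    hg (h.mem_of_conj_mem hz hz1 (hle (Subgroup.subset_closure (Or.inr rfl))))
  have hqy := quad_conj hq g
  obtain ⟨F, _, _, lam, hlam, φ, hsurj, hφz, hφy⟩ := pair_hom hp5 h0 hρ hq hqy hnp
  set z' : A := ⟨z, Subgroup.subset_closure (by simp)⟩
  set y' : A := ⟨y, Subgroup.subset_closure (by simp)⟩
  set K := φ.ker with hK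
  -- the kernel lies inside
  have hKH : ∀ k : A, k ∈ K → (k : G) ∈ H := by
    intro k hk
    by_contra hkH
    have hle : Subgroup.closure ({z, (k : G) * z * (k : G)⁻¹} : Set G) ≤
        ((Subgroup.zpowers (lowR lam)).comap φ).map A.subtype := by
      rw [Subgroup.closure_le]
      rintro _ (rfl | hw)
      · exact ⟨z', Subgroup.mem_comap.2 (hφz ▸ Subgroup.mem_zpowers _), rfl⟩
      · rw [Set.mem_singleton_iff] at hw
        refine ⟨k * z' * k⁻¹, Subgroup.mem_comap.2 ?_, hw.symm⟩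
        rw [map_mul, map_mul, map_inv, (MonoidHom.mem_ker.1 hk), hφz, inv_one, mul_one, one_mul]
        exact Subgroup.mem_zpowers _
    have hne : ((Subgroup.zpowers (lowR lam)).comap φ).map A.subtype ≠ A := by
      intro e
      have h1 : (y : G) ∈ ((Subgroup.zpowers (lowR lam)).comap φ).map A.subtype :=
        e.symm ▸ Subgroup.subset_closure (by simp)
      obtain ⟨b, hb, hby⟩ := h1
      have hby' : b = y' := Subtype.ext hby
      subst hby'
      rw [SetLike.mem_coe, Subgroup.mem_comap, hφy] at hb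
      obtain ⟨i, hi⟩ := hb
      have hall : ∀ x ∈ Subgroup.zpowers (lowR lam : SpecialLinearGroup (Fin 2) F),
          x * lowR lam = lowR lam * x := by
        rintro _ ⟨i, rfl⟩
        exact ((Commute.refl (lowR lam : SpecialLinearGroup (Fin 2) F)).zpow_left i).eq
      have h2 := congrArg (fun M : SpecialLinearGroup (Fin 2) F => M.1 0 0)
        (hall (upR 1) ⟨i, hi⟩)
      simp [coe_upR, coe_lowR, Matrix.SpecialLinearGroup.coe_mul, Matrix.mul_apply, Fin.sum_univ_two] at h2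
      exact hlam h2
    have hlt : ((Subgroup.zpowers (lowR lam)).comap φ).map A.subtype < A :=
      lt_of_le_of_ne (Subgroup.map_subtype_le _) hne
    refine Nat.find_min hex ?_ ⟨(k : G), hkH, rfl⟩
    rw [← hcard]
    exact lt_of_le_of_lt (Subgroup.card_le_of_le hle) (lt_of_not_ge fun hc =>
      hne (Subgroup.eq_of_le_of_card_ge hlt.le hc))
  -- the kernel has order prime to `p`
  have hKp : (Nat.card K).Coprime p := by
    rw [Nat.coprime_comm, hp.out.coprime_iff_not_dvd]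
    intro hdvd
    let Q : Sylow p K := default
    have hQne : (Q : Subgroup K) ≠ ⊥ := Q.ne_bot_of_dvd_card hdvd
    have htop := Sylow.normalizer_sup_eq_top Q
    set Q' := ((Q : Subgroup K).map K.subtype).map A.subtype with hQ'
    have hQ'H : Q' ≤ H := by
      rintro _ ⟨a, ⟨q, -, rfl⟩, rfl⟩
      exact hKH q q.2
    have hQ'p : IsPGroup p Q' := (Q.2.map _).map _
    have hQ'1 : Q' ≠ ⊥ := fun e => hQne ((Subgroup.map_eq_bot_iff_of_injective _ K.subtype_injective).1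
      ((Subgroup.map_eq_bot_iff_of_injective _ A.subtype_injective).1 e))
    refine hAH ?_
    have hle : Subgroup.normalizer (((Q : Subgroup K).map K.subtype : Subgroup A) : Set A) ⊔ K ≤
        H.comap A.subtype := by
      refine sup_le (fun a ha => h.normalizer_le hQ'p hQ'1 hQ'H ?_) fun k hk => hKH k hk
      exact Subgroup.le_normalizer_map _ ⟨a, ha, rfl⟩
    rw [htop] at hle
    exact fun a ha => hle (x := ⟨a, ha⟩) (Subgroup.mem_top _)
  -- and is central
  have hKc : ∀ k ∈ K, ∀ a : A, Commute a k := by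
    intro k hk a
    have hn : ∀ b : A, b ∈ Subgroup.normalizer (K : Set A) := fun b => by
      rw [Subgroup.normalizer_eq_top K]; exact Subgroup.mem_top b
    have key : ∀ b : A, (ρ b - 1) * (ρ b - 1) = 0 → Commute b k := fun b hb =>
      commute_of_coprime (ρ := ρ.comp A.subtype) hp5 h0 (hρ.comp A.subtype_injective) hb (hn b) hKp hk
    have hle : A ≤ (Subgroup.centralizer ({k} : Set A)).map A.subtype := by
      refine (Subgroup.closure_le _).2 ?_
      rintro _ (rfl | hw)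
      · exact ⟨z', Subgroup.mem_centralizer_singleton_iff.2 (key z' hq).eq, rfl⟩
      · rw [Set.mem_singleton_iff] at hw
        exact ⟨y', Subgroup.mem_centralizer_singleton_iff.2 (key y' hqy).eq, hw.symm⟩
    obtain ⟨b, hb, hba⟩ := hle a.2
    rw [← Subtype.ext hba]
    exact Subgroup.mem_centralizer_singleton_iff.1 hb
  have heq : ∀ a b : A, a ^ p = 1 → b ^ p = 1 → φ a = φ b → a = b := by
    intro a b ha hb he
    have hk : b⁻¹ * a ∈ K := by rw [hK, MonoidHom.mem_ker, map_mul, map_inv, he, inv_mul_cancel]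
    have h1 : (b⁻¹ * a) ^ p = 1 := by
      have hc : Commute b (b⁻¹ * a) := hKc _ hk b
      have h2 := hc.mul_pow p
      rw [mul_inv_cancel_left, ha, hb, one_mul] at h2
      exact h2.symm
    have h2 : (b⁻¹ * a) ^ Nat.card K = 1 := congrArg Subtype.val (pow_card_eq_one' (x := (⟨_, hk⟩ : K)))
    exact (inv_mul_eq_one.1 (eq_one_of_coprime h2 h1 hKp)).symm
  obtain ⟨τ, ω, m, m', hτp, hm, hm', hτz, hτy, hω4, hωc, hωy⟩ := exists_torus_weyl (p := p) hp5 hlam
  obtain ⟨t, ht⟩ := hsurj τ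
  obtain ⟨w, hw⟩ := hsurj ω
  have hzp : z' ^ p = 1 := Subtype.ext (pow_p_of_quad h0 hρ hq)
  have hyp : y' ^ p = 1 := Subtype.ext (pow_p_of_quad h0 hρ hqy)
  have hcp : ∀ (b a : A), a ^ p = 1 → (b * a * b⁻¹) ^ p = 1 := fun b a ha => by
    rw [conj_pow, ha, mul_one, mul_inv_cancel]
  have hpp : ∀ a : A, a ^ p = 1 → ∀ n : ℕ, (a ^ n) ^ p = 1 := fun a ha n => by
    rw [← pow_mul, mul_comm, pow_mul, ha, one_pow]
  refine ⟨g, t, w, m, m', (p - 1) * 4 * Nat.card K, hg, t.2, w.2, ?_, ?_, ?_, hm, hm', ?_, ?_, ?_, ?_,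
    ?_⟩
  · refine Nat.Coprime.mul_left (Nat.Coprime.mul_left ?_ ?_) hKp
    · exact (hp.out.coprime_iff_not_dvd.2 fun hd => by have := Nat.le_of_dvd (by omega) hd; omega).symm
    · exact (hp.out.coprime_iff_not_dvd.2 fun hd => by have := Nat.le_of_dvd (by omega) hd; omega).symm
  · have hk : t ^ ((p - 1) * 4) ∈ K := by
      rw [hK, MonoidHom.mem_ker, map_pow, ht, pow_mul, hτp, one_pow]
    rw [pow_mul]
    exact congrArg (fun k : K => ((k : A) : G)) (pow_card_eq_one' (x := (⟨_, hk⟩ : K)))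
  · have hk : w ^ ((p - 1) * 4) ∈ K := by
      rw [hK, MonoidHom.mem_ker, map_pow, hw, mul_comm, pow_mul, hω4, one_pow]
    rw [pow_mul]
    exact congrArg (fun k : K => ((k : A) : G)) (pow_card_eq_one' (x := (⟨_, hk⟩ : K)))
  · refine congrArg Subtype.val (heq (t * z' * t⁻¹) (z' ^ m) (hcp _ _ hzp) (hpp _ hzp m) ?_)
    rw [map_mul, map_mul, map_inv, map_pow, ht, hφz, hτz]
  · refine congrArg Subtype.val (heq (t * y' * t⁻¹) (y' ^ m') (hcp _ _ hyp) (hpp _ hyp m') ?_)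
    rw [map_mul, map_mul, map_inv, map_pow, ht, hφy, hτy]
  · have e : w * w * z' * (w * w)⁻¹ = z' := heq _ _ (hcp _ _ hzp) hzp (by
      rw [map_mul, map_mul, map_inv, map_mul, hw, hφz, hωc, mul_inv_cancel_right])
    have e' := congrArg Subtype.val e
    exact mul_inv_eq_iff_eq_mul.1 e'
  · have e : w * w * y' * (w * w)⁻¹ = y' := heq _ _ (hcp _ _ hyp) hyp (by
      rw [map_mul, map_mul, map_inv, map_mul, hw, hφy, hωc, mul_inv_cancel_right])
    exact mul_inv_eq_iff_eq_mul.1 (congrArg Subtype.val e)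
  · set a := w * z' * w⁻¹ with ha
    have e : y' * a * y'⁻¹ = a := heq _ _ (hcp _ _ (hcp _ _ hzp)) (hcp _ _ hzp) (by
      rw [map_mul, map_mul, map_inv, ha, map_mul, map_mul, map_inv, hw, hφz, hφy, ← hωy,
        mul_inv_cancel_right])
    exact (mul_inv_eq_iff_eq_mul.1 (congrArg Subtype.val e)).symm

end SEH

end Cfsg.Agent.RegUnip
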