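import Cfsg.Agent.RegUnip.Low
import Mathlib.Algebra.BigOperators.Ring.Finset
import Mathlib.Algebra.BigOperators.Pi

/-!
Tensor products of matrices, indexed by tuples, and nilpotency of differences of ring endomorphisms.
-/

set_option autoImplicit false

namespace Cfsg.Agent.RegUnip

open Finset Matrix

universe u v

variable {k : Type v} [CommRing k] {n m : ℕ}

/-- The tensor product of a tuple of matrices. -/
def tp (A : Fin n → Matrix (Fin m) (Fin m) k) :
    Matrix (Fin n → Fin m) (Fin n → Fin m) k :=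
  Matrix.of fun I L => ∏ s, A s (I s) (L s)

theorem tp_apply (A : Fin n → Matrix (Fin m) (Fin m) k) (I L : Fin n → Fin m) :
    tp A I L = ∏ s, A s (I s) (L s) := rfl

theorem tp_mul (A B : Fin n → Matrix (Fin m) (Fin m) k) :
    tp A * tp B = tp fun s => A s * B s := by
  ext I L
  simp only [Matrix.mul_apply, tp_apply]
  rw [Finset.prod_univ_sum, Fintype.piFinset_univ]
  exact Finset.sum_congr rfl fun r _ => Finset.prod_mul_distrib.symm

theorem tp_one : tp (fun _ => (1 : Matrix (Fin m) (Fin m) k)) = (1 : Matrix (Fin n → Fin m) _ k) := by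
  ext I L
  rw [tp_apply]
  rcases eq_or_ne I L with rfl | h
  · simp
  · obtain ⟨s, hs⟩ := Function.ne_iff.1 h
    rw [Matrix.one_apply_ne h]
    exact Finset.prod_eq_zero (mem_univ s) (Matrix.one_apply_ne hs)

/-- The tensor power. -/
def tpow (n : ℕ) : Matrix (Fin m) (Fin m) k →* Matrix (Fin n → Fin m) (Fin n → Fin m) k where
  toFun A := tp fun _ => A
  map_one' := tp_one
  map_mul' A B := (tp_mul _ _).symm

theorem tpow_apply (n : ℕ) (A : Matrix (Fin m) (Fin m) k) : tpow n A = tp fun _ => A := rfl

/-- The degree of a tuple. -/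
def tdeg (n m : ℕ) (I : Fin n → Fin m) : ℤ := ∑ s, fdeg m (I s)

theorem tdeg_nonneg (I : Fin n → Fin m) : 0 ≤ tdeg n m I :=
  Finset.sum_nonneg fun _ _ => by simp [fdeg]

theorem tdeg_le (I : Fin n → Fin m) : tdeg n m I ≤ (n : ℤ) * ((m : ℤ) - 1) := by
  refine le_trans (Finset.sum_le_card_nsmul _ _ ((m : ℤ) - 1) fun s _ => ?_) ?_
  · simp only [fdeg]
    have := (I s).2
    omega
  · simp

theorem low_any_tensor (X : Matrix (Fin n → Fin m) (Fin n → Fin m) k) :
    Low (tdeg n m) (-((n : ℤ) * ((m : ℤ) - 1))) X := fun I L _ => by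
  have := tdeg_nonneg I
  have := tdeg_le L
  omega

theorem tensor_eq_zero {e : ℤ} {X : Matrix (Fin n → Fin m) (Fin n → Fin m) k}
    (h : Low (tdeg n m) e X) (he : (n : ℤ) * ((m : ℤ) - 1) < e) : X = 0 := by
  ext I L
  refine h.apply_eq_zero ?_
  have := tdeg_nonneg L
  have := tdeg_le I
  omega

theorem low_tp {A : Fin n → Matrix (Fin m) (Fin m) k} {e : Fin n → ℤ}
    (h : ∀ s, Low (fdeg m) (e s) (A s)) : Low (tdeg n m) (∑ s, e s) (tp A) := fun I L hne => by
  rw [tdeg, tdeg, ← Finset.sum_add_distrib]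
  refine Finset.sum_le_sum fun s _ => h s _ _ fun h0 => hne ?_
  rw [tp_apply]
  exact Finset.prod_eq_zero (mem_univ s) h0

theorem cong_tp {A A' : Fin n → Matrix (Fin m) (Fin m) k} {e : Fin n → ℤ}
    (h : ∀ s, Low (fdeg m) (e s) (A s)) (h' : ∀ s, Low (fdeg m) (e s) (A' s))
    (hc : ∀ s, Cong (fdeg m) (e s + 1) (A s) (A' s)) :
    Cong (tdeg n m) ((∑ s, e s) + 1) (tp A) (tp A') := fun I L hne => by
  by_contra hlt
  refine hne ?_
  rw [Matrix.sub_apply, tp_apply, tp_apply, sub_eq_zero]
  by_cases h0 : ∃ s, fdeg m (I s) < fdeg m (L s) + e s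
  · obtain ⟨s, hs⟩ := h0
    rw [Finset.prod_eq_zero (mem_univ s) ((h s).apply_eq_zero hs),
      Finset.prod_eq_zero (mem_univ s) ((h' s).apply_eq_zero hs)]
  · push Not at h0
    refine Finset.prod_congr rfl fun s _ => (hc s).apply_eq ?_
    by_contra hs
    refine hlt ?_
    rw [tdeg, tdeg]
    calc _ = ∑ r, (fdeg m (L r) + e r) + 1 := by rw [Finset.sum_add_distrib]; ring
      _ ≤ ∑ r, fdeg m (I r) := Int.add_one_le_iff.2
          (Finset.sum_lt_sum (fun r _ => h0 r) ⟨s, mem_univ s, by omega⟩)

theorem tp_smul (c : Fin n → k) (A : Fin n → Matrix (Fin m) (Fin m) k) :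
    tp (fun s => c s • A s) = (∏ s, c s) • tp A := by
  ext I L
  simp only [tp_apply, Matrix.smul_apply, smul_eq_mul, Finset.prod_mul_distrib]

theorem trace_tp (A : Fin n → Matrix (Fin m) (Fin m) k) :
    Matrix.trace (tp A) = ∏ s, Matrix.trace (A s) := by
  simp only [Matrix.trace, Matrix.diag, tp_apply]
  rw [Finset.prod_univ_sum, Fintype.piFinset_univ]

/-! ### Ring endomorphisms -/

variable {R : Type u} [Ring R]

/-- Iterated differences of a ring endomorphism. -/
def dif (α : R →+* R) : ℕ → R → R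
  | 0, x => x
  | s + 1, x => dif α s (α x - x)

theorem dif_zero (α : R →+* R) (s : ℕ) : dif α s 0 = 0 := by
  induction s with
  | zero => rfl
  | succ s ih => rw [dif, map_zero, sub_zero, ih]

theorem dif_add (α : R →+* R) (s : ℕ) (x y : R) : dif α s (x + y) = dif α s x + dif α s y := by
  induction s generalizing x y with
  | zero => rfl
  | succ s ih => rw [dif, dif, dif, map_add, ← ih]; congr 1; abel

theorem dif_comm (α : R →+* R) (s : ℕ) (x : R) : dif α s (α x) = α (dif α s x) := by
  induction s generalizing x with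
  | zero => rfl
  | succ s ih => rw [dif, dif, ← ih, map_sub]

theorem dif_mono (α : R →+* R) {s t : ℕ} (h : s ≤ t) {x : R} (hx : dif α s x = 0) : dif α t x = 0 := by
  obtain ⟨r, rfl⟩ := Nat.exists_eq_add_of_le h
  clear h
  induction s generalizing x with
  | zero => rw [dif] at hx; rw [hx, dif_zero]
  | succ s ih =>
    rw [Nat.add_right_comm, dif]
    exact ih hx

/-- Leibniz rule for iterated differences. -/
theorem dif_mul (α : R →+* R) : ∀ (s t : ℕ) {x y : R}, dif α (s + 1) x = 0 → dif α (t + 1) y = 0 →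
    dif α (s + t + 1) (x * y) = 0 := by
  intro s t
  induction hn : s + t using Nat.strong_induction_on generalizing s t with
  | _ N ih =>
    intro x y hx hy
    subst hn
    rw [dif, show α (x * y) - x * y = (α x - x) * y + α x * (α y - y) by
      rw [map_mul, sub_mul, mul_sub]; abel, dif_add]
    have h1 : dif α (s + t) ((α x - x) * y) = 0 := by
      rcases s with _ | s
      · rw [dif, dif] at hx
        rw [hx, zero_mul, dif_zero]
      · rw [dif] at hx
        have := ih (s + t) (by omega) s t rfl hx hy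
        rwa [Nat.add_right_comm] at this
    have h2 : dif α (s + t) (α x * (α y - y)) = 0 := by
      have hx' : dif α (s + 1) (α x) = 0 := by rw [dif_comm, hx, map_zero]
      rcases t with _ | t
      · rw [dif, dif] at hy
        rw [hy, mul_zero, dif_zero]
      · rw [dif] at hy
        exact ih (s + t) (by omega) s t rfl hx' hy
    rw [h1, h2, add_zero]

theorem dif_one (α : R →+* R) : dif α 1 1 = 0 := by rw [dif, dif, map_one, sub_self]

theorem dif_pow (α : R →+* R) {s : ℕ} {x : R} (hx : dif α (s + 1) x = 0) (a : ℕ) :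
    dif α (a * s + 1) (x ^ a) = 0 := by
  induction a with
  | zero => rw [Nat.zero_mul, pow_zero]; exact dif_one α
  | succ a ih =>
    rw [pow_succ, Nat.succ_mul]
    exact dif_mul α (a * s) s ih hx

/-- Conjugation by a unit as a ring endomorphism. -/
def conjHom (x : Rˣ) : R →+* R where
  toFun A := (x : R) * A * (↑x⁻¹ : R)
  map_one' := by simp
  map_mul' A B := by simp [mul_assoc]
  map_zero' := by simp
  map_add' A B := by rw [mul_add, add_mul]

theorem conjHom_apply (x : Rˣ) (A : R) : conjHom x A = (x : R) * A * (↑x⁻¹ : R) := rfl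

/-- For conjugation by `x` the differences are iterated commutators with `x - 1`. -/
theorem dif_conj_three (x : Rˣ) {F : R} (N : R) (hN : (x : R) = 1 + N)
    (h : N * (N * (N * F - F * N) - (N * F - F * N) * N) -
      (N * (N * F - F * N) - (N * F - F * N) * N) * N = 0) :
    dif (conjHom x) 3 F = 0 := by
  have step : ∀ A : R, conjHom x A - A = (N * A - A * N) * (↑x⁻¹ : R) := fun A => by
    have e : A = A * (x : R) * (↑x⁻¹ : R) := by rw [mul_assoc, Units.mul_inv, mul_one]
    conv_lhs => rw [conjHom_apply]; arg 2; rw [e]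
    rw [← sub_mul, hN]; congr 1; noncomm_ring
  have hc : Commute N (↑x⁻¹ : R) := by
    refine Commute.units_inv_right ?_
    rw [hN]
    exact (Commute.one_right N).add_right (Commute.refl N)
  have step' : ∀ (A u : R), Commute N u → conjHom x (A * u) - A * u =
      (N * A - A * N) * (u * (↑x⁻¹ : R)) := fun A u hu => by
    rw [step, ← mul_assoc (N * A - A * N), sub_mul (N * A) (A * N), mul_assoc A N u, hu.eq]
    congr 1; noncomm_ring
  rw [dif, step, dif, step' _ _ hc, dif, step' _ _ (hc.mul_right hc), dif, h, zero_mul]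

end Cfsg.Agent.RegUnip
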