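import Cfsg.Agent.RegUnip.Core
import Mathlib.GroupTheory.Index
import Mathlib.LinearAlgebra.Matrix.NonsingularInverse

/-!
Elements normalising a regular unipotent subgroup scale the degree filtration.
-/

set_option autoImplicit false

namespace Cfsg.Agent.RegUnip

open Finset Matrix

universe u v

variable {p : ℕ} [hp : Fact p.Prime] {m n : ℕ}

/-- The diagonal matrix of the powers of `μ`. -/
def scal (m : ℕ) (μ : ZMod p) : Matrix (Fin m) (Fin m) (ZMod p) :=
  Matrix.diagonal fun i => μ ^ (i : ℕ)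

theorem low_scal (μ : ZMod p) : Low (fdeg m) 0 (scal m μ) := fun i l hne => by
  rcases eq_or_ne i l with rfl | h
  · simp
  · exact absurd (Matrix.diagonal_apply_ne _ h) hne

theorem tp_scal (μ : ZMod p) : tpow n (scal m μ) =
    Matrix.diagonal fun I : Fin n → Fin m => μ ^ (∑ s, (I s : ℕ)) := by
  ext I L
  rw [tpow_apply, tp_apply]
  rcases eq_or_ne I L with rfl | h
  · rw [Matrix.diagonal_apply_eq, ← Finset.prod_pow_eq_pow_sum]
    exact Finset.prod_congr rfl fun s _ => Matrix.diagonal_apply_eq _ _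
  · obtain ⟨s, hs⟩ := Function.ne_iff.1 h
    rw [Matrix.diagonal_apply_ne _ h]
    exact Finset.prod_eq_zero (mem_univ s) (Matrix.diagonal_apply_ne _ hs)

theorem tdeg_eq_natCast (I : Fin n → Fin m) : tdeg n m I = ((∑ s, (I s : ℕ)) : ℕ) := by
  rw [tdeg, Nat.cast_sum]
  rfl

/-- A matrix carrying the shift to `μ` times the shift modulo degree two is triangular with diagonal
`c μ ^ i`. -/
theorem triangular {T N' : Matrix (Fin m) (Fin m) (ZMod p)} {μ : ZMod p} (hm : 0 < m)
    (hT : T * shift (ZMod p) m = N' * T) (hN : Cong (fdeg m) 2 N' (μ • shift (ZMod p) m))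
    (hunit : IsUnit T) :
    ∃ c : ZMod p, c ≠ 0 ∧ Low (fdeg m) 0 T ∧ Cong (fdeg m) 1 T (c • scal m μ) := by
  have hN1 : Low (fdeg m) 1 N' := hN.low (low_shift.smul μ) (by omega)
  set z : Fin m := ⟨0, hm⟩
  have hTpow : ∀ a : ℕ, T * shift (ZMod p) m ^ a = N' ^ a * T := fun a => by
    induction a with
    | zero => simp
    | succ a ih => rw [pow_succ, pow_succ, ← mul_assoc, ih, mul_assoc, hT, ← mul_assoc]
  have hcol : ∀ i l : Fin m, T i l = (N' ^ (l : ℕ) * T) i z := fun i l => by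
    rw [← hTpow, Matrix.mul_apply, Finset.sum_eq_single l]
    · rw [shift_pow_apply, if_pos (by show (l : ℕ) = 0 + l; omega), mul_one]
    · intro r _ hr
      rw [shift_pow_apply, if_neg (fun h => hr (Fin.ext (by
        have : (r : ℕ) = 0 + l := h; omega))), mul_zero]
    · simp
  have hpow : ∀ a : ℕ, Low (fdeg m) a (N' ^ a) := fun a => (hN1.pow a).mono (by omega)
  have hlow : Low (fdeg m) 0 T := fun i l hne => by
    rw [hcol, Matrix.mul_apply] at hne
    obtain ⟨r, -, hr⟩ := exists_ne_zero_of_sum_ne_zero hne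
    have h1 := hpow l i r (left_ne_zero_of_mul hr)
    simp only [fdeg] at h1 ⊢
    omega
  have hdiag : ∀ l : Fin m, T l l = μ ^ (l : ℕ) * T z z := fun l => by
    rw [hcol, Matrix.mul_apply, Finset.sum_eq_single z]
    · congr 1
      have h1 := (Cong.pow hN (low_shift.smul μ) l).apply_eq (i := l) (l := z)
        (by simp [fdeg, z])
      rw [h1, smul_pow, Matrix.smul_apply, shift_pow_apply,
        if_pos (by show (l : ℕ) = 0 + l; omega), smul_eq_mul, mul_one]
    · intro r _ hr
      have hr0 : (r : ℕ) ≠ 0 := fun h => hr (Fin.ext h)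
      rw [(hpow l).apply_eq_zero (by simp only [fdeg]; omega), zero_mul]
    · simp
  refine ⟨T z z, fun h0 => ?_, hlow, fun i l hne => ?_⟩
  · obtain ⟨u, hu⟩ := hunit
    have h1 : (T * (↑u⁻¹ : Matrix (Fin m) (Fin m) (ZMod p))) z z = 1 := by
      rw [← hu, Units.mul_inv, Matrix.one_apply_eq]
    rw [Matrix.mul_apply, Finset.sum_eq_zero fun r _ => ?_] at h1
    · exact one_ne_zero h1.symm
    rcases eq_or_ne r z with rfl | hr
    · rw [h0, zero_mul]
    · rw [hlow.apply_eq_zero (by
        have : (r : ℕ) ≠ 0 := fun h => hr (Fin.ext h)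
        show ((0 : ℕ) : ℤ) < ((r : ℕ) : ℤ) + 0; omega), zero_mul]
  · by_contra hlt
    simp only [fdeg] at hlt
    refine hne ?_
    rw [Matrix.sub_apply, Matrix.smul_apply, smul_eq_mul]
    rcases eq_or_ne i l with rfl | hil
    · rw [hdiag, scal, Matrix.diagonal_apply_eq, mul_comm, sub_self]
    · have : (i : ℕ) ≠ (l : ℕ) := fun h => hil (Fin.ext h)
      rw [hlow.apply_eq_zero (by simp only [fdeg]; omega), scal, Matrix.diagonal_apply_ne _ hil,
        mul_zero, sub_zero]

/-- The lowest part of an invariant tensor endomorphism has degree killed by the scale. -/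
theorem low_succ_of_commute {T : Matrix (Fin m) (Fin m) (ZMod p)} {μ c : ZMod p} (hc : c ≠ 0)
    (hμ : μ ≠ 0) (hT0 : Low (fdeg m) 0 T) (hT : Cong (fdeg m) 1 T (c • scal m μ))
    {w : Matrix (Fin n → Fin m) (Fin n → Fin m) (ZMod p)} (hw : Commute (tpow n T) w) {e : ℕ}
    (hwe : Low (tdeg n m) e w) (he : μ ^ e ≠ 1) : Low (tdeg n m) (e + 1) w := fun I L hne => by
  have h0 := hwe I L hne
  by_contra hlt
  have heq : tdeg n m I = tdeg n m L + e := by omega
  set D := (c ^ n) • tpow n (scal m μ) with hD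
  have hTD : Cong (tdeg n m) 1 (tpow n T) D := by
    have h1 := cong_tp (A := fun _ : Fin n => T) (A' := fun _ => c • scal m μ) (e := fun _ => 0)
      (fun _ => hT0) (fun _ => (low_scal μ).smul c) (fun _ => by simpa using hT)
    rw [tp_smul] at h1
    simpa [hD, tpow_apply] using h1
  have hDl : Low (tdeg n m) 0 D := hTD.symm.low (by
    simpa [tpow_apply] using low_tp (A := fun _ : Fin n => T) (e := fun _ => 0) fun _ => hT0) (by omega)
  have hTl : Low (tdeg n m) 0 (tpow n T) := hTD.low hDl (by omega)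
  have h1 : Cong (tdeg n m) ((0 : ℤ) + e + 1) (tpow n T * w) (D * w) :=
    Cong.mul hTD (Cong.refl w) hTl hwe
  have h2 : Cong (tdeg n m) ((e : ℤ) + 0 + 1) (w * tpow n T) (w * D) :=
    Cong.mul (Cong.refl w) hTD hwe hDl
  have h3 : (D * w) I L = (w * D) I L := by
    rw [← h1.apply_eq (by omega), ← h2.apply_eq (by omega), hw.eq]
  rw [hD, Matrix.smul_mul, Matrix.mul_smul, Matrix.smul_apply, Matrix.smul_apply, tp_scal,
    Matrix.diagonal_mul, Matrix.mul_diagonal, smul_eq_mul, smul_eq_mul] at h3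
  have h4 := mul_left_cancel₀ (pow_ne_zero n hc) h3
  rw [mul_comm (w I L)] at h4
  have h5 := mul_right_cancel₀ hne h4
  have hnat : (∑ s, (I s : ℕ)) = (∑ s, (L s : ℕ)) + e := by
    have := tdeg_eq_natCast I
    have := tdeg_eq_natCast L
    omega
  rw [hnat, pow_add] at h5
  exact he (mul_left_cancel₀ (pow_ne_zero _ hμ) (h5.trans (mul_one _).symm))

section group

variable {G : Type u} [Group G] (ρ : G →* Matrix (Fin m) (Fin m) (ZMod p))

/-- `t` scales the shift by `μ`. -/
def Scales (t : G) (μ : ZMod p) : Prop :=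
  Cong (fdeg m) 2 (cj ρ t (shift (ZMod p) m)) (μ • shift (ZMod p) m)

theorem isUnit_rho (g : G) : IsUnit (ρ g) := (Group.isUnit g).map ρ

theorem cj_mul_rho (g : G) (A : Matrix (Fin m) (Fin m) (ZMod p)) : cj ρ g A * ρ g = ρ g * A := by
  rw [cj, mul_assoc, ← map_mul, inv_mul_cancel, map_one, mul_one]

/-- A conjugate of the shift commuting with the shift is a nonzero multiple of it modulo degree two. -/
theorem exists_scales (hm : 2 ≤ m) {t : G}
    (hc : Commute (cj ρ t (shift (ZMod p) m)) (shift (ZMod p) m)) :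
    ∃ μ : ZMod p, μ ≠ 0 ∧ Scales ρ t μ := by
  set N := shift (ZMod p) m with hN
  set N' := cj ρ t N with hN'
  have hnil : ∀ a, N' ^ a = cj ρ t (N ^ a) := fun a => (cj_pow_mat ρ t N a).symm
  have hne : ∀ a, a < m → N' ^ a ≠ 0 := fun a ha h0 => by
    have h1 : N ^ a = 0 := by
      rw [hnil, cj] at h0
      calc N ^ a = ρ t⁻¹ * (ρ t * N ^ a * ρ t⁻¹) * ρ t := by
            rw [← mul_assoc, ← mul_assoc, ← map_mul, inv_mul_cancel, map_one, one_mul, mul_assoc,
              ← map_mul, inv_mul_cancel, map_one, mul_one]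
        _ = 0 := by rw [h0, mul_zero, zero_mul]
    have h2 := congrFun (congrFun h1 (⟨a, ha⟩ : Fin m)) ⟨0, by omega⟩
    rw [hN, shift_pow_apply, if_pos (by simp)] at h2
    exact one_ne_zero h2
  have hN'0 : N' ≠ 0 := by simpa using hne 1 (by omega)
  obtain ⟨j, c, hjm, hc0, hlow, hcong⟩ := exists_lead hc hN'0
  have hj : 1 ≤ j := by
    by_contra hj0
    obtain rfl : j = 0 := by omega
    have h2 := hnil m
    rw [hN, shift_pow_eq_zero le_rfl, cj, mul_zero, zero_mul] at h2
    -- the lowest coefficient of a power is a power of the coefficient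
    have h3 : ∀ a : ℕ, Low (fdeg m) 0 (N' ^ a) ∧ Cong (fdeg m) 1 (N' ^ a) (c ^ a • 1) := fun a => by
      induction a with
      | zero => simp only [pow_zero, one_smul]; exact ⟨Low.one, Cong.refl _⟩
      | succ a ih =>
        refine ⟨(hlow.pow (a + 1)).mono (by simp), ?_⟩
        have h4 := Cong.mul (a := 0) (b := 0) ih.2 (by simpa using hcong) ih.1 ((Low.one).smul c)
        rw [Matrix.smul_mul, Matrix.mul_smul, one_mul, smul_smul, ← pow_succ, ← pow_succ,
          show ((0 : ℤ) + 0 + 1) = 1 by norm_num] at h4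
        exact h4
    have h5 := (h3 m).2.apply_eq (i := ⟨0, by omega⟩) (l := ⟨0, by omega⟩) (by simp)
    rw [h2] at h5
    simp at h5
    exact hc0 (eq_zero_of_pow_eq_zero h5.symm)
  rcases Nat.lt_or_ge j 2 with hj2 | hj2
  · obtain rfl : j = 1 := by omega
    refine ⟨c, hc0, ?_⟩
    simpa [Scales, pow_one] using hcong
  · exfalso
    refine hne (m - 1) (by omega) (low_eq_zero ?_ (hlow.pow (m - 1)))
    have h2 : (2 : ℤ) * ((m - 1 : ℕ) : ℤ) ≤ ((m - 1 : ℕ) : ℤ) * j := by
      rw [mul_comm]; exact mul_le_mul_of_nonneg_left (by exact_mod_cast hj2) (by positivity)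
    omega

theorem scales_pow {t : G} {μ : ZMod p} (h : Scales ρ t μ) (a : ℕ) :
    Cong (fdeg m) (a + 1) (cj ρ t (shift (ZMod p) m ^ a)) (μ ^ a • shift (ZMod p) m ^ a) := by
  rw [cj_pow_mat, ← smul_pow]
  exact Cong.pow h (low_shift.smul μ) a

theorem Scales.low {t : G} {μ : ZMod p} (h : Scales ρ t μ) :
    Low (fdeg m) 1 (cj ρ t (shift (ZMod p) m)) :=
  Cong.low h (low_shift.smul μ) (by omega)

/-- The tensor of shift powers is scaled by `μ` to the total exponent. -/
theorem scales_tp {t : G} {μ : ZMod p} (h : Scales ρ t μ) (a : Fin n → ℕ) :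
    Cong (tdeg n m) ((∑ s, (a s : ℤ)) + 1)
      (cj (tρ ρ n) t (tp fun s => shift (ZMod p) m ^ a s))
      (μ ^ (∑ s, a s) • tp fun s => shift (ZMod p) m ^ a s) := by
  rw [cj_tp, ← Finset.prod_pow_eq_pow_sum, ← tp_smul]
  refine cong_tp (fun s => ?_) (fun s => ((low_shift.pow (a s)).mono (by simp)).smul _)
    fun s => scales_pow ρ h (a s)
  rw [cj_pow_mat]
  exact (h.low.pow (a s)).mono (by simp)

theorem commute_tρ_of_fixed {w : Matrix (Fin n → Fin m) (Fin n → Fin m) (ZMod p)} {t : G}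
    (hw : cj (tρ ρ n) t w = w) : Commute (tpow n (ρ t)) w := by
  have h : tρ ρ n t * w = w * tρ ρ n t := by
    conv_rhs => rw [← hw]
    rw [cj, mul_assoc, ← map_mul, inv_mul_cancel, map_one, mul_one]
  exact h

/-- Invariant tensor endomorphisms can be pushed up through degrees not fixed by the torus. -/
theorem low_of_torus {L : Subgroup G} (hm : 2 ≤ m)
    (hL : ∀ t ∈ L, Commute (cj ρ t (shift (ZMod p) m)) (shift (ZMod p) m))
    {w : Matrix (Fin n → Fin m) (Fin n → Fin m) (ZMod p)} (hw : ∀ g, cj (tρ ρ n) g w = w)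
    (hw1 : Low (tdeg n m) 1 w) {N : ℕ}
    (hmove : ∀ e, 0 < e → e < N → ∃ t ∈ L, ∀ μ, Scales ρ t μ → μ ^ e ≠ 1) :
    Low (tdeg n m) N w := by
  suffices h : ∀ e : ℕ, e + 1 ≤ N → Low (tdeg n m) ((e : ℤ) + 1) w by
    rcases Nat.eq_zero_or_pos N with rfl | hN
    · exact hw1.mono (by simp)
    · exact (h (N - 1) (by omega)).mono (by omega)
  intro e
  induction e with
  | zero => intro _; simpa using hw1
  | succ e ih =>
    intro he
    obtain ⟨t, ht, hmv⟩ := hmove (e + 1) (by omega) (by omega)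
    obtain ⟨μ, hμ, hs⟩ := exists_scales ρ hm (hL t ht)
    obtain ⟨c, hc, hlow, hcong⟩ := triangular (by omega) (cj_mul_rho ρ t _).symm hs (isUnit_rho ρ t)
    have h1 : Low (tdeg n m) ((e + 1 : ℕ) : ℤ) w := (ih (by omega)).mono (by omega)
    exact low_succ_of_commute hc hμ hlow hcong (commute_tρ_of_fixed ρ (hw t)) h1 (hmv μ hs)

/-- Cosets of `M` inside `L`. -/
theorem card_filter_mem [Finite G] (M L : Subgroup G) (hML : M ≤ L) [Fintype (G ⧸ M)]
    [DecidablePred fun q : G ⧸ M => q.out ∈ L] :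
    (Finset.univ.filter fun q : G ⧸ M => q.out ∈ L).card = M.relIndex L := by
  rw [← Fintype.card_subtype, ← Nat.card_eq_fintype_card, Subgroup.relIndex, Subgroup.index_eq_card]
  have hmem : ∀ g : G, (g : G ⧸ M).out ∈ L ↔ g ∈ L := fun g => by
    obtain ⟨h, hh⟩ := QuotientGroup.mk_out_eq_mul M g
    rw [hh]
    exact ⟨fun h1 => by simpa using L.mul_mem h1 (L.inv_mem (hML h.2)),
      fun h1 => L.mul_mem h1 (hML h.2)⟩
  refine Nat.card_congr (Equiv.ofBijective
    (fun q => ⟦⟨q.1.out, q.2⟩⟧) ⟨fun a b h => ?_, fun c => ?_⟩)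
  · have h1 : QuotientGroup.leftRel (M.subgroupOf L) _ _ := Quotient.exact h
    rw [QuotientGroup.leftRel_apply, Subgroup.mem_subgroupOf] at h1
    have h2 : (a.1.out : G ⧸ M) = b.1.out := QuotientGroup.eq.2 (by simpa using h1)
    rw [QuotientGroup.out_eq', QuotientGroup.out_eq'] at h2
    exact Subtype.ext h2
  · obtain ⟨l, rfl⟩ := Quotient.exists_rep c
    refine ⟨⟨((l : G) : G ⧸ M), (hmem l).2 l.2⟩, Quotient.sound ?_⟩
    show QuotientGroup.leftRel _ _ _
    rw [QuotientGroup.leftRel_apply, Subgroup.mem_subgroupOf]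
    obtain ⟨h, hh⟩ := QuotientGroup.mk_out_eq_mul M (l : G)
    simp [hh]

end group

end Cfsg.Agent.RegUnip
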