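import Cfsg.Agent.RegUnip.Tensor
import Mathlib.RingTheory.Polynomial.Cyclotomic.Basic
import Mathlib.GroupTheory.Coset.Basic
import Mathlib.GroupTheory.GroupAction.Quotient
import Mathlib.Algebra.Module.ZMod
import Mathlib.Algebra.Module.LinearMap.End
import Mathlib.Algebra.Polynomial.AlgebraMap
import Mathlib.Algebra.Algebra.Basic
import Mathlib.LinearAlgebra.Basis.VectorSpace

/-!
Relative traces for groups acting by conjugation on a ring, and the norm of an element of order `p`
as a power of a difference operator.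
-/

set_option autoImplicit false

namespace Cfsg.Agent.RegUnip

open Finset

universe u v

/-! ### The norm of an element of order `p` -/

variable {R : Type u} [Ring R] {p : ℕ} [hp : Fact p.Prime]

theorem sum_pow_eq : (∑ i ∈ range p, (Polynomial.X : Polynomial (ZMod p)) ^ i) =
    (Polynomial.X - 1) ^ (p - 1) := by
  have hne : (Polynomial.X - 1 : Polynomial (ZMod p)) ≠ 0 := by
    simpa using Polynomial.X_sub_C_ne_zero (1 : ZMod p)
  refine mul_right_cancel₀ hne ?_
  rw [geom_sum_mul, ← pow_succ, Nat.sub_add_cancel hp.out.one_le, sub_pow_char, one_pow]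

/-- The sum of the first `p` iterates of a ring endomorphism is an iterated difference. -/
theorem sum_iterate (h0 : (p : R) = 0) (α : R →+* R) (x : R) :
    (∑ i ∈ range p, (α^[i]) x) = dif α (p - 1) x := by
  obtain ⟨mod⟩ : Nonempty (Module (ZMod p) R) :=
    ⟨AddCommGroup.zmodModule fun r => by rw [nsmul_eq_mul, h0, zero_mul]⟩
  let f : Module.End (ZMod p) R := AddMonoidHom.toZModLinearMap (M := R) (M₁ := R) p α.toAddMonoidHom
  have hf : ∀ (i : ℕ) (y : R), (f ^ i) y = (α^[i]) y := fun i y => by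
    induction i generalizing y with
    | zero => rfl
    | succ i ih => rw [pow_succ, Module.End.mul_apply, ih, Function.iterate_succ_apply]; rfl
  have hd : ∀ (s : ℕ) (y : R), ((f - 1) ^ s) y = dif α s y := fun s y => by
    induction s generalizing y with
    | zero => rfl
    | succ s ih => rw [pow_succ, Module.End.mul_apply, ih]; rfl
  have h := congrArg (fun P => (Polynomial.aeval f P) x) (sum_pow_eq (p := p))
  simp only [map_sum, map_pow, map_sub, map_one, Polynomial.aeval_X, LinearMap.coe_sum,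
    Finset.sum_apply] at h
  rw [← hd, ← h]
  exact Finset.sum_congr rfl fun i _ => (hf i x).symm

/-! ### Relative traces -/

variable {G : Type v} [Group G]

/-- Conjugation through a representation. -/
def cj (ρ : G →* R) (g : G) (X : R) : R := ρ g * X * ρ g⁻¹

omit hp in
theorem cj_mul (ρ : G →* R) (g h : G) (X : R) : cj ρ (g * h) X = cj ρ g (cj ρ h X) := by
  simp only [cj, map_mul, mul_inv_rev, mul_assoc]

omit hp in
theorem cj_one (ρ : G →* R) (X : R) : cj ρ 1 X = X := by simp [cj]

omit hp in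
theorem cj_sum (ρ : G →* R) (g : G) {κ : Type*} (s : Finset κ) (f : κ → R) :
    cj ρ g (∑ x ∈ s, f x) = ∑ x ∈ s, cj ρ g (f x) := by
  simp only [cj, Finset.mul_sum, Finset.sum_mul]

omit hp in
theorem cj_eq_conjHom (ρ : G →* R) (g : G) (X : R) : cj ρ g X = conjHom (ρ.toHomUnits g) X := by
  rw [cj, conjHom_apply, ← map_inv]
  rfl

omit hp in
theorem cj_pow (ρ : G →* R) (g : G) (i : ℕ) (X : R) :
    cj ρ (g ^ i) X = ((conjHom (ρ.toHomUnits g))^[i]) X := by
  induction i generalizing X with
  | zero => rw [pow_zero, cj_one]; rfl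
  | succ i ih => rw [pow_succ, cj_mul, ih, cj_eq_conjHom, Function.iterate_succ_apply]

/-- The norm of an element of order `p`. -/
theorem sum_zpowers_cj (h0 : (p : R) = 0) (ρ : G →* R) {x : G} (hx : orderOf x = p) (X : R)
    [Fintype (Subgroup.zpowers x)] :
    (∑ q : Subgroup.zpowers x, cj ρ q X) = dif (conjHom (ρ.toHomUnits x)) (p - 1) X := by
  have hfin : IsOfFinOrder x := orderOf_pos_iff.1 (hx.symm ▸ hp.out.pos)
  rw [← sum_iterate h0, ← Fin.sum_univ_eq_sum_range (fun i => ((conjHom (ρ.toHomUnits x))^[i]) X) p]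
  refine (Fintype.sum_equiv ((finCongr hx.symm).trans (finEquivZPowers hfin)) _ _ fun i => ?_).symm
  rw [← cj_pow]
  rfl

variable [Finite G]

omit hp in
/-- The trace from a subgroup `M` fixing `v`, split along a subgroup `L` outside which `P` acts
freely on the cosets of `M`. -/
theorem exists_trace (ρ : G →* R) (M L P : Subgroup G) (hML : M ≤ L) (hPL : P ≤ L) {v : R}
    (hv : ∀ t ∈ M, cj ρ t v = v)
    (hfree : ∀ g, g ∉ L → ∀ q ∈ P, g⁻¹ * q * g ∈ M → q = 1)
    [Fintype (G ⧸ M)] [Fintype P] [DecidablePred fun q : G ⧸ M => q.out ∈ L] :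
    ∃ u : R, (∀ g, cj ρ g (∑ q : G ⧸ M, cj ρ q.out v) = ∑ q : G ⧸ M, cj ρ q.out v) ∧
      (∑ q : G ⧸ M, cj ρ q.out v) =
        (∑ q ∈ univ.filter (fun q : G ⧸ M => q.out ∈ L), cj ρ q.out v) + ∑ x : P, cj ρ x u := by
  classical
  let f : G ⧸ M → R := fun q => cj ρ q.out v
  have hfm : ∀ g : G, f (g : G ⧸ M) = cj ρ g v := fun g => by
    obtain ⟨h, hh⟩ := QuotientGroup.mk_out_eq_mul M g
    show cj ρ (Quotient.out (g : G ⧸ M)) v = _
    rw [hh, cj_mul, hv h h.2]
  have hact : ∀ (g : G) (q : G ⧸ M), f (g • q) = cj ρ g (f q) := fun g q => by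
    obtain ⟨a, rfl⟩ := QuotientGroup.mk_surjective q
    show f ((g * a : G) : G ⧸ M) = _
    rw [hfm, hfm, cj_mul]
  set S := univ.filter (fun q : G ⧸ M => q.out ∈ L) with hS
  have hmemL : ∀ g : G, (g : G ⧸ M).out ∈ L ↔ g ∈ L := fun g => by
    obtain ⟨h, hh⟩ := QuotientGroup.mk_out_eq_mul M g
    rw [hh]
    exact ⟨fun h1 => by simpa using L.mul_mem h1 (L.inv_mem (hML h.2)),
      fun h1 => L.mul_mem h1 (hML h.2)⟩
  -- orbits of `P` outside `S`
  let Bad := {q : G ⧸ M // q.out ∉ L}
  letI : MulAction P Bad :=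
    { smul := fun x q => ⟨(x : G) • q.1, fun h => q.2 (by
        obtain ⟨a, ha⟩ := QuotientGroup.mk_surjective q.1
        rw [← ha] at h ⊢
        change ((x * a : G) : G ⧸ M).out ∈ L at h
        rw [hmemL] at h ⊢
        simpa using L.mul_mem (L.inv_mem (hPL x.2)) h)⟩
      one_smul := fun q => Subtype.ext (one_smul G q.1)
      mul_smul := fun x y q => Subtype.ext (mul_smul (x : G) (y : G) q.1) }
  have hinj : ∀ (q : Bad) (x y : P), x • q = y • q → x = y := fun q x y h => by
    obtain ⟨a, ha⟩ := QuotientGroup.mk_surjective q.1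
    have h1 : ((x : G) * a : G ⧸ M) = ((y : G) * a : G ⧸ M) := by
      have := congrArg Subtype.val h
      change (x : G) • q.1 = (y : G) • q.1 at this
      rwa [← ha] at this
    have h2 := hfree a (fun h3 => q.2 (by rw [← ha, hmemL]; exact h3)) ((x : G)⁻¹ * y)
      (P.mul_mem (P.inv_mem x.2) y.2) (by
        have := QuotientGroup.eq.1 h1
        rwa [mul_inv_rev, ← mul_assoc, mul_assoc a⁻¹ (x : G)⁻¹ (y : G)] at this)
    exact Subtype.ext (inv_mul_eq_one.1 h2)
  let O := Quotient (MulAction.orbitRel P Bad)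
  letI : Fintype O := Fintype.ofFinite _
  let e : P × O → Bad := fun xo => xo.1 • xo.2.out
  have he : Function.Bijective e := by
    refine ⟨fun a b h => ?_, fun q => ?_⟩
    · have h2 : a.2 = b.2 := by
        have hmk : ∀ xo : P × O, (Quotient.mk'' (e xo) : O) = xo.2 := fun xo =>
          (Quotient.sound (MulAction.orbitRel_apply.2 (MulAction.mem_orbit _ _))).trans
            (Quotient.out_eq xo.2)
        rw [← hmk a, h, hmk b]
      refine Prod.ext ?_ h2
      have h' : a.1 • a.2.out = b.1 • b.2.out := h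
      rw [← h2] at h'
      exact hinj _ _ _ h'
    · have hq : (Quotient.mk'' q : O).out ∈ MulAction.orbit P q :=
        MulAction.orbitRel_apply.1 (Quotient.exact (Quotient.out_eq (Quotient.mk'' q : O)))
      obtain ⟨x, hx⟩ := hq
      refine ⟨(x⁻¹, Quotient.mk'' q), ?_⟩
      show x⁻¹ • _ = q
      rw [← hx, inv_smul_smul]
  refine ⟨∑ o : O, f o.out.1, fun g => ?_, ?_⟩
  · rw [cj_sum]
    exact Fintype.sum_equiv (MulAction.toPerm g) _ f fun q => (hact g q).symm
  · rw [← Finset.sum_filter_add_sum_filter_not univ (fun q : G ⧸ M => q.out ∈ L) fun q => cj ρ q.out v]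
    congr 1
    rw [Finset.sum_subtype (univ.filter fun q : G ⧸ M => ¬ q.out ∈ L) (p := fun q => q.out ∉ L)
      (fun q => by simp) fun q => cj ρ q.out v]
    simp only [cj_sum]
    rw [← Fintype.sum_prod_type' (f := fun (x : P) (o : O) => cj ρ x (f o.out.1))]
    exact (Fintype.sum_bijective e he _ _ fun xo => (hact _ _).symm).symm

end Cfsg.Agent.RegUnip
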